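import Cfsg.Agent.SJ1.Base
import Cfsg.Agent.StdU3.Fld
import Mathlib.FieldTheory.Finite.Extension

/-! # Standard subgroups `L₂(2ᵃ)`: the special group of order `q ^ 3`, first part -/

set_option autoImplicit false
set_option linter.unusedSectionVars false

namespace Cfsg.Lib.SJ1

open Subgroup Cfsg.Lib.Gold Cfsg.Lib.Trans Cfsg.Lib.StdSz
open scoped commutatorElement MatrixGroups

variable {G : Type*} [Group G] [Finite G] {F : Type*} [Field F] [Finite F]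

/-- Counting by fibres. -/
theorem card_le_fib {Y : Type*} [Finite Y] (I N : Set G) (ψ : I → Y)
    (h : ∀ g g' : I, ψ g = ψ g' → (g : G)⁻¹ * g' ∈ N) :
    Nat.card I ≤ Nat.card Y * Nat.card N := by
  classical
  rw [← Nat.card_prod]
  have hρ : ∀ g : I, ∃ g0 : I, ψ g0 = ψ g := fun g => ⟨g, rfl⟩
  let ρ : Y → G := fun y => if hy : ∃ g0 : I, ψ g0 = y then (hy.choose : G) else 1
  have h1 : ∀ g : I, (ρ (ψ g))⁻¹ * g ∈ N := fun g => by
    simp only [ρ, dif_pos (hρ g)]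
    exact h _ _ (hρ g).choose_spec
  refine Nat.card_le_card_of_injective (fun g : I => (ψ g, (⟨_, h1 g⟩ : N))) fun g g' e => ?_
  simp only [Prod.mk.injEq, Subtype.mk.injEq] at e
  obtain ⟨e1, e2⟩ := e
  rw [e1] at e2
  exact Subtype.ext (mul_left_cancel e2)

/-- `b + σ b` is of the form `x ^ 2 + x`. -/
theorem exists_as_trace (h2 : (2 : F) = 0) (σ : RingAut F) (b : F) : ∃ x, x * x + x = b + σ b := by
  have : CharP F 2 := CharTwo.of_one_ne_zero_of_two_eq_zero one_ne_zero h2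
  let _ := ZMod.algebra F 2
  obtain ⟨i, hi⟩ := FiniteField.exists_forall_apply_eq_pow (ZMod 2) 2 F
    (AlgEquiv.ofRingEquiv (f := σ) fun x => by
      rw [← RingEquiv.coe_toRingHom, ← RingHom.comp_apply]
      exact congrFun (congrArg _ (RingHom.ext_zmod _ _)) x)
  have e : σ b = b ^ 2 ^ i := by simpa using hi b
  rw [e]
  clear e hi
  induction i with
  | zero => exact ⟨0, by rw [pow_zero, pow_one]; linear_combination -b * h2⟩
  | succ i ih =>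
    obtain ⟨x, hx⟩ := ih
    refine ⟨x + b ^ 2 ^ i, ?_⟩
    rw [pow_succ, pow_mul]
    linear_combination hx + (x * b ^ 2 ^ i + b ^ 2 ^ i) * h2

namespace Q3

variable {D : Dat G F} (E : Q3 D)

theorem r_inv {g : G} (hg : g ∈ E.P) : E.r g⁻¹ = E.r g := by rw [E.r_add.inv hg, D.negF]

theorem s_inv {g : G} (hg : g ∈ E.P) : E.s g⁻¹ = E.s g := by rw [E.s_add.inv hg, D.negF]

theorem t_N : D.t ∈ Ns E.P := E.B_le (D.W_le_B (mem_sup_right (mem_zpowers _)))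

theorem tt_mem {g : G} (hg : g ∈ E.P) : D.t * g * D.t ∈ E.P := by
  have := mem_normalizer_conj E.t_N hg
  rwa [D.t_inv] at this

theorem four {g : G} (hg : g ∈ E.P) : g ^ 2 ^ 2 = 1 := by
  rw [show g ^ 2 ^ 2 = g * g * (g * g) by norm_num [pow_succ, mul_assoc], E.sq g hg, D.v_sq]

theorem two : IsPGroup 2 E.P := two_of_pow fun _ hg => ⟨2, E.four hg⟩

theorem Q_eq_zero {g : G} (hg : g ∈ E.P) (h : g * g = 1) :
    E.r g * E.r g + E.r g * E.s g + E.ν * (E.s g * E.s g) = 0 := by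
  rw [E.sq g hg] at h; exact D.v_eq_one.1 h

theorem t_not : D.t ∉ E.P := fun h => by
  have h1 := (E.t_P _ h).1
  rw [D.t_sq, one_mul] at h1
  have h2 : E.s D.t = 0 := left_eq_add.1 h1
  have h3 := E.Q_eq_zero h D.t_sq
  rw [h2] at h3
  exact D.t_not_mem_V (E.ker _ h (mul_self_eq_zero.1 (by simpa using h3)) h2)

theorem mem_V_of_t {g : G} (hg : g ∈ E.P) (h : Commute g D.t) : g ∈ D.V := by
  obtain ⟨b, rfl | e⟩ := D.mem_W.1 (D.mem_W_of_pow h (E.cV g hg) (E.four hg))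
  · exact D.v_mem b
  · refine (E.t_not ?_).elim
    have := E.P.mul_mem hg (E.V_le (D.v_mem b))
    rwa [e, mul_assoc, D.v_sq, mul_one] at this

theorem rs_V {g : G} (hg : g ∈ D.V) : E.r g = 0 ∧ E.s g = 0 := by
  obtain ⟨b, rfl⟩ := hg; exact E.rs_v b

theorem eq_of_rs {g g' : G} (hg : g ∈ E.P) (hg' : g' ∈ E.P) (h1 : E.r g = E.r g')
    (h2 : E.s g = E.s g') : g⁻¹ * g' ∈ D.V :=
  E.ker _ (E.P.mul_mem (E.P.inv_mem hg) hg')
    (by rw [E.r_add _ (E.P.inv_mem hg) _ hg', E.r_inv hg, h1, D.addF])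
    (by rw [E.s_add _ (E.P.inv_mem hg) _ hg', E.s_inv hg, h2, D.addF])

theorem rs_of_V {g g' : G} (hg : g ∈ E.P) (hg' : g' ∈ E.P) (h : g⁻¹ * g' ∈ D.V) :
    E.r g = E.r g' ∧ E.s g = E.s g' := by
  have := E.rs_V h
  rw [E.r_add _ (E.P.inv_mem hg) _ hg', E.s_add _ (E.P.inv_mem hg) _ hg', E.r_inv hg,
    E.s_inv hg, D.add_eq_zeroF, D.add_eq_zeroF] at this
  exact this

theorem d_mem {g : G} (hg : g ∈ E.P) : D.t * g * D.t * g⁻¹ ∈ E.P :=
  E.P.mul_mem (E.tt_mem hg) (E.P.inv_mem hg)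

theorem rs_d {g : G} (hg : g ∈ E.P) :
    E.r (D.t * g * D.t * g⁻¹) = E.s g ∧ E.s (D.t * g * D.t * g⁻¹) = 0 := by
  rw [E.r_add _ (E.tt_mem hg) _ (E.P.inv_mem hg), E.s_add _ (E.tt_mem hg) _ (E.P.inv_mem hg),
    (E.t_P g hg).1, (E.t_P g hg).2, E.r_inv hg, E.s_inv hg, D.addF]
  exact ⟨by linear_combination E.r g * D.two, rfl⟩

theorem exists_U (b : F) : ∃ u ∈ E.P, D.t * u * D.t * u⁻¹ = D.v b := by
  choose u hu h1 h2 using fun a => E.surj a 0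
  have hV : ∀ a, D.t * u a * D.t * (u a)⁻¹ ∈ D.V := fun a =>
    E.ker _ (E.d_mem (hu a)) (by rw [(E.rs_d (hu a)).1, h2]) (E.rs_d (hu a)).2
  have hi : Function.Injective fun a => D.γ (D.t * u a * D.t * (u a)⁻¹) := fun a a' e => by
    have e1 := congrArg D.v e
    simp only [D.v_γ (hV _)] at e1
    have e2 : Commute ((u a)⁻¹ * u a') D.t := commute_of_conj_eq (by
      calc (u a)⁻¹ * u a' * D.t * ((u a)⁻¹ * u a')⁻¹
          = (u a)⁻¹ * D.t⁻¹ * (D.t * u a' * D.t * (u a')⁻¹) * u a := by group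
        _ = D.t := by rw [← e1]; group)
    have := (E.rs_of_V (hu a) (hu a') (E.mem_V_of_t (E.P.mul_mem (E.P.inv_mem (hu a)) (hu a'))
      e2)).1
    rwa [h1, h1] at this
  obtain ⟨a, ha⟩ := Finite.injective_iff_surjective.1 hi b
  exact ⟨u a, hu a, by rw [← D.v_γ (hV a)]; exact congrArg D.v ha⟩

/-- Every involution in `t P` is conjugate to `t` under `P`. -/
theorem conj_t {y : G} (hy : D.t * y ∈ E.P) (h2 : y * y = 1) : ∃ g ∈ E.P, y = g * D.t * g⁻¹ := by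
  obtain ⟨u, rfl⟩ : ∃ u, y = D.t * u := ⟨D.t * y, (D.tt_mul y).symm⟩
  rw [D.tt_mul] at hy
  have e1 : D.t * u * D.t = u⁻¹ := eq_inv_of_mul_eq_one_left (by rw [← h2]; group)
  have e2 := (E.t_P u hy).1
  rw [e1, E.r_inv hy] at e2
  have e3 : E.s u = 0 := left_eq_add.1 e2
  obtain ⟨g0, hg0, -, h4⟩ := E.surj 0 (E.r u)
  obtain ⟨b, hb⟩ := E.eq_of_rs (E.d_mem hg0) hy (by rw [(E.rs_d hg0).1, h4])
    (by rw [(E.rs_d hg0).2, e3])
  obtain ⟨g1, hg1, h5⟩ := E.exists_U b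
  refine ⟨g0 * g1, E.P.mul_mem hg0 hg1, ?_⟩
  have e4 : u = D.t * g0 * D.t * g0⁻¹ * D.v b := by rw [← hb]; group
  have e5 : g1 * D.t * g1⁻¹ = D.t * D.v b := by rw [← h5, mul_assoc D.t, mul_assoc D.t, D.tt_mul]
  calc D.t * u = g0 * D.t * (g0⁻¹ * D.v b) := by
        rw [e4]; simp only [mul_assoc, D.tt_mul]
    _ = g0 * (D.t * D.v b) * g0⁻¹ := by
        rw [(E.cV _ (E.P.inv_mem hg0) b).eq]; simp only [mul_assoc]
    _ = _ := by rw [← e5]; group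

/-- The action of `C(t) ∩ N(V)` on `P / V`. -/
theorem act {y : G} (hy : y ∈ D.B) {σ : RingAut F} (hσ : ∀ b, y * D.v b * y⁻¹ = D.v (σ b)) :
    ∃ c, c * c + c = E.ν + σ E.ν ∧ ∀ g ∈ E.P,
      E.r (y * g * y⁻¹) = σ (E.r g) + c * σ (E.s g) ∧ E.s (y * g * y⁻¹) = σ (E.s g) := by
  have hN : ∀ {g}, g ∈ E.P → y * g * y⁻¹ ∈ E.P := fun hg => mem_normalizer_conj (E.B_le hy) hg
  have hd : ∀ g, D.t * (y * g * y⁻¹) * D.t * (y * g * y⁻¹)⁻¹ =
      y * (D.t * g * D.t * g⁻¹) * y⁻¹ := fun g => by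
    have := conj_eq_of_commute (D.mem_B.1 hy).1
    conv_lhs => rw [← this]
    group
  have hQ : ∀ g ∈ E.P, E.r (y * g * y⁻¹) * E.r (y * g * y⁻¹) + E.r (y * g * y⁻¹) *
      E.s (y * g * y⁻¹) + E.ν * (E.s (y * g * y⁻¹) * E.s (y * g * y⁻¹)) =
      σ (E.r g) * σ (E.r g) + σ (E.r g) * σ (E.s g) + σ E.ν * (σ (E.s g) * σ (E.s g)) := by
    intro g hg
    have := E.sq _ (hN hg)
    rw [conj_sq, E.sq g hg, hσ] at this
    simpa only [map_add, map_mul] using (D.v_inj this).symm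
  have hU : ∀ g ∈ E.P, E.s g = 0 → E.s (y * g * y⁻¹) = 0 := fun g hg h => by
    obtain ⟨b, hb⟩ := E.ker _ (E.d_mem hg) (by rw [(E.rs_d hg).1, h]) (E.rs_d hg).2
    rw [← (E.rs_d (hN hg)).1, hd, hb, hσ, (E.rs_v _).1]
  have hr : ∀ g ∈ E.P, E.s g = 0 → E.r (y * g * y⁻¹) = σ (E.r g) := fun g hg h => by
    have := hQ g hg
    rw [hU g hg h, h, map_zero] at this
    exact StdU3.sq_inj_of_two D.two (by simpa using this)
  have hs : ∀ g ∈ E.P, E.s (y * g * y⁻¹) = σ (E.s g) := fun g hg => by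
    rw [← (E.rs_d (hN hg)).1, hd, hr _ (E.d_mem hg) (E.rs_d hg).2, (E.rs_d hg).1]
  obtain ⟨g1, hg1, r1, s1⟩ := E.surj 0 1
  have hc := hQ g1 hg1
  rw [hs g1 hg1, r1, s1, map_zero, map_one] at hc
  set c := E.r (y * g1 * y⁻¹)
  have hc' : c * c + c = E.ν + σ E.ν := by linear_combination hc - E.ν * D.two
  refine ⟨c, hc', fun g hg => ⟨?_, hs g hg⟩⟩
  have key : ∀ g ∈ E.P, E.r (y * g * y⁻¹) = σ (E.r g) + c * σ (E.s g) ∨
      E.r (y * g * y⁻¹) = σ (E.r g) + (c + 1) * σ (E.s g) := fun g hg => by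
    have := hQ g hg
    rw [hs g hg] at this
    rw [← sub_eq_zero, ← sub_eq_zero (a := E.r _), ← mul_eq_zero]
    linear_combination this + σ (E.s g) * σ (E.s g) * hc' + (σ (E.r g) * σ (E.r g) +
      σ (E.r g) * σ (E.s g) + σ E.ν * (σ (E.s g) * σ (E.s g)) - E.r (y * g * y⁻¹) * σ (E.s g) -
      E.r (y * g * y⁻¹) * σ (E.r g) - c * E.r (y * g * y⁻¹) * σ (E.s g) +
      c * σ (E.r g) * σ (E.s g)) * D.two
  rcases key g hg with h | h
  · exact h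
  have e : y * (g * g1) * y⁻¹ = y * g * y⁻¹ * (y * g1 * y⁻¹) := by group
  have := key _ (E.P.mul_mem hg hg1)
  rw [e, E.r_add _ (hN hg) _ (hN hg1), E.r_add _ hg _ hg1, E.s_add _ hg _ hg1, r1, s1, h,
    add_zero, map_add, map_one] at this
  rcases this with h' | h'
  · rw [h]; linear_combination h'
  · exact (one_ne_zero (α := F) (by linear_combination -h')).elim

end Q3

namespace Q3

variable {D : Dat G F} (E : Q3 D) (S0 : Syl D.toMod)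

/-- The Sylow 2-subgroup. -/
abbrev S : Subgroup G := E.P ⊔ S0.T

theorem T_N : S0.T ≤ Ns E.P := S0.le_B.trans E.B_le

theorem mem_S {y : G} : y ∈ E.S S0 ↔ ∃ g ∈ E.P, ∃ τ ∈ S0.T, y = g * τ :=
  Solv.PG.mem_sup_iff_of_le_normalizer (E.T_N S0)

theorem two_S : IsPGroup 2 (E.S S0) := E.two.to_sup_of_normal_left' S0.two (E.T_N S0)

theorem S_N : E.S S0 ≤ Ns E.P := sup_le le_normalizer (E.T_N S0)

theorem S_v1 {y : G} (hy : y ∈ E.S S0) : Commute y (D.v 1) := by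
  obtain ⟨g, hg, τ, hτ, rfl⟩ := (E.mem_S S0).1 hy
  exact (E.cV g hg 1).mul_left (S0.T_v1 hτ)

theorem t_S : D.t ∈ E.S S0 := mem_sup_right (S0.W_le (mem_sup_right (mem_zpowers _)))

theorem comm_S {x y : G} (hx : x ∈ E.S S0) (hy : y ∈ E.S S0) : ⁅x, y⁆ ∈ E.P := by
  obtain ⟨g, hg, τ, hτ, rfl⟩ := (E.mem_S S0).1 hx
  obtain ⟨g', hg', τ', hτ', rfl⟩ := (E.mem_S S0).1 hy
  have : ⁅g * τ, g' * τ'⁆ = g * (τ * g' * τ⁻¹) * ⁅τ, τ'⁆ * (τ' * g⁻¹ * τ'⁻¹) * g'⁻¹ := by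
    simp only [commutatorElement_def]; group
  rw [this]
  exact E.P.mul_mem (E.P.mul_mem (E.P.mul_mem (E.P.mul_mem hg
    (mem_normalizer_conj (E.T_N S0 hτ) hg')) (E.V_le (S0.comm_mem hτ hτ')))
    (mem_normalizer_conj (E.T_N S0 hτ') (E.P.inv_mem hg))) (E.P.inv_mem hg')

theorem act_v {g τ : G} (hg : g ∈ E.P) (hτ : τ ∈ S0.T) (b : F) :
    g * τ * D.v b * (g * τ)⁻¹ = D.v (S0.σ τ b) := by
  rw [← conj_eq_of_commute (E.cV g hg (S0.σ τ b)), ← S0.act τ hτ]; group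

theorem S1_of {g τ : G} (hg : g ∈ E.P) (hτ : τ ∈ S0.T) (h : S0.σ τ = 1) :
    g * τ ∈ E.P ∨ D.t * (g * τ) ∈ E.P := by
  obtain ⟨b, rfl | rfl⟩ := D.mem_W.1 (S0.mem_W hτ h)
  · exact Or.inl (E.P.mul_mem hg (E.V_le (D.v_mem b)))
  · refine Or.inr ?_
    have := E.P.mul_mem (E.tt_mem hg) (E.V_le (D.v_mem b))
    simpa only [mul_assoc] using this

theorem σ_sq {g τ : G} (hg : g ∈ E.P) (hτ : τ ∈ S0.T) (h : g * τ * (g * τ) = 1) :
    S0.σ τ * S0.σ τ = 1 := by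
  ext b
  apply D.v_inj
  change D.v (S0.σ τ (S0.σ τ b)) = D.v b
  rw [← E.act_v S0 hg hτ, ← E.act_v S0 hg hτ]
  calc g * τ * (g * τ * D.v b * (g * τ)⁻¹) * (g * τ)⁻¹
      = g * τ * (g * τ) * D.v b * (g * τ * (g * τ))⁻¹ := by group
    _ = D.v b := by rw [h]; group

/-- An involution of `S` lies in `P ⟨t⟩` or is of field type. -/
theorem inv_cases {y : G} (hy : y ∈ E.S S0) (h : y * y = 1) : y ∈ E.P ∨ D.t * y ∈ E.P ∨
    ∃ g ∈ E.P, ∃ τ ∈ S0.T, y = g * τ ∧ S0.σ τ ≠ 1 ∧ S0.σ τ * S0.σ τ = 1 := by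
  obtain ⟨g, hg, τ, hτ, rfl⟩ := (E.mem_S S0).1 hy
  by_cases h1 : S0.σ τ = 1
  · exact (E.S1_of S0 hg hτ h1).imp_right Or.inl
  · exact Or.inr (Or.inr ⟨g, hg, τ, hτ, rfl, h1, E.σ_sq S0 hg hτ h⟩)

theorem mul_field {g τ g' τ' : G} (hg : g ∈ E.P) (hτ : τ ∈ S0.T) (hg' : g' ∈ E.P)
    (hτ' : τ' ∈ S0.T) (h1 : S0.σ τ ≠ 1) (h2 : S0.σ τ * S0.σ τ = 1) (h1' : S0.σ τ' ≠ 1)
    (h2' : S0.σ τ' * S0.σ τ' = 1) :
    g * τ * (g' * τ') ∈ E.P ∨ D.t * (g * τ * (g' * τ')) ∈ E.P := by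
  rw [show g * τ * (g' * τ') = g * (τ * g' * τ⁻¹) * (τ * τ') by group]
  refine E.S1_of S0 (E.P.mul_mem hg (mem_normalizer_conj (E.T_N S0 hτ) hg'))
    (S0.T.mul_mem hτ hτ') ?_
  rw [S0.σ_mul hτ hτ', ← S0.σ_invol hτ hτ' h1 h1' h2 h2', h2]

theorem actS {g τ : G} (hg : g ∈ E.P) (hτ : τ ∈ S0.T) :
    ∃ c, c * c + c = E.ν + S0.σ τ E.ν ∧ ∀ x ∈ E.P,
      E.r (g * τ * x * (g * τ)⁻¹) = S0.σ τ (E.r x) + c * S0.σ τ (E.s x) ∧
        E.s (g * τ * x * (g * τ)⁻¹) = S0.σ τ (E.s x) := by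
  obtain ⟨c, hc, h⟩ := E.act (S0.le_B hτ) (S0.act τ hτ)
  refine ⟨c, hc, fun x hx => ?_⟩
  have h1 := mem_normalizer_conj (E.T_N S0 hτ) hx
  rw [show g * τ * x * (g * τ)⁻¹ = g * (τ * x * τ⁻¹) * g⁻¹ by group, E.r_add.conj hg h1,
    E.s_add.conj hg h1]
  exact h x hx

include E in
theorem not_V {g : G} (h : g * D.t * g⁻¹ ∈ D.V) : False := by
  obtain ⟨S0⟩ := D.exists_syl
  obtain ⟨b, hb⟩ := h
  have hb0 : b ≠ 0 := by
    rintro rfl
    rw [D.v_zero, conj_eq_one_iff] at hb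
    exact D.t_ne hb
  obtain ⟨k, hk⟩ := D.exists_h hb0 one_ne_zero
  have h1 : D.h k * g * D.t * (D.h k * g)⁻¹ = D.v 1 := by rw [← hk, ← hb]; group
  have h2 := S0.card_le (g := D.h k * g) (E.two_S S0) fun y hy => by
    rw [h1]; exact StdSz.mem_C1.2 (E.S_v1 S0 hy)
  have h3 : S0.T = E.S S0 := eq_of_le_of_card_ge le_sup_right h2
  obtain ⟨x, hx, -, h4⟩ := E.surj 0 1
  have h5 : x ∈ S0.T := h3 ▸ mem_sup_left hx
  have := (E.rs_V (E.mem_V_of_t hx (S0.T_t h5))).2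
  exact one_ne_zero (h4.symm.trans this)

theorem card_S : Nat.card F * Nat.card F * Nat.card S0.T ≤ Nat.card (E.S S0) := by
  choose u hu h1 h2 using E.surj
  rw [← Nat.card_prod, ← Nat.card_prod]
  refine Nat.card_le_card_of_injective (fun z : (F × F) × S0.T =>
    (⟨u z.1.1 z.1.2 * z.2, mul_mem (mem_sup_left (hu _ _)) (mem_sup_right z.2.2)⟩ : E.S S0)) ?_
  rintro ⟨⟨a, b⟩, τ, hτ⟩ ⟨⟨a', b'⟩, τ', hτ'⟩ e
  simp only [Subtype.mk.injEq] at e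
  have e1 : (u a b)⁻¹ * u a' b' = τ * τ'⁻¹ := by
    rw [← mul_inv_cancel_right (u a' b') τ', ← e]; group
  have := E.rs_of_V (hu a b) (hu a' b') (E.mem_V_of_t (E.P.mul_mem (E.P.inv_mem (hu _ _))
    (hu _ _)) (e1 ▸ S0.T_t (S0.T.mul_mem hτ (S0.T.inv_mem hτ'))))
  rw [h1, h1, h2, h2] at this
  obtain ⟨rfl, rfl⟩ := this
  simp only [Prod.mk.injEq, Subtype.mk.injEq, true_and]
  exact mul_left_cancel e

theorem P_le_X {X A : Subgroup G} (a : Amb D.toMod X A) : E.P ≤ X := by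
  obtain ⟨z, z0, z1⟩ := exists_ne_zero_one (F := F) (by have := D.big; omega)
  refine a.le_X E.two (Units.mk0 z z0) (E.B_le (D.h_mem_B _)) fun g hg hc => ?_
  obtain ⟨m, hm, h⟩ := E.H_P (Units.mk0 z z0)
  have h1 := h g hg
  rw [conj_eq_of_commute hc.symm] at h1
  have hm1 : m - 1 ≠ 0 := fun h0 => z1 (by rw [sub_eq_zero.1 h0, one_mul] at hm; exact hm.symm)
  obtain ⟨b, rfl⟩ := E.ker g hg ((mul_eq_zero.1 (by linear_combination -h1.1)).resolve_left hm1)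
    ((mul_eq_zero.1 (by linear_combination -h1.2)).resolve_left hm1)
  have h2 := D.h_v (Units.mk0 z z0) b
  rw [conj_eq_of_commute hc.symm] at h2
  have h3 : (z - 1) * b = 0 := by have := D.v_inj h2; simp at this; linear_combination -this
  exact D.v_eq_one.2 ((mul_eq_zero.1 h3).resolve_left (sub_ne_zero.2 z1))

theorem exists_sylow (h : ∀ g, g * D.t * g⁻¹ ∈ E.S S0 → D.t * (g * D.t * g⁻¹) ∈ E.P) :
    ∃ S : Sylow 2 G, (S : Subgroup G) = E.S S0 :=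
  S0.sylow_of (E.two_S S0) le_sup_right fun g hg => by
    obtain ⟨s, hs, e⟩ := E.conj_t (h g (mem_normalizer_conj hg (E.t_S S0)))
      (by rw [conj_sq, D.t_sq]; group)
    exact ⟨s, mem_sup_left hs, e⟩

/-- The anisotropic case. -/
theorem out_aniso {X A : Subgroup G} (a : Amb D.toMod X A) (hν : ∀ d, d * d + d ≠ E.ν) :
    False := by
  obtain ⟨S0⟩ := D.exists_syl
  have hP : ∀ g ∈ E.P, g * g = 1 → g ∈ D.V := fun g hg h => by
    have h1 := E.Q_eq_zero hg h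
    have h2 : E.s g = 0 := by
      by_contra h2
      refine hν (E.r g / E.s g) ?_
      field_simp
      linear_combination h1 - E.ν * E.s g ^ 2 * D.two
    rw [h2] at h1
    exact E.ker g hg (mul_self_eq_zero.1 (by simpa using h1)) h2
  have hS : ∀ y ∈ E.S S0, y * y = 1 → y ∈ D.V ∨ D.t * y ∈ E.P := fun y hy h => by
    rcases E.inv_cases S0 hy h with h1 | h1 | ⟨g, hg, τ, hτ, rfl, h1, h2⟩
    · exact Or.inl (hP y h1 h)
    · exact Or.inr h1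
    exfalso
    obtain ⟨c, hc, h3⟩ := E.actS S0 hg hτ
    obtain ⟨x, hx, r1, s1⟩ := E.surj 0 1
    have h4 := h3 x hx
    have h5 := (h3 _ (mem_normalizer_conj (E.S_N S0 hy) hx)).1
    rw [h4.1, h4.2, r1, s1, show g * τ * (g * τ * x * (g * τ)⁻¹) * (g * τ)⁻¹ =
      g * τ * (g * τ) * x * (g * τ * (g * τ))⁻¹ by group, h, one_mul, inv_one, mul_one, r1] at h5
    simp only [map_zero, map_one, mul_one, zero_add] at h5
    obtain ⟨d, hd⟩ := exists_trace D.two h1 h2 (c := c) (D.add_eq_zeroF.1 h5.symm)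
    obtain ⟨b, hb⟩ := exists_trace D.two h1 h2 (c := E.ν + d * d + d) (by
      simp only [map_add, map_mul]
      rw [← hd] at hc
      linear_combination -hc + (d * S0.σ τ d + S0.σ τ d * S0.σ τ d + S0.σ τ d - E.ν) * D.two)
    obtain ⟨z, hz⟩ := exists_as_trace D.two (S0.σ τ) b
    exact hν (z + d) (by linear_combination hz + hb + (z * d + d * d + d) * D.two)
  obtain ⟨S, hS'⟩ := E.exists_sylow S0 fun g hg =>
    (hS _ hg (by rw [conj_sq, D.t_sq]; group)).resolve_left E.not_V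
  refine a.fin_sc S le_rfl (fun b hb => D.V_sq hb) ⟨hS' ▸ E.V_le.trans le_sup_left, ?_⟩ ?_
  · intro x hx g hg
    rw [hS'] at hg
    have h2 : g * x * g⁻¹ * (g * x * g⁻¹) = 1 := by rw [conj_sq, D.V_sq hx]; group
    refine (hS _ hg h2).resolve_right fun h => ?_
    obtain ⟨p, -, e⟩ := E.conj_t h h2
    refine E.not_V (g := g⁻¹ * p) ?_
    rwa [show g⁻¹ * p * D.t * (g⁻¹ * p)⁻¹ = g⁻¹ * (p * D.t * p⁻¹) * g by group, ← e,
      show g⁻¹ * (g * x * g⁻¹) * g = x by group]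
  · choose u hu h1 h2 using E.surj
    have := D.big
    calc 16 ≤ Nat.card (F × F) := by rw [Nat.card_prod]; nlinarith
      _ ≤ _ := Nat.card_le_card_of_injective (fun z : F × F => (⟨u z.1 z.2,
          hS' ▸ mem_sup_left (hu _ _), E.P_le_X a (hu _ _)⟩ : ((S : Subgroup G) ⊓ X : Subgroup G)))
          fun z z' e => by
            replace e : u z.1 z.2 = u z'.1 z'.2 := congrArg Subtype.val e
            exact Prod.ext (by rw [← h1 z.1 z.2, e, h1]) (by rw [← h2 z.1 z.2, e, h2])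

end Q3

end Cfsg.Lib.SJ1
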