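import Mathlib.Data.ZMod.Basic
import Mathlib.Data.Fintype.Prod
import Mathlib.Tactic.Group
import Mathlib.Tactic.Abel

/-! Standard subgroups of type `L₂(8)`: a finite model of a 2-group `2⁴ : 2²`. -/

set_option autoImplicit false

namespace Cfsg.Lib.SJ1.Ex0

/-- The field with two elements. -/
abbrev Z2 : Type := ZMod 2

/-- Its cube. -/
abbrev V3 : Type := Z2 × Z2 × Z2

/-- Its fourth power. -/
abbrev V4 : Type := Z2 × V3

/-- The elements of the model. -/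
abbrev Mo : Type := V4 × Z2 × Z2

variable {G N : Type*}

/-- A power of an involution. -/
def pw [One G] (c : Z2) (g : G) : G := if c = 0 then 1 else g

/-- A multiple of an element of order two. -/
def sa [Zero N] (c : Z2) (e : N) : N := if c = 0 then 0 else e

/-- A linear map on three coordinates. -/
def l3 [AddMonoid N] (m1 m2 m3 : N) (x : V3) : N := sa x.1 m1 + (sa x.2.1 m2 + sa x.2.2 m3)

/-- A linear map on four coordinates. -/
def l4 [AddMonoid N] (m0 m1 m2 m3 : N) (x : V4) : N := sa x.1 m0 + l3 m1 m2 m3 x.2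

/-- A product of three powers. -/
def p3 [Monoid G] (a b c : G) (x : V3) : G := pw x.1 a * (pw x.2.1 b * pw x.2.2 c)

/-- A product of four powers. -/
def p4 [Monoid G] (a b c d : G) (x : V4) : G := pw x.1 a * p3 b c d x.2

/-- The action of `v e3`. -/
def aV (x : V4) : V4 := (x.1 + x.2.2.1, x.2.1 + x.2.2.2, x.2.2)

/-- The action of `w`. -/
def aW (x : V4) : V4 := (x.2.1, x.1, x.2.2.2, x.2.2.1)

/-- The two possible actions of `t`. -/
def aT (ε : Z2) (x : V4) : V4 :=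
  if ε = 0 then (x.1 + x.2.2.2, x.2.1 + x.2.2.1 + x.2.2.2, x.2.2)
  else (x.1 + x.2.2.1 + x.2.2.2, x.2.1 + x.2.2.1, x.2.2)

/-- The action of `v ^ i w ^ j`. -/
def aA (i : Z2 × Z2) (x : V4) : V4 :=
  if i.1 = 0 then (if i.2 = 0 then x else aW x) else aV (if i.2 = 0 then x else aW x)

/-- The multiplication of the model. -/
def mm (p q : Mo) : Mo := (p.1 + aA p.2 q.1, p.2 + q.2)

/-- The action of `x1 x2` on `V`. -/
def aB (y : V3) : V3 := (y.1 + y.2.2, y.2.1 + y.2.2, y.2.2)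

theorem cases2 : ∀ c : Z2, c = 0 ∨ c = 1 := by decide

theorem pw_zero [One G] (g : G) : pw 0 g = 1 := rfl

theorem pw_one [One G] (g : G) : pw 1 g = g := rfl

theorem sa_zero [Zero N] (g : N) : sa 0 g = 0 := rfl

theorem sa_one [Zero N] (g : N) : sa 1 g = g := rfl

theorem pw_add [Monoid G] {g : G} (h : g * g = 1) (c d : Z2) : pw (c + d) g = pw c g * pw d g := by
  rcases cases2 c with rfl | rfl <;> rcases cases2 d with rfl | rfl
  exacts [(one_mul _).symm, (one_mul _).symm, (mul_one _).symm, h.symm]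

theorem sa_add [AddMonoid N] {g : N} (h : g + g = 0) (c d : Z2) : sa (c + d) g = sa c g + sa d g := by
  rcases cases2 c with rfl | rfl <;> rcases cases2 d with rfl | rfl
  exacts [(zero_add _).symm, (zero_add _).symm, (add_zero _).symm, h.symm]

theorem l3_add [AddCommGroup N] (h : ∀ g : N, g + g = 0) (m1 m2 m3 : N) (x y : V3) :
    l3 m1 m2 m3 (x + y) = l3 m1 m2 m3 x + l3 m1 m2 m3 y := by
  change sa (x.1 + y.1) _ + (sa (x.2.1 + y.2.1) _ + sa (x.2.2 + y.2.2) _) = _ + (_ + _) + (_ + (_ + _))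
  rw [sa_add (h _), sa_add (h _), sa_add (h _)]
  abel

variable [Group G]

theorem comm_pw {g h : G} (e : Commute g h) (c : Z2) : Commute g (pw c h) := by
  rcases cases2 c with rfl | rfl
  exacts [Commute.one_right _, e]

theorem comm_p3 {g a b c : G} (h1 : Commute g a) (h2 : Commute g b) (h3 : Commute g c) (x : V3) :
    Commute g (p3 a b c x) := (comm_pw h1 _).mul_right ((comm_pw h2 _).mul_right (comm_pw h3 _))

theorem p3_add {a b c : G} (ha : a * a = 1) (hb : b * b = 1) (hc : c * c = 1) (h1 : Commute a b)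
    (h2 : Commute a c) (h3 : Commute b c) (x y : V3) :
    p3 a b c (x + y) = p3 a b c x * p3 a b c y := by
  change pw (x.1 + y.1) _ * (pw (x.2.1 + y.2.1) _ * pw (x.2.2 + y.2.2) _) = _ * (_ * _) * (_ * (_ * _))
  rw [pw_add ha, pw_add hb, pw_add hc, (comm_pw (comm_pw h3 _).symm _).symm.mul_mul_mul_comm,
    (comm_pw ((comm_pw h1 _).mul_right (comm_pw h2 _)).symm _).symm.mul_mul_mul_comm]

theorem p4_add {a b c d : G} (ha : a * a = 1) (hb : b * b = 1) (hc : c * c = 1) (hd : d * d = 1)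
    (h1 : Commute a b) (h2 : Commute a c) (h3 : Commute a d) (h4 : Commute b c) (h5 : Commute b d)
    (h6 : Commute c d) (x y : V4) : p4 a b c d (x + y) = p4 a b c d x * p4 a b c d y := by
  change pw (x.1 + y.1) _ * p3 _ _ _ (x.2 + y.2) = _ * _ * (_ * _)
  rw [pw_add ha, p3_add hb hc hd h4 h5 h6,
    (comm_pw (comm_p3 h1 h2 h3 _).symm _).symm.mul_mul_mul_comm]

theorem conj_pw (g a : G) (c : Z2) : g * pw c a * g⁻¹ = pw c (g * a * g⁻¹) := by
  rcases cases2 c with rfl | rfl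
  exacts [by simp [pw_zero], rfl]

theorem conj_p3 (g a b c : G) (x : V3) :
    g * p3 a b c x * g⁻¹ = p3 (g * a * g⁻¹) (g * b * g⁻¹) (g * c * g⁻¹) x := by
  change g * (_ * (_ * _)) * g⁻¹ = _ * (_ * _)
  rw [← conj_pw, ← conj_pw, ← conj_pw]; group

theorem conj_p4 (g a b c d : G) (x : V4) : g * p4 a b c d x * g⁻¹ =
    p4 (g * a * g⁻¹) (g * b * g⁻¹) (g * c * g⁻¹) (g * d * g⁻¹) x := by
  change g * (_ * _) * g⁻¹ = _ * _
  rw [← conj_pw, ← conj_p3]; group

section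
variable [AddMonoid N] {ρ : N → G} (h0 : ρ 0 = 1) (h : ∀ x y, ρ (x + y) = ρ x * ρ y)
include h0

theorem map_sa (c : Z2) (m : N) : ρ (sa c m) = pw c (ρ m) := by
  rcases cases2 c with rfl | rfl
  exacts [h0, rfl]

include h

theorem map_l3 (m1 m2 m3 : N) (x : V3) : ρ (l3 m1 m2 m3 x) = p3 (ρ m1) (ρ m2) (ρ m3) x := by
  change ρ (_ + (_ + _)) = _
  rw [h, h, map_sa h0, map_sa h0, map_sa h0]; rfl

theorem map_l4 (m0 m1 m2 m3 : N) (x : V4) :
    ρ (l4 m0 m1 m2 m3 x) = p4 (ρ m0) (ρ m1) (ρ m2) (ρ m3) x := by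
  change ρ (_ + _) = _
  rw [h, map_sa h0, map_l3 h0 h]; rfl

end

theorem aA_inj : ∀ i j, (∀ x, aA i x = aA j x) → i = j := by decide +kernel

theorem aA_ne : ∀ i ε, ¬ ∀ x, aA i x = aT ε x := by decide +kernel

theorem uniq : ∀ e : Mo, mm e e = 0 → e.2 ≠ 0 →
    (Finset.univ.filter fun y => mm y y = 0 ∧ mm y e = mm e y).card < 16 := by decide +kernel

set_option synthInstance.maxSize 2048 in
theorem fixed : ∀ x : V4, aV x = x → aW x = x → x = 0 ∨ x = (1, 1, 0, 0) := by decide +kernel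

set_option synthInstance.maxSize 4096 in
set_option synthInstance.maxHeartbeats 200000 in
theorem five : ∀ (ε : Z2) (m2 m3 : V4), l4 0 0 m2 m3 (0, 0, 1, 1) = (0, 0, 1, 1) → ∀ m0 m1 : V4,
    l4 m0 m1 m2 m3 (1, 1, 0, 0) ≠ (1, 1, 0, 0) →
    (∀ x, l4 m0 m1 m2 m3 (l4 m0 m1 m2 m3 x) = x) →
    (∀ x, l4 m0 m1 m2 m3 (aW (l4 m0 m1 m2 m3 (aW x))) = x) →
    ∀ x, (fun x => l4 m0 m1 m2 m3 (aV (l4 m0 m1 m2 m3 (aT ε x))))^[5] x = x := by decide +kernel

theorem orb : ∀ ε i j, ∃ k l, ((i, j, 1, 1) : V4) =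
    aA (k, 0) (if l = (0 : Z2) then (0, 0, 1, 1) else aT ε (0, 0, 1, 1)) := by decide +kernel

set_option synthInstance.maxSize 4096 in
set_option synthInstance.maxHeartbeats 200000 in
theorem gl3 : ∀ m1 m2 m3 : V3, (∀ x, l3 m1 m2 m3 (l3 m1 m2 m3 x) = x) → (¬ ∀ x, l3 m1 m2 m3 x = x) →
    ∃ n1 n2 n3 : V3, (∀ x, l3 n1 n2 n3 (l3 m1 m2 m3 x) = aB (l3 n1 n2 n3 x)) ∧
      ∀ x, l3 n1 n2 n3 x = 0 → x = 0 := by decide +kernel

theorem lin_aV : ∀ x, aV x = l4 (1, 0, 0, 0) (0, 1, 0, 0) (1, 0, 1, 0) (0, 1, 0, 1) x := by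
  decide +kernel

theorem lin_aW : ∀ x, aW x = l4 (0, 1, 0, 0) (1, 0, 0, 0) (0, 0, 0, 1) (0, 0, 1, 0) x := by
  decide +kernel

theorem lin_aT0 : ∀ x, aT 0 x = l4 (1, 0, 0, 0) (0, 1, 0, 0) (0, 1, 1, 0) (1, 1, 0, 1) x := by
  decide +kernel

theorem lin_aT1 : ∀ x, aT 1 x = l4 (1, 0, 0, 0) (0, 1, 0, 0) (1, 1, 1, 0) (1, 0, 0, 1) x := by
  decide +kernel

theorem lin_aB : ∀ x, aB x = l3 (1, 0, 0) (0, 1, 0) (1, 1, 1) x := by decide +kernel

end Cfsg.Lib.SJ1.Ex0
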