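import Cfsg.Agent.SJ1.ExCa

/-! Two conjugates of a homocyclic group normalising each other. -/

set_option autoImplicit false
set_option linter.unusedSectionVars false

namespace Cfsg.Lib.SJ1.XC

open Subgroup Cfsg.Lib.Gold Cfsg.Lib.Trans

variable {G : Type*} [Group G] [Finite G] {X U V U' V' S : Subgroup G} {c y : G}

/-- A frame. -/
structure Fr (X U V : Subgroup G) : Prop where
  mem : ∀ v, v ∈ V ↔ v ∈ U ∧ v * v = 1
  two : IsPGroup 2 U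
  comm : ∀ a ∈ U, ∀ b ∈ U, a * b = b * a
  le : U ≤ X
  card : Nat.card V = 8
  root : ∀ v ∈ V, ∃ u ∈ U, u * u = v
  r8 : ∀ u ∈ U, u ^ 4 ≠ 1 → ∀ v ∈ V, ∃ u ∈ U, u ^ 4 = v
  c2 : ∀ g ∈ X, Comp.Tw g → g ∈ Cs V → g ∈ U
  f1 : ∀ y ∈ X, y ∈ Ns U → y * y ∈ Cs V → y ∉ Cs V → ∀ x ∈ U, x * y = y * x → x * x ∈ V →
    ∃ c ∈ V, y * c * y⁻¹ = c * (x * x)

namespace Fr

variable (h : Fr X U V)
include h

theorem cj (hX : X.Normal) (g : G) : Fr X (cj g U) (cj g V) where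
  mem v := by
    obtain ⟨v, rfl⟩ := conj_surj g v
    rw [conj_mem_cj, conj_mem_cj, conj_mul, conj_eq_one_iff, h.mem]
  two := h.two.map _
  comm := by
    rintro _ ⟨a, ha, rfl⟩ _ ⟨b, hb, rfl⟩
    rw [← map_mul, ← map_mul, h.comm a ha b hb]
  le := cj_le_iff.2 fun u hu => hX.conj_mem u (h.le hu) g
  card := (card_cj g V).trans h.card
  root := by
    rintro _ ⟨v, hv, rfl⟩
    obtain ⟨u, hu, rfl⟩ := h.root v hv
    exact ⟨_, ⟨u, hu, rfl⟩, (map_mul _ u u).symm⟩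
  r8 := by
    rintro _ ⟨u, hu, rfl⟩ h4 _ ⟨v, hv, rfl⟩
    obtain ⟨w, hw, rfl⟩ := h.r8 u hu (fun e => h4 (by rw [← map_pow, e, map_one])) v hv
    exact ⟨_, ⟨w, hw, rfl⟩, (map_pow _ w 4).symm⟩
  c2 x hx h2 hc := by
    refine mem_cj.2 (h.c2 _ (hX.conj_mem' x hx g) (by simpa using h2.conj g⁻¹) ?_)
    rwa [← cj_Cs, mem_cj] at hc
  f1 y hy := by
    obtain ⟨y, rfl⟩ := conj_surj g y
    rw [← cj_Ns, ← cj_Cs, conj_mul, conj_mem_cj, conj_mem_cj, conj_mem_cj]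
    intro h1 h2 h3 x
    obtain ⟨x, rfl⟩ := conj_surj g x
    rw [conj_mul, conj_mul, conj_mul, conj_mem_cj, conj_mem_cj, mul_left_inj, mul_right_inj]
    intro h4 h5 h6
    obtain ⟨c, hc, e⟩ := h.f1 y (by simpa [mul_assoc] using hX.conj_mem' _ hy g) h1 h2 h3 x h4 h5 h6
    exact ⟨_, conj_mem_cj.2 hc, by rw [conj_mul (b := g), conj_mul (b := g), ← e]; group⟩

theorem e8 : E8 V := ⟨fun v hv => ((h.mem v).1 hv).2, h.card⟩

theorem VU : V ≤ U := fun v hv => ((h.mem v).1 hv).1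

theorem cs : U ≤ Cs V := fun u hu => mem_Cs.2 fun v hv => h.comm v (h.VU hv) u hu

theorem nV (hy : y ∈ Ns U) : y ∈ Ns V := Comp.mem_Ns_of fun v hv =>
  (h.mem _).2 ⟨mem_normalizer_conj hy (h.VU hv), Comp.conj_sq (h.e8.sq v hv) y⟩

theorem tv (hX : y ∈ X) (h2 : Comp.Tw y) (hy : y ∈ Ns U) (hs : y * y ∈ U) (hn : y ∉ U) :
    ∃ c, Tv V y c := h.e8.exists_tv (h.nV hy) (h.cs hs) (mt (h.c2 y hX h2) hn)

theorem f1' (hX : y ∈ X) (hy : y ∈ Ns U) (hs : y * y ∈ U) (t : Tv V y c) {x : G} (hx : x ∈ U)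
    (e : x * y = y * x) (h4 : x * x * (x * x) = 1) : x * x = 1 ∨ x * x = c := by
  obtain ⟨v, hv, e1⟩ := t.ex
  obtain ⟨w, hw, e2⟩ := h.f1 y hX hy (h.cs hs) (fun d => t.not_fix e1 (mem_C1.2 (mem_Cs.1 d v hv))) x hx e
    ((h.mem _).2 ⟨mul_mem hx hx, h4⟩)
  exact or_iff_not_imp_left.2 fun d => t.eq_of hw d e2

omit h in
theorem norm_comm {u : G} (y2 : y * y = 1) (e : u * (y * u * y⁻¹) = y * u * y⁻¹ * u) :
    u * (y * u * y⁻¹) * y = y * (u * (y * u * y⁻¹)) := by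
  calc _ = y * y * u * (y * y)⁻¹ * (y * u * y⁻¹) * y := by rw [y2]; group
    _ = y * (y * u * y⁻¹ * u) := by group
    _ = _ := by rw [e]

end Fr

theorem core (h : Fr X U V) (h' : Fr X U' V') (hS : S ≤ Ns U') (hy : y ∈ V') (hn : y ∈ Ns U)
    (yU : y ∉ U) (hE : ∀ u ∈ U, u * y * u⁻¹ * y⁻¹ ∈ U' → u ∈ S) :
    V ≤ S ∧ (∀ u ∈ U, u ^ 4 = 1) ∧ ∃ x ∈ U', x * x ∈ V' ∧ x * x ≠ 1 ∧ U' ⊓ U = zpowers x ∧
      ∀ v ∈ V, ∀ p ∈ V', v * p * v⁻¹ = p ∨ v * p * v⁻¹ = p * (x * x) := by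
  have y2 := h'.e8.sq y hy
  have yi := inv_eq_of_sq y2
  have yX := h'.le (h'.VU hy)
  have yy : y * y ∈ U := y2 ▸ one_mem U
  have y1 : y ≠ 1 := fun e => yU (e ▸ one_mem U)
  obtain ⟨c, t⟩ := h.tv yX (.of_sq y2) hn yy yU
  obtain ⟨e, he, ye⟩ := t.ex
  have c2 := h.e8.sq c t.mem
  have cU := h.VU t.mem
  have cy := t.fix h.e8
  have cjU : ∀ u ∈ U, y * u * y⁻¹ ∈ U := fun u => mem_normalizer_conj hn
  have E1 : ∀ u ∈ U, u ∈ C1 y → u ∈ Ns U' := fun u hu e => hS (hE u hu (by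
    rw [mem_C1.1 e, mul_inv_cancel_right, mul_inv_cancel]; exact one_mem _))
  have E2 : ∀ u ∈ U, ∀ z ∈ U', z * z = 1 → y * u * y⁻¹ = u * z → u * y * u⁻¹ = y * z ∧ u ∈ S :=
    fun u hu z hz z2 e => by
      have : u * y * u⁻¹ = y * z := by
        rw [← h'.comm z hz y (h'.VU hy), ← inv_eq_of_sq z2, show z = u⁻¹ * (y * u * y⁻¹) by rw [e]; group,
          ← h.comm _ (cjU u hu) _ (inv_mem hu), yi]
        calc _ = u * y * u⁻¹ * (y * y) := by rw [y2, mul_one]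
          _ = _ := by rw [mul_inv_rev, mul_inv_rev, mul_inv_rev, yi]; group
      exact ⟨this, hE u hu (by rw [this, h'.comm y (h'.VU hy) z hz, mul_inv_cancel_right]; exact hz)⟩
  have K : ∀ u ∈ U, u ∈ Cs V' → u ∈ U' := fun u hu => h'.c2 u (h.le hu) (.of_mem h.two hu)
  have T : ∀ u ∈ U, u ∈ Ns U' → u * u ∈ U' → u ∉ U' → ∃ d, Tv V' u d := fun u hu =>
    h'.tv (h.le hu) (.of_mem h.two hu)
  have VV : ∀ v ∈ V, v ∈ U' → v ∈ V' := fun v hv a => (h'.mem v).2 ⟨a, h.e8.sq v hv⟩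
  have sqU : ∀ v ∈ V, v * v ∈ U' := fun v hv => h.e8.sq v hv ▸ one_mem _
  have cm : ∀ a ∈ U, ∀ b ∈ U, b ∈ C1 a := fun a ha b hb => mem_C1.2 (h.comm b hb a ha)
  -- a second fixed vector which is a commutator
  obtain ⟨a, ha, a1, ac, ay, x0, hx0, e0⟩ : ∃ a ∈ V, a ≠ 1 ∧ a ≠ c ∧ a ∈ C1 y ∧
      ∃ x ∈ U, y * x * y⁻¹ = x * a := by
    obtain ⟨a, ha, a1, ac, ay⟩ := t.exists_a h.e8
    obtain ⟨x, hx, rfl⟩ := h.root a ha
    have k : ∀ z ∈ U, z * z = x * x → z ∉ C1 y := fun z hz e d =>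
      (h.f1' yX hn yy t hz (mem_C1.1 d) (by rw [e, h.e8.sq _ ha])).elim (e ▸ a1) (e ▸ ac)
    have hf := mul_mem (inv_mem hx) (cjU x hx)
    refine ⟨x⁻¹ * (y * x * y⁻¹), (h.mem _).2 ⟨hf, ?_⟩, fun d => k x hx rfl (fx.1 (inv_mul_eq_one.1 d).symm),
      fun d => k (x * e) (mul_mem hx (h.VU he)) ?_ (fx.1 ?_), fx.1 ?_, x, hx, by group⟩
    · rw [mul_assoc, ← mul_assoc _ x⁻¹, h.comm _ (cjU x hx) _ (inv_mem hx), mul_assoc x⁻¹, conj_mul,
        fx.2 ay]; group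
    · rw [mul_assoc, ← mul_assoc e, h.comm e (h.VU he) x hx, mul_assoc x e, h.e8.sq e he, mul_one]
    · rw [← conj_mul, ye, inv_mul_eq_iff_eq_mul.1 d, h.e8.comm he t.mem, mul_assoc, ← mul_assoc c, c2,
        one_mul]
    · rw [← conj_mul, ← conj_inv, show y * (y * x * y⁻¹) * y⁻¹ = y * y * x * (y * y)⁻¹ by group, y2,
        one_mul, inv_one, mul_one, inv_mul_eq_iff_eq_mul, ← mul_assoc,
        h.comm _ (cjU x hx) _ (inv_mem hx), mul_assoc, conj_mul, fx.2 ay]; group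
  have aU := h.VU ha
  have eU := h.VU he
  have NW : ∀ n, ∀ u ∈ U, u ^ n = e → ∃ w ∈ U, w ∈ C1 y ∧ w ^ n = c := fun n u hu e1 =>
    ⟨_, mul_mem hu (cjU u hu), mem_C1.2 (Fr.norm_comm y2 (h.comm u hu _ (cjU u hu))), by
      rw [(show Commute _ _ from h.comm u hu _ (cjU u hu)).mul_pow, conj_pow, e1, ye, ← mul_assoc,
        h.e8.sq e he, one_mul]⟩
  have pv : ∀ z ∈ U, ∀ v ∈ V, z * v * (z * v) = z * z := fun z hz v hv => by
    rw [mul_assoc, ← mul_assoc v, h.comm v (h.VU hv) z hz, mul_assoc z v, h.e8.sq v hv, mul_one]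
  have sy : ∀ {z}, z ∈ C1 y → y ∈ C1 z := fun e => mem_C1.2 (mem_C1.1 e).symm
  by_cases hD : ∀ x ∈ U, x ∈ U' → x * x = 1
  · exfalso
    obtain ⟨u, hu, e1⟩ := h.root e he
    obtain ⟨w, hw, wy, w2⟩ := NW 2 u hu ((pow_two u).trans e1)
    rw [pow_two] at w2
    have wN := h'.nV (E1 w hw wy)
    have fin : ∀ v ∈ V, w * v ∉ Cs V' := fun v hv d => t.ne (by
      rw [← w2, ← pv w hw v hv, hD _ (mul_mem hw (h.VU hv)) (K _ (mul_mem hw (h.VU hv)) d)])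
    by_cases cU' : c ∈ U'
    · have yc : y ≠ c := fun d => yU (d ▸ cU)
      obtain ⟨ey, eS⟩ := E2 _ eU c cU' c2 ye
      have k : ∀ z ∈ U, z ∈ C1 y → z * z ∈ U' → z ∉ U' → Tv V' z c := fun z hz zy z2 zU => by
        obtain ⟨d, s⟩ := T z hz (E1 z hz zy) z2 zU
        obtain rfl : c = d := by_contra fun cd => t.ne (left_eq_mul.1 ((fx.2 ((s.in4 h'.e8
          (VV c t.mem cU') t.ne cd (cm z hz c cU) hy (sy zy)).mem
          (s.cen h'.e8 (h'.nV (hS eS)) (h.comm _ eU z hz)) (cm e eU c cU))).symm.trans ey))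
        exact s
      have tw := k w hw wy (w2 ▸ cU') fun d => t.ne (w2 ▸ hD w hw d)
      refine fin a ha (tw.same h'.e8 (k a aU ay (sqU a ha) fun d => ?_) hy y1 yc (sy wy) (sy ay))
      rcases tw.in4 h'.e8 hy y1 yc (sy wy) (VV a ha d) (cm w hw a aU) with b | b | b | b
      exacts [a1 b, ac b, yU (b ▸ aU), yU ((mul_mem_cancel_right cU).1 (b ▸ aU))]
    · have fw : ∀ p ∈ V', p ∈ C1 w → p ≠ 1 → p = y := fun p hp pw p1 => by_contra fun d =>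
        cU' (K c cU (w2 ▸ h'.e8.hyp wN hy hp y1 p1 d (sy wy) pw))
      have nU : ∀ z ∈ V, z ≠ 1 → z ∉ U' := fun z hz z1 d =>
        yU (fw z (VV z hz d) (cm w hw z (h.VU hz)) z1 ▸ h.VU hz)
      have k : ∀ z ∈ V, z ∈ C1 y → z ≠ 1 → Tv V' z y := fun z hz zy z1 => by
        obtain ⟨d, s⟩ := T z (h.VU hz) (E1 z (h.VU hz) zy) (sqU z hz) (nU z hz z1)
        exact fw d s.mem (s.cen h'.e8 wN (h.comm w hw z (h.VU hz))) s.ne ▸ s
      obtain ⟨v, v4, d⟩ := (k a ha ay a1).two h'.e8 (k c t.mem cy t.ne) (fun d => nU _ (mul_mem ha t.mem)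
        (fun b => ac (mul_right_cancel (b.trans c2.symm))) (K _ (mul_mem aU cU) d)) wN
        (h.comm w hw a aU) (h.comm w hw c cU)
      exact fin v (v4.mem ha t.mem) d
  obtain ⟨x, hx, hx', x2⟩ : ∃ x ∈ U, x ∈ U' ∧ x * x = c := by
    push Not at hD
    obtain ⟨x, hx, hx', x2⟩ := hD
    obtain ⟨n, n1, n2⟩ := (Comp.Tw.of_mem h.two (mul_mem hx hx)).exists_invol x2
    rw [(Commute.refl x).mul_pow] at n1 n2
    exact ⟨_, pow_mem hx n, pow_mem hx' n, (h.f1' yX hn yy t (pow_mem hx n)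
      (h'.comm _ (pow_mem hx' n) y (h'.VU hy)) n2).resolve_left n1⟩
  have cU' : c ∈ U' := x2 ▸ mul_mem hx' hx'
  have cV := VV c t.mem cU'
  have VS : V ≤ S := fun v hv => (t.act v hv).elim
    (fun d => (E2 v (h.VU hv) 1 (one_mem _) (mul_one 1) (d.trans (mul_one v).symm)).2)
    fun d => (E2 v (h.VU hv) c cU' c2 d).2
  have k : ∀ u ∈ U, u ∈ S → u * u ∈ U' → u ∉ U' → Tv V' u c := fun u hu uS u2 uU => by
    obtain ⟨d, s⟩ := T u hu (hS uS) u2 uU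
    obtain rfl := x2.symm.trans ((h'.f1' (h.le hu) (hS uS) u2 s hx' (h.comm x hx u hu)
      (by rw [x2, c2])).resolve_left (x2 ▸ t.ne))
    exact s
  have cy' : ∀ v ∈ U', v ∈ C1 y := fun v hv => mem_C1.2 (h'.comm v hv y (h'.VU hy))
  have aU' : a ∉ U' := fun d => by
    obtain ⟨e1, xS⟩ := E2 x0 hx0 a d (h.e8.sq a ha) e0
    exact ac ((k x0 hx0 xS (K _ (mul_mem hx0 hx0) (h'.e8.hyp (h'.nV (hS xS)) cV (VV a ha d) t.ne a1 ac
      (cm _ hx0 c cU) (cm _ hx0 a aU))) fun b =>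
        a1 (left_eq_mul.1 ((fx.2 (cy' _ b)).symm.trans e0))).eq_of hy a1 e1)
  have VD : ∀ v ∈ U, v ∈ U' → v * v = 1 → v = 1 ∨ v = c := fun v hv hv' v2 => by
    rcases t.in4 h.e8 ha a1 ac ay ((h.mem v).2 ⟨hv, v2⟩) (cy' v hv') with b | b | b | b
    exacts [.inl b, .inr b, absurd (b ▸ hv') aU', absurd ((mul_mem_cancel_right cU').1 (b ▸ hv')) aU']
  have TV : ∀ v ∈ V, v ∉ U' → Tv V' v c := fun v hv => k v (h.VU hv) (VS hv) (sqU v hv)
  have eU' : e ∉ U' := fun d => t.not_fix ye (cy' e d)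
  have aeU : a * e ∉ U' := fun d => t.not_fix ye ((mul_mem_cancel_left ay).1 (cy' _ d))
  have p4 : ∀ z : G, z ^ 4 = z * z * (z * z) := fun z => by rw [pow_succ, pow_three', mul_assoc]
  have four : ∀ u ∈ U, u ^ 4 = 1 := fun u hu => by
    by_contra u4
    obtain ⟨u, hu, e1⟩ := h.r8 u hu u4 e he
    obtain ⟨w, hw, wy, w4⟩ := NW 4 u hu e1
    obtain ⟨v, v4, b⟩ := (TV a ha aU').two h'.e8 (TV e he eU') (mt (K _ (mul_mem aU eU)) aeU)
      (h'.nV (E1 w hw wy)) (h.comm w hw a aU) (h.comm w hw e eU)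
    have hd := mul_mem hw (h.VU (v4.mem ha he))
    have hd' := K _ hd b
    rw [p4, ← pv w hw v (v4.mem ha he), ← p4] at w4
    generalize w * v = d at hd hd' w4
    obtain ⟨s, hs, s4⟩ := h'.r8 d hd' (w4 ▸ t.ne) y hy
    have Q : ∀ v ∈ V, v ∉ U' → s * s * (v * (s * s) * v⁻¹) ∈ U := fun v hv vU => by
      have h1 := mem_normalizer_conj (hS (VS hv)) hs
      have h2 : Commute s (v * s * v⁻¹) := h'.comm s hs _ h1
      have h3 := Fr.norm_comm (h.e8.sq v hv) h2.eq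
      have h4 : ∀ z ∈ U', z * v = v * z → z ^ 4 = 1 → z ^ 2 ∈ U := fun z hz e1 e2 => by
        rcases h'.f1' (h.le (h.VU hv)) (hS (VS hv)) (sqU v hv) (TV v hv vU) hz e1 (p4 z ▸ e2) with b | b <;>
          rw [pow_two, b]
        exacts [one_mem _, cU]
      have h5 : (s * (v * s * v⁻¹)) ^ 4 = y * (v * y * v⁻¹) := by rw [h2.mul_pow, conj_pow, s4]
      rw [← pow_two, ← conj_pow, ← h2.mul_pow]
      rcases (TV v hv vU).act y hy with b | b <;> rw [b] at h5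
      · exact h4 _ (mul_mem hs h1) h3 (h5.trans y2)
      · have h6 : Commute (s * (v * s * v⁻¹)) d := h'.comm _ (mul_mem hs h1) d hd'
        have := h4 _ (mul_mem (mul_mem hs h1) hd')
          (Commute.mul_left h3 (h.comm d hd v (h.VU hv))) (by
            rw [h6.mul_pow, h5, w4, ← mul_assoc, y2, one_mul, c2])
        rwa [h6.mul_pow, mul_mem_cancel_right (pow_mem hd 2)] at this
    have q1 := Q a ha aU'
    have q2 := Q e he eU'
    have q3 := Q _ (mul_mem ha he) aeU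
    have hr := mul_mem hs hs
    rw [p4] at s4
    generalize s * s = r at q1 q2 q3 hr s4
    rw [h'.comm r hr _ (mem_normalizer_conj (hS (VS ha)) hr)] at q1
    refine yU (s4 ▸ ?_)
    convert mul_mem (mul_mem q3 (inv_mem (mul_mem (mul_mem aU q2) (inv_mem aU)))) q1 using 1
    group
  refine ⟨VS, four, x, hx', x2 ▸ cV, x2 ▸ t.ne, le_antisymm (fun z hz => ?_) (zpowers_le.2 ⟨hx', hx⟩),
    fun v hv p hp => ?_⟩
  · have m : ∀ z ∈ U, z ∈ U' → z * z = 1 → z ∈ zpowers x := fun z h1 h2 h3 => by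
      rcases VD z h1 h2 h3 with rfl | rfl
      exacts [one_mem _, x2 ▸ mul_mem (mem_zpowers x) (mem_zpowers x)]
    rcases VD _ (mul_mem hz.2 hz.2) (mul_mem hz.1 hz.1) (p4 z ▸ four z hz.2) with b | b
    · exact m z hz.2 hz.1 b
    · exact (mul_mem_cancel_right (mem_zpowers x)).1 (m _ (mul_mem hz.2 hx) (mul_mem hz.1 hx') (by
        rw [← pow_two, (show Commute z x from h.comm z hz.2 x hx).mul_pow, pow_two, pow_two, b, x2, c2]))
  · by_cases b : v ∈ U'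
    · exact .inl (by rw [h'.comm v b p (h'.VU hp), mul_inv_cancel_right])
    · exact x2 ▸ (TV v hv b).act p hp

end Cfsg.Lib.SJ1.XC
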