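import Cfsg.Agent.SJ1.ExDb

/-! Elements of order three fixing a vector; elements moving `t` inside `t ⟨u⟩`. -/

set_option autoImplicit false
set_option linter.unusedSectionVars false

namespace Cfsg.Lib.SJ1

open Subgroup Cfsg.Lib.Gold Cfsg.Lib.Trans XC

variable {G : Type*} [Group G] [Finite G] {F : Type*} [Field F] [Finite F]

namespace Ex2

variable {D : Dat G F} {U X A : Subgroup G} (E : Ex2 D X U) (a : Amb D.toMod X A)

include E in
theorem conj_t {x : G} (hx : x ∈ U) : x * D.t * x⁻¹ = D.t * (x * x)⁻¹ := by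
  have h : D.t * x⁻¹ = x * D.t := by rw [← E.exc.inv.inv x hx, mul_assoc, D.tt_mul]
  rw [mul_inv_rev, ← mul_assoc, h]

include E in
theorem mem_of_t {x b : G} (hN : x ∈ D.NU U) (hX : x ∈ X) (h2 : Comp.Tw x) (hb : b ∈ U)
    (e : x * D.t * x⁻¹ = D.t * (b * b)) : x ∈ U := by
  obtain ⟨k, hk⟩ := h2
  exact (E.exc.mem_A.1 (E.exc.cocycle hN hk hb e)).resolve_right
    fun c => E.t_X ((mul_mem_cancel_right hX).1 (E.U_X c))

include a in
theorem key {x w : G} (hN : x ∈ D.NU U) (hX : x ∈ X) (h2 : Comp.Tw x) (hc : Commute x E.u)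
    (e : x * D.t * x⁻¹ = D.t * w) (hw : w ∈ E.A0) : x ∈ U := by
  have wU := hw.1
  have fr := (E.p0 a).fr
  have hz : E.u * E.u ∈ D.V := E.u_sq ▸ D.v_mem _
  rcases hw.2 with w2 | w2'
  · obtain ⟨b, bU, rfl⟩ := fr.root _ (E.exc.omega wU w2)
    exact E.mem_of_t hN hX h2 bU e
  by_contra hU
  have nC : x ∉ Cs D.V := fun c => hU (fr.c2 x hX h2 c)
  obtain ⟨j, hj⟩ := h2
  obtain ⟨_, hb, e1⟩ := fr.exists_move E.u_mem E.u4 j x hX (E.exc.N_U hN) hc.symm (hj ▸ one_mem _) nC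
  obtain ⟨b, bU, rfl⟩ := fr.root _ hb
  obtain ⟨g, hg, e2⟩ := E.exc.trans b bU
  have b' := mem_normalizer_conj (E.exc.N_U hN) bU
  have hv : b⁻¹ * (w * (x * b * x⁻¹)) ∈ D.V := E.exc.omega (mul_mem (inv_mem bU) (mul_mem wU b')) (by
    rw [(E.exc.comm (mul_mem wU b') (inv_mem bU)).mul_mul_mul_comm,
      (E.exc.comm b' wU).mul_mul_mul_comm, conj_mul, e1, w2', ← mul_inv_rev, fr.e8.comm hb hz,
      ← mul_assoc (E.u * E.u), E.u4, one_mul, inv_mul_cancel])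
  obtain ⟨b₁, b1U, e3⟩ := fr.root _ (mem_normalizer_conj' (E.exc.N_V hg.1) hv)
  have := E.mem_of_t (mul_mem (mul_mem (inv_mem hg.1) hN) hg.1) (a.normal.conj_mem' x hX g)
    (by simpa using Comp.Tw.conj ⟨j, hj⟩ g⁻¹) b1U (by
      rw [e3, show g⁻¹ * x * g * D.t * (g⁻¹ * x * g)⁻¹ = g⁻¹ * (x * (g * D.t * g⁻¹) * x⁻¹) * g by group,
        e2, ← conj_mul, e, show D.t * w * (x * b * x⁻¹) =
          D.t * b * (b⁻¹ * (w * (x * b * x⁻¹))) by group, ← e2]; group)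
  exact nC (fr.cs (by simpa [mul_assoc] using mem_normalizer_conj (E.exc.N_U hg.1) this))

end Ex2

end Cfsg.Lib.SJ1
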