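import Cfsg.Agent.SJ1.Base
import Cfsg.Agent.TIM.Basic
import Cfsg.Agent.Gold.S4Free

/-!
# Standard subgroups of type `L₂(2ᵃ)`: the normaliser of `⟨t⟩ V`
-/

set_option autoImplicit false

namespace Cfsg.Lib.SJ1

open Subgroup Cfsg.Lib.Gold Cfsg.Lib.Trans Cfsg.Lib.StdSz
open scoped commutatorElement MatrixGroups

variable {G : Type*} [Group G] [Finite G] {F : Type*} [Field F] [Finite F]

omit [Finite F] in
theorem Mod.l1_mul_mem (M : Mod G F) {x y : G} (hx : x ∈ M.W) (hy : y ∈ M.W) (h1 : x ∉ M.V)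
    (h2 : y ∉ M.V) : x * y ∈ M.V := by
  obtain ⟨b, rfl | rfl⟩ := M.mem_W.1 hx
  · exact absurd (M.v_mem b) h1
  obtain ⟨c, rfl | rfl⟩ := M.mem_W.1 hy
  · exact absurd (M.v_mem c) h2
  · rw [mul_assoc, ← mul_assoc (M.v b), ← (M.t_v b).eq, mul_assoc, M.tt_mul]
    exact mul_mem (M.v_mem b) (M.v_mem c)

/-- The normaliser of `W` is transitive on the involutions of `W`. -/
theorem Mod.l1_trans (M : Mod G F) (hN : ¬ Ns M.W ≤ C1 M.t) (hV : ¬ Ns M.W ≤ Ns M.V) {w : G}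
    (hw : w ∈ M.W) (h1 : w ≠ 1) : ∃ n ∈ Ns M.W, n * M.t * n⁻¹ = w := by
  let Ω : G → Prop := fun w => ∃ n ∈ Ns M.W, n * M.t * n⁻¹ = w
  have k0 : ∀ {n w : G}, n ∈ Ns M.W → Ω w → Ω (n * w * n⁻¹) := by
    rintro n _ hn ⟨m, hm, rfl⟩
    exact ⟨n * m, mul_mem hn hm, by group⟩
  have k0' : ∀ {n w : G}, n ∈ Ns M.W → Ω (n * w * n⁻¹) → Ω w := fun {n w} hn h => by
    simpa [mul_assoc] using k0 (inv_mem hn) h
  have kt : Ω M.t := ⟨1, one_mem _, by simp⟩
  have kW : ∀ {n w : G}, n ∈ Ns M.W → w ∈ M.W → n * w * n⁻¹ ∈ M.W := mem_normalizer_conj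
  have k1 : ∀ {w : G}, Ω w → w ≠ 1 := by
    rintro _ ⟨n, -, rfl⟩ h
    exact M.t_ne (by simpa using h)
  have kv : ∀ {b c : F}, b ≠ 0 → c ≠ 0 → Ω (M.v b) → Ω (M.v c) := fun hb hc h => by
    obtain ⟨k, hk⟩ := M.exists_h hb hc
    exact hk ▸ k0 (M.B_le_NsW (M.h_mem_B k)) h
  have ktv : ∀ {b c : F}, b ≠ 0 → c ≠ 0 → Ω (M.t * M.v b) → Ω (M.t * M.v c) := fun hb hc h => by
    obtain ⟨k, hk⟩ := M.exists_h hb hc
    have := k0 (M.B_le_NsW (M.h_mem_B k)) h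
    rwa [← conj_mul, hk, conj_eq_of_commute (M.t_h k).symm] at this
  have a1 : Ω (M.v 1) := by
    by_contra h
    have h2 : ∀ w, Ω w → w ∉ M.V := by
      rintro _ h3 ⟨b, rfl⟩
      exact h (kv (fun e => k1 h3 (M.v_eq_one.2 e)) one_ne_zero h3)
    obtain ⟨n, hn, h3⟩ := SetLike.not_le_iff_exists.1 hN
    have h4 : ∀ c, Ω (M.t * M.v c) := fun c => by
      by_cases hc : c = 0
      · rwa [hc, M.v_zero, mul_one]
      obtain ⟨b, e | e⟩ := M.mem_W.1 (kW hn M.t_mem_W)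
      · exact absurd ⟨b, e⟩ (h2 _ (k0 hn kt))
      · refine ktv (fun hb => h3 (StdSz.mem_C1.2 (commute_of_conj_eq ?_))) hc (e ▸ k0 hn kt)
        rwa [hb, M.v_zero, mul_one] at e
    refine hV fun m hm => mem_Ns ?_
    rintro _ ⟨c, rfl⟩
    rw [← M.tt_mul (M.v c), ← conj_mul]
    exact M.l1_mul_mem (kW hm M.t_mem_W) (kW hm (M.tv_mem_W c)) (h2 _ (k0 hm kt))
      (h2 _ (k0 hm (h4 c)))
  have a2 : Ω (M.t * M.v 1) := by
    by_contra h
    have h2 : ∀ {n : G} {b : F}, n ∈ Ns M.W → b ≠ 0 → n * (M.t * M.v b) * n⁻¹ ∉ M.V := by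
      rintro n b hn hb ⟨c, e⟩
      refine h (ktv hb one_ne_zero (k0' hn (e ▸ kv one_ne_zero (fun hc => ?_) a1)))
      rw [hc, M.v_zero, conj_eq_one_iff] at e
      exact M.tv_not_mem_V b (e ▸ one_mem _)
    refine hV fun m hm => mem_Ns ?_
    rintro _ ⟨c, rfl⟩
    classical
    obtain ⟨b, hb⟩ := exists_not_mem_finset ({0, c} : Finset F) (F := F)
      (Finset.card_le_two.trans_lt (lt_of_lt_of_le (by norm_num) M.big))
    rw [Finset.mem_insert, Finset.mem_singleton, not_or] at hb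
    have e : M.v c = M.t * M.v b * (M.t * M.v (b + c)) := by
      rw [mul_assoc, ← mul_assoc (M.v b), ← (M.t_v b).eq, mul_assoc, M.tt_mul, ← M.v_add,
        ← add_assoc, M.addF, zero_add]
    rw [e, ← conj_mul]
    exact M.l1_mul_mem (kW hm (M.tv_mem_W _)) (kW hm (M.tv_mem_W _)) (h2 hm hb.1)
      (h2 hm fun e => hb.2 (M.add_eq_zeroF.1 e))
  obtain ⟨b, rfl | rfl⟩ := M.mem_W.1 hw
  · exact kv one_ne_zero (fun e => h1 (M.v_eq_one.2 e)) a1
  · by_cases hb : b = 0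
    · rwa [hb, M.v_zero, mul_one]
    · exact ktv one_ne_zero hb a2

omit [Finite F] in
/-- In the transitive case 2-elements of `N(W)` centralise `W`. -/
theorem Mod.l1_cent (M : Mod G F)
    (tr : ∀ w ∈ M.W, w ≠ 1 → ∃ n ∈ Ns M.W, n * M.t * n⁻¹ = w) (k : ℕ) :
    ∀ s ∈ Ns M.W, s ^ 2 ^ k = 1 → ∀ w ∈ M.W, Commute s w := by
  obtain ⟨S⟩ := M.exists_syl
  have hT : IsSylowIn 2 S.T (Ns M.W) := by
    obtain ⟨R, h1, h2⟩ := exists_isSylowIn_ge S.two (S.le_B.trans M.B_le_NsW)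
    obtain ⟨u, hu, h3, h4⟩ := TIM.exists_fix h1.isPGroup M.two_W h1.le
      fun e => M.t_ne (e.le M.t_mem_W)
    obtain ⟨n, -, rfl⟩ := tr u hu h3
    exact h1.of_card_ge S.two (S.le_B.trans M.B_le_NsW)
      (S.card_le h1.isPGroup fun x hx => Gold.mem_C1.2 (h4 x hx).symm)
  have key : ∀ {s : G} {k : ℕ}, s ∈ Ns M.W → s ^ 2 ^ k = 1 → Commute (s * s) M.t →
      Commute s M.t := fun {s k} hs h1 h2 => by
    by_contra h3
    obtain ⟨y, hy⟩ : ∃ y, y = s * M.t * s⁻¹ := ⟨_, rfl⟩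
    have h4 : s * y * s⁻¹ = M.t := by
      rw [hy, ← conj_eq_of_commute h2]; nth_rw 1 [conj_eq_of_commute h2]; group
    obtain ⟨j, hj⟩ : ∃ j, ∀ x ∈ cj (M.h j) S.T, Commute x y := by
      have h5 : ∀ {b : F}, b ≠ 0 → ∃ j, ∀ x ∈ cj (M.h j) S.T, Commute x M.t ∧ Commute x (M.v b) :=
        fun hb => by
          obtain ⟨j, hj⟩ := M.exists_h one_ne_zero hb
          refine ⟨j, ?_⟩
          rintro _ ⟨x, hx, rfl⟩
          exact ⟨conj_eq_of_commute (M.t_h j).symm ▸ commute_conj (S.T_t hx) (M.h j),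
            hj ▸ commute_conj (S.T_v1 hx) (M.h j)⟩
      obtain ⟨b, e | e⟩ := M.mem_W.1 (hy ▸ mem_normalizer_conj hs M.t_mem_W)
      · refine (h5 (b := b) fun hb => M.t_ne ?_).imp fun j hj x hx => e ▸ (hj x hx).2
        rwa [hb, M.v_zero, hy, conj_eq_one_iff] at e
      · refine (h5 (b := b) fun hb => h3 (commute_of_conj_eq ?_)).imp fun j hj x hx =>
          e ▸ (hj x hx).1.mul_right (hj x hx).2
        rwa [hb, M.v_zero, hy, mul_one] at e
    have h5 := hT.cj_of_mem (M.B_le_NsW (M.h_mem_B j))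
    have h6 : ∀ x ∈ cj (M.h j) S.T, Commute x M.t := by
      rintro _ ⟨x, hx, rfl⟩
      exact conj_eq_of_commute (M.t_h j).symm ▸ commute_conj (S.T_t hx) (M.h j)
    have h7 : ∀ {g : G}, (∀ x ∈ ({M.t, y} : Set G), g * x * g⁻¹ ∈ ({M.t, y} : Set G)) →
        g ∈ normalizer ({M.t, y} : Set G) := fun h =>
      mem_normalizer_fintype (S := ({M.t, y} : Set G)) h
    obtain ⟨x, hx, h8⟩ := (h5.mono (K := Ns M.W ⊓ normalizer ({M.t, y} : Set G))
      (le_inf h5.le fun x hx => h7 (by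
        rintro _ (rfl | rfl)
        exacts [.inl (conj_eq_of_commute (h6 x hx)), .inr (conj_eq_of_commute (hj x hx))]))
      inf_le_left).exists_cj_le (two_zpowers h1) (zpowers_le.2 ⟨hs, h7 (by
        rintro _ (rfl | rfl)
        exacts [.inr hy.symm, .inl h4])⟩)
    have h9 := cj_le_iff.1 h8 s (mem_zpowers s)
    have h10 : Commute (x * s * x⁻¹) (x * M.t * x⁻¹) := by
      rcases (mem_set_normalizer_iff.1 hx.2 M.t).1 (Or.inl rfl) with e | e
      exacts [e.symm ▸ h6 _ h9, (show x * M.t * x⁻¹ = y from e).symm ▸ hj _ h9]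
    exact h3 (by simpa [mul_assoc] using commute_conj h10 x⁻¹)
  induction k with
  | zero => exact fun s _ h w _ => by rw [pow_zero, pow_one] at h; exact h ▸ Commute.one_left w
  | succ k ih =>
    intro s hs h w hw
    have h1 := ih (s * s) (mul_mem hs hs) (by rw [← h, pow_succ', pow_mul, pow_two]) w hw
    by_cases h2 : w = 1
    · exact h2 ▸ Commute.one_right s
    obtain ⟨n, hn, rfl⟩ := tr w hw h2
    have h3 := key (s := n⁻¹ * s * n) (k := k + 1) (mul_mem (mul_mem (inv_mem hn) hs) hn)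
      (by simpa [h] using conj_pow (a := n⁻¹) (b := s) (i := 2 ^ (k + 1)))
      (by simpa [mul_assoc] using commute_conj h1 n⁻¹)
    simpa [mul_assoc] using commute_conj h3 n

theorem Amb.l1 {D : Dat G F} {X A : Subgroup G} (a : Amb D.toMod X A) (hN : ¬ Ns D.W ≤ C1 D.t) :
    Ns D.W ≤ Ns D.V := by
  by_contra hV
  have tr := fun w hw h1 => D.l1_trans hN hV (w := w) hw h1
  obtain ⟨P, hP⟩ := D.two_W.exists_le_sylow
  have hW : (P : Subgroup G) = D.W := by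
    by_contra h
    obtain ⟨s, ⟨h1, h2⟩, h3⟩ := SetLike.not_le_iff_exists.1
      (lt_inf_normalizer P.isPGroup' (hP.lt_of_ne' h)).not_ge
    obtain ⟨k, hk⟩ := pow_of_two P.isPGroup' h1
    have h4 := D.l1_cent tr k s h2 hk
    exact h3 (D.mem_W_of_pow (h4 _ D.t_mem_W) (fun b => h4 _ (D.v_mem_W b)) hk)
  obtain ⟨n, -, hn⟩ := tr _ (D.v_mem_W 1) D.v1_ne
  obtain rfl := a.top_of (a.conj_mem_iff.1 (hn ▸ a.v_X 1))
  have := a.simple
  have := (topEquiv (G := G)).symm.isSimpleGroup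
  have h4 : Nat.card F = 4 := by
    obtain ⟨r, h1, h2⟩ := D.exists_pow
    rcases h1.eq_or_lt with rfl | h1
    · exact h2
    obtain ⟨r, rfl⟩ := Nat.exists_eq_add_of_lt h1
    obtain ⟨k, hk⟩ := D.exists_unit
    refine ((D.eq_of_commute_h (b := 1) ((isL2Even_of_abelian (fun h => a.nonab inferInstance) P
      (hW ▸ ⟨⟨fun x y => Subtype.ext (D.W_comm x.2 y.2)⟩⟩) ((Dvd.intro (2 ^ r) ?_).trans
        (card_subgroup_dvd_card D.W))).comm_of_comm D.t_ne (D.t_h k).symm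
          (D.t_v 1).symm)).elim hk one_ne_zero).elim
    rw [D.card_W, h2]; ring
  have := a.eight
  omega

end Cfsg.Lib.SJ1
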