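import Cfsg.Agent.SJ1.Q3A

/-! # Standard subgroups `L₂(2ᵃ)`: the special group of order `q ^ 3` -/

set_option autoImplicit false
set_option linter.unusedSectionVars false

namespace Cfsg.Lib.SJ1

open Subgroup Cfsg.Lib.Gold Cfsg.Lib.Trans Cfsg.Lib.StdSz
open scoped commutatorElement MatrixGroups

variable {G : Type*} [Group G] [Finite G] {F : Type*} [Field F] [Finite F]

theorem Mod.card_vfix (M : Mod G F) (σ : RingAut F) :
    Nat.card {g : G | ∃ b, σ b = b ∧ g = M.v b} ≤ Nat.card {b : F // σ b = b} :=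
  Nat.card_le_card_of_surjective (fun b : {b : F // σ b = b} =>
    (⟨M.v b, b, b.2, rfl⟩ : {g : G | ∃ b, σ b = b ∧ g = M.v b})) (by
      rintro ⟨_, b, hb, rfl⟩; exact ⟨⟨b, hb⟩, rfl⟩)

theorem Syl.not_big {M : Mod G F} (S0 : Syl M) {E0 : Subgroup G} (h : ∀ e ∈ E0, e * e = 1)
    (hc : Nat.card F * Nat.card F ≤ Nat.card E0) {g : G} (hg : g * M.t * g⁻¹ ∈ E0) : False := by
  obtain ⟨g', -, h1⟩ := S0.conj_le (g := g) (R := E0)
    (two_of_pow fun e he => ⟨1, by rw [pow_one, pow_two, h e he]⟩) fun e he =>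
      StdSz.mem_C1.2 (StdU3.commute_of_invol (h e he) (h _ hg) (h _ (E0.mul_mem he hg)))
  have := M.big
  rcases S0.elem (cj_inv_le_iff_le_cj.2 h1) (by
    rintro _ ⟨e, he, rfl⟩
    rw [← map_mul, h e he, map_one]) with h2 | h2
  · have h3 := Subgroup.card_le_of_le h2
    rw [card_cj, M.card_W] at h3
    nlinarith
  · rw [card_cj] at h2
    have h3 := Nat.pow_le_pow_left hc 2
    have h4 : 4 * 4 * 4 * Nat.card F ≤ Nat.card F * Nat.card F * Nat.card F * Nat.card F := by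
      gcongr
    nlinarith

omit [Finite G] [Finite F] in
theorem relIndex_ker {P : Subgroup G} {f : G → F} (h : AddOn P f) (hs : ∀ b, ∃ g ∈ P, f g = b) :
    h.ker.relIndex P = Nat.card F := by
  let φ : P →* Multiplicative F := MonoidHom.mk' (fun g => Multiplicative.ofAdd (f g))
    fun x y => congrArg Multiplicative.ofAdd (h _ x.2 _ y.2)
  have h1 : h.ker.subgroupOf P = φ.ker := Subgroup.ext fun g => ⟨fun k => k.2, fun k => ⟨g.2, k⟩⟩
  have h2 : φ.range = ⊤ := MonoidHom.range_eq_top.2 fun b => by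
    obtain ⟨g, hg, e⟩ := hs b.toAdd
    exact ⟨⟨g, hg⟩, congrArg Multiplicative.ofAdd e⟩
  rw [relIndex, h1, index_ker, h2, card_top]
  rfl

namespace Q3

variable {D : Dat G F} (E : Q3 D) (S0 : Syl D.toMod) (d : F)

/-- First isotropic coordinate. -/
def x (g : G) : F := E.r g + d * E.s g

theorem x_add : AddOn E.P (E.x d) := fun g hg g' hg' => by
  rw [x, x, x, E.r_add g hg g' hg', E.s_add g hg g' hg']; ring

theorem surj_x (a b : F) : ∃ g ∈ E.P, E.x d g = a ∧ E.x (d + 1) g = b := by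
  obtain ⟨g, hg, h1, h2⟩ := E.surj (a + d * (a + b)) (a + b)
  exact ⟨g, hg, by rw [x, h1, h2]; linear_combination d * (a + b) * D.two,
    by rw [x, h1, h2]; linear_combination (d * (a + b) + a) * D.two⟩

theorem eq_of_x {g g' : G} (hg : g ∈ E.P) (hg' : g' ∈ E.P) (h1 : E.x d g = E.x d g')
    (h2 : E.x (d + 1) g = E.x (d + 1) g') : g⁻¹ * g' ∈ D.V := by
  simp only [x] at h1 h2
  exact E.eq_of_rs hg hg' (by linear_combination (d + 1) * h1 - d * h2)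
    (by linear_combination h2 - h1)

variable {d} (hd : d * d + d = E.ν)
include hd

theorem sq_x {g : G} (hg : g ∈ E.P) : g * g = D.v (E.x d g * E.x (d + 1) g) := by
  rw [E.sq g hg, x, x, ← hd]
  congr 1
  linear_combination (-d * E.r g * E.s g) * D.two

theorem succ_d : (d + 1) * (d + 1) + (d + 1) = E.ν := by linear_combination hd + (d + 1) * D.two

theorem ker_sq {g : G} (hg : g ∈ (E.x_add d).ker) : g * g = 1 := by
  rw [E.sq_x hd hg.1, hg.2, zero_mul, D.v_zero]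

theorem ker_card : Nat.card F * Nat.card F ≤ Nat.card (E.x_add d).ker := by
  choose u hu h1 h2 using E.surj_x d 0
  have hv : ∀ e b, E.x e (D.v b) = 0 := fun e b => by simp [x, E.rs_v]
  rw [← Nat.card_prod]
  refine Nat.card_le_card_of_injective (fun z : F × F => (⟨u z.1 * D.v z.2,
    mul_mem ⟨hu _, h1 _⟩ ⟨E.V_le (D.v_mem _), hv _ _⟩⟩ : (E.x_add d).ker)) fun z z' e => ?_
  replace e : u z.1 * D.v z.2 = u z'.1 * D.v z'.2 := congrArg Subtype.val e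
  have e1 := congrArg (E.x (d + 1)) e
  rw [E.x_add _ _ (hu _) _ (E.V_le (D.v_mem _)), E.x_add _ _ (hu _) _ (E.V_le (D.v_mem _)), h2,
    h2, hv, hv, add_zero, add_zero] at e1
  rw [e1] at e
  exact Prod.ext e1 (D.v_inj (mul_left_cancel e))

theorem inv_P {g : G} (hg : g ∈ E.P) (h : g * g = 1) :
    g ∈ (E.x_add d).ker ∨ g ∈ (E.x_add (d + 1)).ker := by
  rw [E.sq_x hd hg, D.v_eq_one, mul_eq_zero] at h
  exact h.imp (fun h => ⟨hg, h⟩) fun h => ⟨hg, h⟩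

theorem big {g : G} (hg : g ∈ E.P) (h : g * g = 1) : ∃ A : Subgroup G, g ∈ A ∧
    (∀ a ∈ A, a * a = 1) ∧ Nat.card F * Nat.card F ≤ Nat.card A := by
  rcases E.inv_P hd hg h with h1 | h1
  · exact ⟨_, h1, fun _ => E.ker_sq hd, E.ker_card hd⟩
  · exact ⟨_, h1, fun _ => E.ker_sq (E.succ_d hd), E.ker_card (E.succ_d hd)⟩

theorem act_x {g τ : G} (hg : g ∈ E.P) (hτ : τ ∈ S0.T) :
    (∀ z ∈ E.P, E.x d (g * τ * z * (g * τ)⁻¹) = S0.σ τ (E.x d z) ∧
      E.x (d + 1) (g * τ * z * (g * τ)⁻¹) = S0.σ τ (E.x (d + 1) z)) ∨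
    ∀ z ∈ E.P, E.x d (g * τ * z * (g * τ)⁻¹) = S0.σ τ (E.x (d + 1) z) := by
  obtain ⟨c, hc, h⟩ := E.actS S0 hg hτ
  rw [← hd, map_add, map_mul] at hc
  have : (c + d + S0.σ τ d) * (c + d + S0.σ τ d + 1) = 0 := by
    linear_combination hc + (d * d + d + S0.σ τ d * S0.σ τ d + S0.σ τ d + c * d + c * S0.σ τ d +
      d * S0.σ τ d) * D.two
  rcases mul_eq_zero.1 this with h1 | h1
  · refine Or.inl fun z hz => ?_
    simp only [x, (h z hz).1, (h z hz).2, map_add, map_mul, map_one]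
    constructor <;> linear_combination S0.σ τ (E.s z) * h1 - S0.σ τ d * S0.σ τ (E.s z) * D.two
  · refine Or.inr fun z hz => ?_
    simp only [x, (h z hz).1, (h z hz).2, map_add, map_mul, map_one]
    linear_combination S0.σ τ (E.s z) * h1 - (S0.σ τ d + 1) * S0.σ τ (E.s z) * D.two

/-- A field involution is not conjugate to `t`. -/
theorem field_not {g τ : G} (hg : g ∈ E.P) (hτ : τ ∈ S0.T) (h1 : S0.σ τ ≠ 1)
    (h2 : S0.σ τ * S0.σ τ = 1) {k : G} (e : k * D.t * k⁻¹ = g * τ) : False := by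
  have hy : g * τ ∈ E.S S0 := mul_mem (mem_sup_left hg) (mem_sup_right hτ)
  have hy2 : g * τ * (g * τ) = 1 := by rw [← e, conj_sq, D.t_sq]; group
  have hv := E.act_v S0 hg hτ
  have ha := E.act_x S0 hd hg hτ
  generalize g * τ = y at *
  have yi : y⁻¹ = y := inv_eq_of_mul_eq_one_right hy2
  have c1 := S0.card_le (g := k) (R := E.S S0 ⊓ C1 y) (E.two_S S0).to_inf_left
    (e ▸ inf_le_right)
  let I : Set G := {z | z ∈ E.P ∧ y * z * y⁻¹ = z⁻¹}
  have c2 := card_le_fib (E.S S0 : Set G) ((E.S S0 ⊓ C1 y : Subgroup G) : Set G)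
    (fun s => (⟨⁅(s : G), y⁆, E.comm_S S0 s.2 hy, by
      rw [commutatorElement_inv, commutatorElement_def, commutatorElement_def, yi]
      simp only [mul_assoc, hy2, mul_one]⟩ : I)) fun s s' h => by
    replace h : ⁅(s : G), y⁆ = ⁅(s' : G), y⁆ := congrArg Subtype.val h
    rw [commutatorElement_def, commutatorElement_def, mul_left_inj] at h
    refine ⟨(E.S S0).mul_mem ((E.S S0).inv_mem s.2) s'.2, StdSz.mem_C1.2 (commute_of_conj_eq ?_)⟩
    calc (s : G)⁻¹ * s' * y * ((s : G)⁻¹ * s')⁻¹ = (s : G)⁻¹ * (s' * y * (s' : G)⁻¹) * s := by group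
      _ = y := by rw [← h]; group
  have hN : ∀ z z' : I, E.x d z = E.x d z' → E.x (d + 1) z = E.x (d + 1) z' →
      (z : G)⁻¹ * z' ∈ {g : G | ∃ b, S0.σ τ b = b ∧ g = D.v b} := by
    rintro ⟨z, hz, e1⟩ ⟨z', hz', e2⟩ k1 k2
    obtain ⟨b, hb⟩ := E.eq_of_x d hz hz' k1 k2
    refine ⟨b, D.v_inj ?_, hb⟩
    have e3 : z' = z * D.v b := by rw [← hb]; group
    rw [← hv, ← hb, show y * (z⁻¹ * z') * y⁻¹ = (y * z * y⁻¹)⁻¹ * (y * z' * y⁻¹) by group, e1, e2,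
      hb, e3, mul_inv_rev, D.v_inv, inv_inv, ← mul_assoc, conj_eq_of_commute (E.cV z hz b)]
  have hx : ∀ e, ∀ z : I, E.x e (y * z * y⁻¹) = E.x e z := fun e z => by
    rw [z.2.2, (E.x_add e).inv z.2.1, D.negF]
  have c3 := card_fix D.two h1 h2
  have c4 := D.card_vfix (S0.σ τ)
  have c5 : Nat.card I ≤ Nat.card F * Nat.card {b : F // S0.σ τ b = b} := by
    rcases ha with ha | ha
    · have := card_le_fib I _ (fun z => ((⟨E.x d z, by rw [← (ha _ z.2.1).1, hx]⟩,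
        ⟨E.x (d + 1) z, by rw [← (ha _ z.2.1).2, hx]⟩) :
          {b : F // S0.σ τ b = b} × {b : F // S0.σ τ b = b})) fun z z' h =>
        hN z z' (congrArg (fun w => w.1.1) h) (congrArg (fun w => w.2.1) h)
      rw [Nat.card_prod, ← pow_two, c3] at this
      exact this.trans (Nat.mul_le_mul_left _ c4)
    · exact (card_le_fib I _ (fun z => E.x (d + 1) z) fun z z' h =>
        hN z z' (by rw [← hx, ← hx d z', ha _ z.2.1, ha _ z'.2.1]; exact congrArg _ h) h).trans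
        (Nat.mul_le_mul_left _ c4)
  have c6 := (E.card_S S0).trans (c2.trans (Nat.mul_le_mul c5 c1))
  have c7 := Nat.le_of_mul_le_mul_left (Nat.le_of_mul_le_mul_right c6 Nat.card_pos) Nat.card_pos
  have := D.big
  nlinarith

theorem cls {g : G} (hg : g * D.t * g⁻¹ ∈ E.S S0) :
    g * D.t * g⁻¹ ∉ E.P ∧ D.t * (g * D.t * g⁻¹) ∈ E.P := by
  have h2 : g * D.t * g⁻¹ * (g * D.t * g⁻¹) = 1 := by rw [conj_sq, D.t_sq]; group
  have h1 : g * D.t * g⁻¹ ∉ E.P := fun h => by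
    obtain ⟨A, h3, h4, h5⟩ := E.big hd h h2
    exact S0.not_big h4 h5 h3
  refine ⟨h1, ?_⟩
  rcases E.inv_cases S0 hg h2 with h | h | ⟨p, hp, τ, hτ, e, h3, h4⟩
  · exact (h1 h).elim
  · exact h
  · exact (E.field_not S0 hd hp hτ h3 h4 e).elim

omit hd in
/-- Large elementary abelian subgroups of `S` lie in `P`. -/
theorem elem_le {E0 : Subgroup G} (hE : E0 ≤ E.S S0) (h : ∀ e ∈ E0, e * e = 1)
    (hc : Nat.card F * Nat.card F ≤ Nat.card E0) : E0 ≤ E.P := by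
  have ht : ∀ e ∈ E0, D.t * e ∉ E.P := fun e he h1 => by
    obtain ⟨p, -, rfl⟩ := E.conj_t h1 (h e he)
    exact S0.not_big h hc he
  have hf : ∀ e ∈ E0, e ∉ E.P →
      ∃ g ∈ E.P, ∃ τ ∈ S0.T, e = g * τ ∧ S0.σ τ ≠ 1 ∧ S0.σ τ * S0.σ τ = 1 := fun e he h1 =>
    ((E.inv_cases S0 (hE he) (h e he)).resolve_left h1).resolve_left (ht e he)
  intro e he
  by_contra h1
  obtain ⟨g, hg, τ, hτ, rfl, h2, h3⟩ := hf e he h1
  have hc' : ∀ z ∈ E0, g * τ * z * (g * τ)⁻¹ = z := fun z hz => conj_eq_of_commute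
    (StdU3.commute_of_invol (h _ he) (h z hz) (h _ (E0.mul_mem he hz)))
  have c1 := card_le_fib (E0 : Set G) ((E0 ⊓ E.P : Subgroup G) : Set G)
      (fun z => (z : G) ∈ E.P) fun z z' k => by
    refine ⟨E0.mul_mem (E0.inv_mem z.2) z'.2, ?_⟩
    by_cases hz : (z : G) ∈ E.P
    · exact E.P.mul_mem (E.P.inv_mem hz) (k ▸ hz)
    obtain ⟨p, hp, ρ, hρ, e1, k1, k2⟩ := hf _ z.2 hz
    obtain ⟨p', hp', ρ', hρ', e2, k1', k2'⟩ := hf _ z'.2 (k ▸ hz)
    rw [inv_eq_of_mul_eq_one_right (h _ z.2)]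
    have := E.mul_field S0 hp hρ hp' hρ' k1 k2 k1' k2'
    rw [← e1, ← e2] at this
    exact this.resolve_right (ht _ (E0.mul_mem z.2 z'.2))
  obtain ⟨c, -, ha⟩ := E.actS S0 hg hτ
  have c2 := card_le_fib ((E0 ⊓ E.P : Subgroup G) : Set G) {g : G | ∃ b, S0.σ τ b = b ∧ g = D.v b}
    (fun z => (⟨E.s z, by rw [← (ha _ z.2.2).2, hc' _ z.2.1]⟩ : {b : F // S0.σ τ b = b}))
    fun z z' k => by
      replace k : E.s z = E.s z' := congrArg Subtype.val k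
      have m1 : (z : G)⁻¹ * z' ∈ E0 := mul_mem (inv_mem z.2.1) z'.2.1
      have m2 : (z : G)⁻¹ * z' ∈ E.P := mul_mem (inv_mem z.2.2) z'.2.2
      have k1 : E.s ((z : G)⁻¹ * z') = 0 := by
        rw [E.s_add _ (inv_mem z.2.2) _ z'.2.2, E.s_inv z.2.2, k, D.addF]
      have k2 := E.Q_eq_zero m2 (h _ m1)
      rw [k1] at k2
      obtain ⟨b, hb⟩ := E.ker _ m2 (mul_self_eq_zero.1 (by simpa using k2)) k1
      exact ⟨b, D.v_inj (by rw [← E.act_v S0 hg hτ, ← hb, hc' _ m1]), hb⟩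
  have c3 := card_fix D.two h2 h3
  have c4 := c2.trans (Nat.mul_le_mul_left _ (D.card_vfix (S0.σ τ)))
  rw [← pow_two, c3] at c4
  have c5 : Nat.card Prop = 2 := by simp
  have c6 := hc.trans (c1.trans (Nat.mul_le_mul c5.le c4))
  have := D.big
  nlinarith

omit hd in
theorem exists_field {X : Subgroup G} (k : ℕ) : ∀ τ ∈ S0.T ⊓ X, τ ^ 2 ^ k = 1 → S0.σ τ ≠ 1 →
    ∃ τ ∈ S0.T ⊓ X, S0.σ τ ≠ 1 ∧ S0.σ τ * S0.σ τ = 1 := by
  induction k with
  | zero =>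
    intro τ hτ h1 h2
    rw [pow_zero, pow_one] at h1
    exact (h2 ((S0.σ_eq_one hτ.1).2 fun b => h1 ▸ Commute.one_left _)).elim
  | succ k ih =>
    intro τ hτ h1 h2
    by_cases h3 : S0.σ τ * S0.σ τ = 1
    · exact ⟨τ, hτ, h2, h3⟩
    · exact ih (τ * τ) (mul_mem hτ hτ) (by rw [← pow_two, ← pow_mul, ← pow_succ', h1])
        (by rwa [S0.σ_mul hτ.1 hτ.1])

theorem inf_X {X A : Subgroup G} (a : Amb D.toMod X A) (S : Sylow 2 G)
    (hS : (S : Subgroup G) = E.S S0) (ht : D.t ∉ X) : (S : Subgroup G) ⊓ X ≤ E.P := by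
  have hX := E.P_le_X a
  have h1 : ∀ y ∈ X, D.t * y ∉ E.P := fun y hy h => ht (by
    have := X.mul_mem (hX h) (X.inv_mem hy)
    rwa [mul_inv_cancel_right] at this)
  rintro y ⟨hy, hyX⟩
  by_contra hn
  rw [hS] at hy
  obtain ⟨g, hg, τ, hτ, rfl⟩ := (E.mem_S S0).1 hy
  obtain ⟨k, hk⟩ := pow_of_two S0.two hτ
  obtain ⟨ρ, ⟨hρ, hρX⟩, k1, k2⟩ := exists_field S0 k τ ⟨hτ, (X.mul_mem_cancel_left (hX hg)).1 hyX⟩ hk
    fun h => (E.S1_of S0 hg hτ h).elim hn (h1 _ hyX)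
  obtain ⟨b, hb⟩ := S0.exists_sq hρ k1 k2
  replace hb := hb.resolve_right fun h => ht (h ▸ a.sq_mem _)
  have hvT : D.v b ∈ S0.T := S0.W_le (mem_sup_left (D.v_mem b))
  have hβ : ρ * D.v b ∈ S0.T := mul_mem hρ hvT
  have hσ : S0.σ (ρ * D.v b) ≠ 1 := by
    rwa [S0.σ_mul hρ hvT, (S0.σ_eq_one hvT).2 (D.v_comm b), mul_one]
  have hβX : ρ * D.v b ∈ X := mul_mem hρX (a.V_le (D.v_mem b))
  generalize ρ * D.v b = β at hb hβ hσ hβX
  obtain ⟨w, -, -, hw⟩ := a.trX S (P := E.P)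
    (fun x hx y hy => E.comm_S S0 (hS ▸ hx.1) (hS ▸ hy.1)) (fun x hx y hy x2 y2 xP yP => by
      obtain ⟨p, hp, ρ, hρ, e1, k1, k2⟩ := ((E.inv_cases S0 (hS ▸ hx.1) x2).resolve_left
        xP).resolve_left (h1 _ hx.2)
      obtain ⟨p', hp', ρ', hρ', e2, k1', k2'⟩ := ((E.inv_cases S0 (hS ▸ hy.1) y2).resolve_left
        yP).resolve_left (h1 _ hy.2)
      have := E.mul_field S0 hp hρ hp' hρ' k1 k2 k1' k2'
      rw [← e1, ← e2] at this
      exact this.resolve_right (h1 _ (X.mul_mem hx.2 hy.2))) hβX hb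
  obtain ⟨B, m1, m2, m3⟩ := E.big hd hw (by rw [conj_sq, hb]; group)
  have hsq : ∀ u : G, ∀ e ∈ cj u B, e * e = 1 := by
    rintro u _ ⟨e, he, rfl⟩
    rw [← map_mul, m2 e he, map_one]
  have m4 : β ∈ cj w⁻¹ B := mem_cj_inv.2 m1
  obtain ⟨R, hR, htR⟩ := exists_isSylowIn_ge (H := C1 β)
    (two_zpowers (k := 1) (by rw [pow_one, pow_two, D.t_sq]))
    (zpowers_le.2 (StdSz.mem_C1.2 (S0.T_t hβ).symm))
  obtain ⟨c, hc, h2⟩ := hR.exists_cj_le (Q := cj w⁻¹ B)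
    (two_of_pow fun e he => ⟨1, by rw [pow_one, pow_two, hsq _ e he]⟩) fun e he =>
      StdSz.mem_C1.2 (StdU3.commute_of_invol (hsq _ e he) hb (hsq _ _ (mul_mem he m4)))
  obtain ⟨u, -, h3⟩ := (isSylowIn_top S).exists_cj_le hR.isPGroup le_top
  rw [hS] at h3
  have h4 : cj u (cj c (cj w⁻¹ B)) ≤ E.P :=
    E.elem_le S0 ((cj_mono u h2).trans h3) (by rw [cj_cj, cj_cj]; exact hsq _)
      (by rwa [card_cj, card_cj, card_cj])
  have h5 : u * β * u⁻¹ ∈ E.P := by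
    refine h4 (conj_mem_cj.2 ?_)
    rw [← conj_eq_of_commute (StdSz.mem_C1.1 hc)]
    exact conj_mem_cj.2 m4
  obtain ⟨p, hp, e⟩ := E.conj_t (E.cls S0 hd (h3 (conj_mem_cj.2 (htR (mem_zpowers _))))).2
    (by rw [conj_sq, D.t_sq]; group)
  have h6 : Commute (p⁻¹ * u) D.t := commute_of_conj_eq (by
    rw [show p⁻¹ * u * D.t * (p⁻¹ * u)⁻¹ = p⁻¹ * (u * D.t * u⁻¹) * p by group, e]; group)
  have h7 : p⁻¹ * u * β * (p⁻¹ * u)⁻¹ ∈ D.V := by
    refine E.mem_V_of_t ?_ ?_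
    · rw [show p⁻¹ * u * β * (p⁻¹ * u)⁻¹ = p⁻¹ * (u * β * u⁻¹) * p by group]
      exact mul_mem (mul_mem (inv_mem hp) h5) hp
    · exact (h6.mul_left (S0.T_t hβ)).mul_left h6.inv_left
  obtain ⟨b', rfl⟩ := D.mem_V_of_conj (g := (p⁻¹ * u)⁻¹) h6.inv_left (D.mem_B.1 (S0.le_B hβ)).2
    (by rwa [inv_inv])
  exact hσ ((S0.σ_eq_one hβ).2 (D.v_comm b'))

/-- The split case. -/
theorem out_split {X A : Subgroup G} (a : Amb D.toMod X A) : False := by
  obtain ⟨S0⟩ := D.exists_syl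
  obtain ⟨S, hS⟩ := E.exists_sylow S0 fun g hg => (E.cls S0 hd hg).2
  have ht : D.t ∉ X := a.tr S (P := E.P) (fun x hx y hy => E.comm_S S0 (hS ▸ hx) (hS ▸ hy))
    (fun g hg => (E.cls S0 hd (hS ▸ hg)).1) fun g g' hg hg' => by
      have := mul_mem (E.tt_mem (E.cls S0 hd (hS ▸ hg)).2) (E.cls S0 hd (hS ▸ hg')).2
      simpa only [mul_assoc, D.tt_mul] using this
  have hAB : ∀ g ∈ E.P, ∃ y ∈ (E.x_add d).ker, ∃ z ∈ (E.x_add (d + 1)).ker, g = y * z := by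
    intro g hg
    obtain ⟨y, hy, h1, h2⟩ := E.surj_x d 0 (E.x (d + 1) g)
    exact ⟨y, ⟨hy, h1⟩, y⁻¹ * g, ⟨mul_mem (inv_mem hy) hg, by
      rw [E.x_add _ _ (inv_mem hy) _ hg, (E.x_add _).inv hy, h2, neg_add_cancel]⟩, by group⟩
  have hP : (E.x_add d).ker ⊔ (E.x_add (d + 1)).ker = E.P :=
    le_antisymm (sup_le (AddOn.ker_le _) (AddOn.ker_le _)) fun g hg => by
      obtain ⟨y, hy, z, hz, rfl⟩ := hAB g hg
      exact mul_mem (mem_sup_left hy) (mem_sup_right hz)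
  obtain ⟨u, hu, u1, u2⟩ := E.surj_x d 1 1
  refine a.fin_ab S (fun _ => E.ker_sq hd) (fun _ => E.ker_sq (E.succ_d hd))
    (hP.trans (le_antisymm (le_inf (hS ▸ le_sup_left) (E.P_le_X a)) (E.inf_X S0 hd a S hS ht)))
    (fun g hg => hAB g (hP.le hg)) (fun g hg => E.inv_P hd (hP.le hg)) (hP.ge hu) ?_ ?_
  · rw [E.sq_x hd hu, u1, u2, mul_one]; exact D.v1_ne
  · rw [hP, relIndex_ker _ fun b => (E.surj_x d b 0).imp fun g h => ⟨h.1, h.2.1⟩, a.eight]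

end Q3

theorem Q3.out {D : Dat G F} {X A : Subgroup G} (E : Q3 D) (a : Amb D.toMod X A) :
    False := by
  by_cases h : ∃ d, d * d + d = E.ν
  · obtain ⟨d, hd⟩ := h
    exact E.out_split hd a
  · exact E.out_aniso a fun d hd => h ⟨d, hd⟩

end Cfsg.Lib.SJ1
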