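import Cfsg.Agent.SJ1.SCA
import Cfsg.Agent.Local.InvCent
import Cfsg.Agent.Local.NormalFour
import Cfsg.Agent.Solv.MinNormal
import Cfsg.Agent.Trans.Critical

/-!
# Elementary abelian subgroups of a 2-group with a narrow involution
-/

set_option autoImplicit false

namespace Cfsg.Lib.SJ1

open Subgroup Cfsg.Lib.Gold Cfsg.Lib.Trans Cfsg.Lib.StdSz

universe u

namespace SCB

variable {S : Type*} [Group S] [Finite S] {t s z : S}

theorem invol_eq {a b : S} (ha : a ∈ zpowers s) (hb : b ∈ zpowers s) (a2 : a * a = 1)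
    (b2 : b * b = 1) (a1 : a ≠ 1) (b1 : b ≠ 1) : a = b := by
  classical
  have := Fintype.ofFinite (zpowers s)
  by_contra hne
  have h := IsCyclic.card_pow_eq_one_le (α := zpowers s) (n := 2) (by norm_num)
  have hs : ({1, ⟨a, ha⟩, ⟨b, hb⟩} : Finset (zpowers s)) ⊆
      Finset.univ.filter (fun x => x ^ 2 = 1) := by
    intro x hx
    simp only [Finset.mem_insert, Finset.mem_singleton] at hx
    rcases hx with rfl | rfl | rfl <;> simp [pow_two, Subtype.ext_iff, a2, b2]
  have h3 := Finset.card_le_card hs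
  rw [Finset.card_eq_three.2 ⟨_, _, _, fun e => a1 (congrArg Subtype.val e).symm,
    fun e => b1 (congrArg Subtype.val e).symm, fun e => hne (congrArg Subtype.val e), rfl⟩] at h3
  omega

theorem omega (ht : t * t = 1) (h : ∀ x, Commute x t → x ∈ zpowers s ∨ t * x ∈ zpowers s)
    {x y : S} (hx : Commute x t) (hy : Commute y t) (x2 : x * x = 1) (y2 : y * y = 1) (x1 : x ≠ 1)
    (y1 : y ≠ 1) (xt : x ≠ t) (yt : y ≠ t) : y = x ∨ y = t * x := by
  have k : ∀ x, Commute x t → x * x = 1 → x ≠ t → t * x * (t * x) = 1 ∧ t * x ≠ 1 :=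
    fun x hx x2 xt => ⟨by rw [hx.mul_mul_mul_comm, ht, x2, one_mul],
      fun e => xt (mul_left_cancel (e.trans ht.symm))⟩
  obtain ⟨⟨a1, a2⟩, ⟨b1, b2⟩⟩ := k x hx x2 xt, k y hy y2 yt
  rcases h x hx with p | p <;> rcases h y hy with q | q
  · exact .inl (invol_eq q p y2 x2 y1 x1)
  · exact .inr (by rw [invol_eq p q x2 b1 x1 b2, ← mul_assoc, ht, one_mul])
  · exact .inr (invol_eq q p y2 a1 y1 a2)
  · exact .inl (mul_left_cancel (invol_eq q p b1 a1 b2 a2))

omit [Finite S] in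
theorem card_map {S' : Type*} [Group S'] (f : S →* S') (K : Subgroup S) :
    Nat.card K = Nat.card (f.ker ⊓ K : Subgroup S) * Nat.card (K.map f) := by
  rw [← relIndex_ker, ← inf_relIndex_right, card_mul_relIndex inf_le_right]

theorem two_mul_le {A B : Subgroup S} (h : A < B) : 2 * Nat.card A ≤ Nat.card B := by
  rw [← card_mul_relIndex h.le, mul_comm]
  refine Nat.mul_le_mul_left _ ((Nat.two_le_iff _).2 ⟨index_ne_zero_of_finite, fun e => ?_⟩)
  exact h.not_ge (relIndex_eq_one.1 e)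

omit [Finite S] in
theorem mem_zp (hz : z * z = 1) {x : S} : x ∈ zpowers z ↔ x = 1 ∨ x = z := by
  have := StdU3.mem_sup_invol (P := ⊥) (g := x) hz (mem_Ns_iff.2 (cj_bot _))
  rw [bot_sup_eq, mem_bot, mem_bot] at this
  rw [this]
  exact or_congr_right ⟨fun e => mul_left_cancel (e.trans hz.symm), fun e => e ▸ hz⟩

omit [Finite S] in
theorem card_zp (hz : z * z = 1) (h1 : z ≠ 1) : Nat.card (zpowers z) = 2 := by
  rw [Nat.card_zpowers, orderOf_eq_prime (by rw [sq, hz]) h1]

theorem exists_z [Nontrivial S] (hS : IsPGroup 2 S) : ∃ z : S, z * z = 1 ∧ z ≠ 1 ∧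
    ∀ x, x * z = z * x :=
  let ⟨z, _, h1, h2, h3⟩ := exists_mem_center_pow_eq_one hS ⊤ top_ne_bot
  ⟨z, sq z ▸ h3, h2, mem_center_iff.1 h1⟩

theorem rk : ∀ (S : Type u) [Group S] [Finite S], IsPGroup 2 S → ∀ t s : S, t * t = 1 →
    (∀ x, Commute x t → x ∈ zpowers s ∨ t * x ∈ zpowers s) → ∀ E : Subgroup S,
    (∀ e ∈ E, e * e = 1) → t ≠ 1 → Nat.card E ≤ Nat.card (C1 t) := by
  refine Solv.card_induction fun S _ _ ih => ?_
  intro hS t s ht h E hE ht1
  by_cases hc : E ≤ C1 t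
  · exact Trans.card_le_of_le hc
  have tE : t ∉ E := fun k => hc fun x hx => Gold.mem_C1.2 (comm_of_sq hE x hx t k)
  have nc : ∀ z, (∀ x, x * z = z * x) → z ≠ t := fun z hz e =>
    hc fun x _ => Gold.mem_C1.2 (e ▸ hz x)
  by_cases h4 : Nat.card E ≤ 4
  · have : Nontrivial S := ⟨t, 1, ht1⟩
    obtain ⟨z, z2, z1, zc⟩ := exists_z hS
    obtain ⟨K, k1, -, k3⟩ := Local.exists_double_elementary (zpowers z)
      (fun x hx => by rcases (mem_zp z2).1 hx with rfl | rfl; exacts [mul_one _, z2]) t ht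
      (fun k => ((mem_zp z2).1 k).elim ht1 (nc z zc).symm)
      fun x hx => by rcases (mem_zp z2).1 hx with rfl | rfl; exacts [by simp, zc t]
    have l : zpowers z ≤ C1 t := zpowers_le.2 (Gold.mem_C1.2 (zc t).symm)
    rw [card_zp z2 z1] at k1
    exact h4.trans (k1.ge.trans (Trans.card_le_of_le fun x hx => ((k3 x).1 hx).elim (l ·) fun k =>
      (mul_mem_cancel_left (Gold.mem_C1.2 rfl)).1 (l k)))
  obtain ⟨z, e, z2, e2, z1, e1, ez, zc, ec⟩ :=
    Local.exists_normal_four_of_elementary hS E (not_le.1 h4) hE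
  obtain ⟨U, u1, u2, u3⟩ := Local.exists_double_elementary (zpowers z)
    (fun x hx => by rcases (mem_zp z2).1 hx with rfl | rfl; exacts [mul_one _, z2]) e e2
    (fun k => ((mem_zp z2).1 k).elim e1 ez)
    fun x hx => by rcases (mem_zp z2).1 hx with rfl | rfl; exacts [by simp, zc e]
  rw [card_zp z2 z1] at u1
  have u4 : ∀ x, x ∈ U ↔ x = 1 ∨ x = z ∨ x = e ∨ x = z * e := fun x => by
    rw [u3, mem_zp z2, mem_zp z2, or_assoc, ← zc e, ← eq_inv_mul_iff_mul_eq,
      ← eq_inv_mul_iff_mul_eq, inv_eq_of_mul_eq_one_right e2, mul_one]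
  have zU : z ∈ U := (u4 z).2 (.inr (.inl rfl))
  have eU : e ∈ U := (u4 e).2 (.inr (.inr (.inl rfl)))
  have cz : ∀ g, g * z * g⁻¹ = z := fun g => by rw [zc g, mul_inv_cancel_right]
  have ce : ∀ g, g * e * g⁻¹ ∈ U := fun g => (ec g).elim (fun k => k.symm ▸ eU)
    fun k => k.symm ▸ mul_mem zU eU
  have : U.Normal := ⟨fun x hx g => by
    rcases (u4 x).1 hx with rfl | rfl | rfl | rfl
    exacts [by simp, (cz g).symm ▸ zU, ce g, by rw [← conj_mul, cz]; exact mul_mem zU (ce g)]⟩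
  by_cases tU : t ∈ U
  · have hCe : C1 t = C1 e := by
      rcases (u4 t).1 tU with rfl | rfl | rfl | rfl
      · exact absurd rfl ht1
      · exact absurd rfl (nc _ zc)
      · rfl
      · ext x
        rw [Gold.mem_C1, Gold.mem_C1, ← mul_assoc, zc x, mul_assoc, mul_assoc, mul_right_inj]
    have h2 : (C1 t).relIndex E ≤ 2 := by
      refine (relIndex_le_of_le_right le_top index_ne_zero_of_finite).trans ?_
      rw [relIndex_top_right, hCe]
      have := (Local.idxLeTwo_centralizer (T := ⊤) z2 (fun x _ => zc x) fun x _ => ec x)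
      by_cases k : C1 e = ⊤
      · rw [k, index_top]; exact one_le_two
      · obtain ⟨a, ha⟩ : ∃ a, a ∉ C1 e := by simpa [eq_top_iff'] using k
        exact (index_eq_two_iff.2 ⟨a, fun b => by
          rw [this.mul_mem_iff (mem_top b) (mem_top a)]; tauto⟩).le
    rw [← card_mul_relIndex (inf_le_right : C1 t ⊓ E ≤ E), inf_relIndex_right, mul_comm]
    exact (Nat.mul_le_mul_right _ h2).trans (two_mul_le (inf_lt_left.2 fun k =>
      tE (k (Gold.mem_C1.2 rfl))))
  have te : t * e * t⁻¹ = z * e := (ec t).resolve_left fun k => by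
    rcases omega ht h (zc t).symm (eq_mul_of_mul_inv_eq k).symm z2 e2 z1 e1 (nc z zc)
      (fun l => tU (l ▸ eU)) with l | l
    · exact ez l
    · exact tU ((mul_mem_cancel_right zU).1 (l ▸ eU))
  have ti := inv_eq_of_mul_eq_one_right ht
  let π := QuotientGroup.mk' U
  have hπ : ∀ x, π x = 1 ↔ x ∈ U := fun x => QuotientGroup.eq_one_iff x
  have hker : π.ker = U := QuotientGroup.ker_mk' U
  have key : ∀ x : S ⧸ U, Commute x (π t) → ∃ y, Commute y t ∧ π y = x := fun x hx => by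
    obtain ⟨x, rfl⟩ := QuotientGroup.mk'_surjective U x
    have k : t * (x * t * x⁻¹) ∈ U := (hπ _).1 (by
      simp only [map_mul, map_inv]
      rw [hx.eq, mul_inv_cancel_right, ← map_mul, ht, map_one])
    have k2 : ∀ w, t * (x * t * x⁻¹) = w → t * w * t⁻¹ * w = 1 := fun w l => by
      rw [← l, ti, ← mul_assoc t t, ht, one_mul, mul_assoc, ← mul_assoc t t, ht, one_mul, conj_mul,
        ht, mul_one, mul_inv_cancel]
    rcases (u4 _).1 k with l | l | l | l
    · exact ⟨x, eq_mul_of_mul_inv_eq (mul_left_cancel (l.trans ht.symm)), rfl⟩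
    · refine ⟨e * x, ?_, by rw [map_mul, (hπ e).2 eU, one_mul]⟩
      rw [← eq_inv_mul_iff_mul_eq, ti, mul_inv_eq_iff_eq_mul] at l
      rw [Commute, SemiconjBy, mul_assoc, l, ← mul_assoc t e, eq_mul_of_mul_inv_eq te, ← zc e,
        zc t]
      simp only [mul_assoc]
    · have := k2 _ l
      rw [te, mul_assoc, e2, mul_one] at this
      exact absurd this z1
    · have := k2 _ l
      rw [← conj_mul, cz, te, ← mul_assoc z z, z2, one_mul, ← mul_assoc, zc e, mul_assoc, e2,
        mul_one] at this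
      exact absurd this z1
  have hq := ih (S ⧸ U) (by
      rw [card_eq_card_quotient_mul_card_subgroup U, u1]
      have := Nat.card_pos (α := S ⧸ U)
      omega) (hS.to_quotient U) (π t) (π s) (by rw [← map_mul, ht, map_one]) fun x hx => by
    obtain ⟨y, hy, rfl⟩ := key x hx
    rw [← map_mul, ← MonoidHom.map_zpowers]
    exact (h y hy).imp (mem_map_of_mem _) (mem_map_of_mem _)
  have t1 : π t ≠ 1 := mt (hπ t).1 tU
  have hC : 2 * Nat.card (C1 (π t)) ≤ Nat.card (C1 t) := by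
    rw [card_map π (C1 t), ← card_zp z2 z1]
    refine Nat.mul_le_mul (Trans.card_le_of_le (zpowers_le.2 ⟨(hπ z).2 zU, Gold.mem_C1.2 (zc t).symm⟩))
      (Trans.card_le_of_le fun x hx => ?_)
    obtain ⟨y, hy, rfl⟩ := key x (Gold.mem_C1.1 hx)
    exact mem_map_of_mem _ (Gold.mem_C1.2 hy)
  have hE' : ∀ x ∈ E.map π, x * x = 1 := by
    rintro _ ⟨x, hx, rfl⟩
    rw [← map_mul, hE x hx, map_one]
  refine le_trans ?_ hC
  rw [card_map π E, hker]
  by_cases hU : U ≤ E
  · have : Nontrivial (S ⧸ U) := ⟨_, _, t1⟩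
    obtain ⟨c, c2, c1, cc⟩ := exists_z (hS.to_quotient U)
    obtain ⟨K, k1, k2, -⟩ := Local.exists_double_elementary _ hE' c c2 (by
      rintro ⟨x, hx, rfl⟩
      obtain ⟨y, hy, l⟩ := key _ (cc (π t)).symm
      have yE : y ∈ E := (mul_mem_cancel_left (inv_mem hx)).1 (hU ((hπ _).1 (by
        rw [map_mul, map_inv, l, inv_mul_cancel])))
      rcases omega ht h (zc t).symm hy z2 (hE y yE) z1 (fun k => c1 (by rw [← l, k, map_one]))
        (nc z zc) (fun k => tE (k ▸ yE)) with k | k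
      · exact c1 (by rw [← l, k, (hπ z).2 zU])
      · exact tE ((mul_mem_cancel_right (hU zU)).1 (k ▸ yE))) fun x _ => (cc x).symm
    have := hq K k2 t1
    rw [inf_eq_left.2 hU, u1]
    omega
  · have := two_mul_le (inf_lt_left.2 hU)
    exact Nat.mul_le_mul (by omega) (hq _ hE' t1)

end SCB

theorem rk_lemma {S : Type*} [Group S] [Finite S] (hS : IsPGroup 2 S) {t s : S} (ht : t * t = 1)
    (h : ∀ x, Commute x t → x ∈ zpowers s ∨ t * x ∈ zpowers s) {E : Subgroup S}
    (hE : ∀ e ∈ E, e * e = 1) (ht1 : t ≠ 1) : Nat.card E ≤ Nat.card (C1 t) :=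
  SCB.rk S hS t s ht h E hE ht1

end Cfsg.Lib.SJ1
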