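import Cfsg.Agent.SJ1.Base
import Cfsg.Agent.SJ1.SC
import Cfsg.Agent.StdU3.ABa

/-! The elementary tower: basic facts on `Z` and on a Sylow 2-subgroup of `N(Z)`. -/

set_option autoImplicit false
set_option linter.unusedSectionVars false

namespace Cfsg.Lib.SJ1

open Subgroup Cfsg.Lib.Gold Cfsg.Lib.Trans Cfsg.Lib.StdSz

variable {G : Type*} [Group G] [Finite G] {F : Type*} [Field F] [Finite F]

namespace Ell

theorem card_le_mul {M : Type*} [Group M] [Finite M] {P R : Subgroup G} (f : G → M)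
    (h : ∀ x ∈ P, ∀ y ∈ P, f (x * y) = f x * f y) (A : Set M) (hA : ∀ x ∈ P, f x ∈ A)
    (hR : ∀ x ∈ P, f x = 1 → x ∈ R) : Nat.card P ≤ Nat.card R * Nat.card A := by
  let φ : P →* M := MonoidHom.mk' (fun x => f x) fun x y => h x x.2 y y.2
  rw [← φ.ker.card_mul_index, index_ker]
  refine Nat.mul_le_mul ?_ ?_
  · exact Nat.card_le_card_of_injective (fun x => (⟨x.1, hR _ x.1.2 x.2⟩ : R))
      fun x y e => Subtype.ext (Subtype.ext (Subtype.mk.inj e))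
  · exact Nat.card_le_card_of_injective
      (fun x => (⟨x.1, by obtain ⟨y, e⟩ := x.2; exact e ▸ hA _ y.2⟩ : A))
      fun x y e => Subtype.ext (Subtype.mk.inj e)

theorem card_le_two {H : Subgroup G} (h : ∀ x ∈ H, ∀ y ∈ H, x ≠ 1 → y ≠ 1 → x = y) :
    Nat.card H ≤ 2 := by
  classical
  have := Nat.card_le_card_of_injective (fun x : H => decide ((x : G) = 1)) fun x y e => by
    by_cases hx : (x : G) = 1
    · have hy : (y : G) = 1 := by simpa [hx] using e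
      exact Subtype.ext (hx.trans hy.symm)
    · have hy : (y : G) ≠ 1 := by simpa [hx] using e
      exact Subtype.ext (h _ x.2 _ y.2 hx hy)
  simpa using this

theorem comm_of_sq {Z : Subgroup G} (h : ∀ z ∈ Z, z * z = 1) {x y : G} (hx : x ∈ Z) (hy : y ∈ Z) :
    Commute x y := StdU3.commute_of_invol (h x hx) (h y hy) (h _ (mul_mem hx hy))

theorem two_of_sq {Z : Subgroup G} (h : ∀ z ∈ Z, z * z = 1) : IsPGroup 2 Z :=
  two_of_pow fun x hx => ⟨1, by rw [pow_one, sq, h x hx]⟩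

theorem inv_of_sq {x : G} (h : x * x = 1) : x⁻¹ = x := inv_eq_of_mul_eq_one_right h

theorem mul_mem_of_two {H K : Subgroup G} (hle : H ≤ K) (h : Nat.card K = 2 * Nat.card H) {x y : G}
    (hx : x ∈ K) (hy : y ∈ K) (nx : x ∉ H) (ny : y ∉ H) : x * y ∈ H := by
  have h1 := card_mul_relIndex hle
  rw [h, mul_comm] at h1
  have h2 : (H.subgroupOf K).index = 2 := Nat.eq_of_mul_eq_mul_right Nat.card_pos h1
  exact (mul_mem_iff_of_index_two h2 (a := ⟨x, hx⟩) (b := ⟨y, hy⟩)).2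
    ⟨fun c => (nx c).elim, fun c => (ny c).elim⟩

end Ell

open Ell

namespace El

variable {D : Dat G F} (E : El D)

theorem comm {x y : G} (hx : x ∈ E.Z) (hy : y ∈ E.Z) : Commute x y := comm_of_sq E.sq hx hy

theorem two : IsPGroup 2 E.Z := two_of_sq E.sq

theorem v_mem (b : F) : D.v b ∈ E.Z := E.V_le (D.v_mem b)

theorem p_v (b : F) : E.p (D.v b) = 0 := by
  have h := E.t_Z _ (E.v_mem b)
  rw [(D.t_v b).eq, mul_assoc, D.t_sq, mul_one] at h
  exact D.v_eq_one.1 (mul_eq_left.1 h.symm)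

theorem card_Z : Nat.card E.Z = Nat.card F * Nat.card F := by
  rw [StdU3.card_of_addOn_surj (R := D.V) E.p_add E.p_surj fun g =>
    ⟨by rintro ⟨b, rfl⟩; exact ⟨E.v_mem b, E.p_v b⟩, fun h => E.ker g h.1 h.2⟩, D.card_V]

theorem p_conj {g z : G} (hg : g ∈ D.B) (hz : z ∈ E.Z) :
    D.v (E.p (g * z * g⁻¹)) = g * D.v (E.p z) * g⁻¹ := by
  have h1 := E.t_Z _ (mem_normalizer_conj (E.B_le hg) hz)
  have h2 := conj_eq_of_commute (D.mem_B.1 hg).1
  have h3 : D.t * (g * z * g⁻¹) * D.t = g * (D.t * z * D.t) * g⁻¹ := by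
    conv_lhs => rw [← h2]
    group
  rw [h3, E.t_Z z hz] at h1
  have h4 : g * (z * D.v (E.p z)) * g⁻¹ = g * z * g⁻¹ * (g * D.v (E.p z) * g⁻¹) := by group
  exact (mul_left_cancel (h4.symm.trans h1)).symm

theorem comm_t {z : G} (hz : z ∈ E.Z) (h : Commute z D.t) : z ∈ D.V := by
  have h1 := E.t_Z z hz
  rw [← h.eq, mul_assoc, D.t_sq, mul_one] at h1
  exact E.ker z hz (D.v_eq_one.1 (mul_eq_left.1 h1.symm))

theorem t_not : D.t ∉ E.Z := fun h => D.t_not_mem_V (E.comm_t h (Commute.refl _))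

theorem le_X {X A : Subgroup G} (a : Amb D.toMod X A) : E.Z ≤ X := by
  obtain ⟨k, k0, k1⟩ := exists_ne_zero_one (F := F) (by have := D.big; omega)
  have key : ∀ b : F, (Units.mk0 k k0 : Fˣ) * b = b → b = 0 := fun b h => by
    by_contra c
    exact k1 (mul_right_cancel₀ c (h.trans (one_mul b).symm))
  refine a.le_X E.two (Units.mk0 k k0) (E.B_le (D.h_mem_B _)) fun z hz hc => ?_
  have h1 := E.p_conj (D.h_mem_B (Units.mk0 k k0)) hz
  rw [conj_eq_of_commute hc.symm, D.h_v] at h1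
  obtain ⟨b, rfl⟩ := E.ker z hz (key _ (D.v_inj h1).symm)
  have h2 := conj_eq_of_commute hc.symm
  rw [D.h_v] at h2
  rw [key b (D.v_inj h2), D.v_zero]

theorem tz_conj {z : G} (hz : z ∈ E.Z) (h : D.t * z * (D.t * z) = 1) :
    ∃ w ∈ E.Z, w * D.t * w⁻¹ = D.t * z := by
  rw [← mul_assoc, E.t_Z z hz, (E.comm hz (E.v_mem _)).eq, mul_assoc, E.sq z hz, mul_one] at h
  obtain ⟨b, rfl⟩ := E.ker z hz (D.v_eq_one.1 h)
  obtain ⟨w, hw, rfl⟩ := E.p_surj b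
  refine ⟨w, hw, ?_⟩
  have h1 : w * D.t * w⁻¹ = D.t * (D.t * w * D.t * w⁻¹) := by
    rw [mul_assoc D.t w, mul_assoc D.t, D.tt_mul]
  rw [h1, E.t_Z w hw, (E.comm hw (E.v_mem _)).eq, mul_inv_cancel_right]

end El

theorem Syl.not_conj {M : Mod G F} (T : Syl M) {R : Subgroup G} (hR : ∀ r ∈ R, r * r = 1)
    (hc : Nat.card F * Nat.card F ≤ Nat.card R) {g : G} (h : g * M.t * g⁻¹ ∈ R) : False := by
  obtain ⟨g', -, h2⟩ := T.conj_le (two_of_sq hR) fun r hr => StdSz.mem_C1.2 (comm_of_sq hR hr h)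
  have h4 := M.big
  have h5 := card_cj g'⁻¹ R
  rcases T.elem (cj_inv_le_iff_le_cj.2 h2) (fun e he => by
    have := hR _ (mem_cj_inv.1 he)
    rw [conj_sq] at this
    simpa using this) with h3 | h3
  · have := Trans.card_le_of_le h3
    rw [M.card_W] at this
    nlinarith
  · rw [h5] at h3
    have h6 : (Nat.card F * Nat.card F) ^ 2 ≤ 16 * Nat.card F :=
      (Nat.pow_le_pow_left hc 2).trans h3
    have h7 : 16 * Nat.card F ≤ Nat.card F * Nat.card F * Nat.card F := by nlinarith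
    nlinarith

/-- A Sylow 2-subgroup of `N(Z)` containing `T`. -/
structure St (D : Dat G F) extends El D where
  /-- a Sylow subgroup of `C(t)` -/
  T : Syl D.toMod
  /-- a Sylow subgroup of `N(Z)` -/
  S : Subgroup G
  syl : IsSylowIn 2 S (Ns Z)
  Z_le : Z ≤ S
  T_le : T.T ≤ S

theorem El.exists_st {D : Dat G F} (E : El D) : ∃ s : St D, s.toEl = E := by
  obtain ⟨T⟩ := D.exists_syl
  obtain ⟨S, h1, h2⟩ := exists_isSylowIn_ge (p := 2) T.two (T.le_B.trans E.B_le)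
  exact ⟨⟨E, T, S, h1, h1.le_of_normal E.two le_normalizer le_rfl, h2⟩, rfl⟩

namespace St

variable {D : Dat G F} (s : St D)

instance normalZ : (s.Z.subgroupOf s.S).Normal := normal_subgroupOf_of_le_normalizer s.syl.le

/-- `S / Z`. -/
abbrev Q : Type _ := s.S ⧸ s.Z.subgroupOf s.S

/-- The projection to `S / Z`. -/
noncomputable def π (x : G) : s.Q := by
  classical exact if h : x ∈ s.S then QuotientGroup.mk ⟨x, h⟩ else 1

theorem π_mk (x : s.S) : s.π x = QuotientGroup.mk x := by rw [π, dif_pos x.2]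

theorem π_mul {x y : G} (hx : x ∈ s.S) (hy : y ∈ s.S) : s.π (x * y) = s.π x * s.π y :=
  (s.π_mk (⟨x, hx⟩ * ⟨y, hy⟩)).trans (by
    rw [QuotientGroup.mk_mul, ← s.π_mk, ← s.π_mk])

theorem π_inv {x : G} (hx : x ∈ s.S) : s.π x⁻¹ = (s.π x)⁻¹ :=
  (s.π_mk (⟨x, hx⟩⁻¹)).trans (by rw [QuotientGroup.mk_inv, ← s.π_mk])

theorem π_eq_one {x : G} (hx : x ∈ s.S) : s.π x = 1 ↔ x ∈ s.Z := by
  rw [s.π_mk ⟨x, hx⟩, QuotientGroup.eq_one_iff, mem_subgroupOf]

theorem π_Z {x : G} (hx : x ∈ s.Z) : s.π x = 1 := (s.π_eq_one (s.Z_le hx)).2 hx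

theorem π_one : s.π 1 = 1 := s.π_Z (one_mem _)

theorem π_eq {x y : G} (hx : x ∈ s.S) (hy : y ∈ s.S) : s.π x = s.π y ↔ x⁻¹ * y ∈ s.Z := by
  rw [← s.π_eq_one (mul_mem (inv_mem hx) hy), s.π_mul (inv_mem hx) hy, s.π_inv hx,
    inv_mul_eq_one]

theorem π_surj (y : s.Q) : ∃ x ∈ s.S, s.π x = y := by
  obtain ⟨x, rfl⟩ := QuotientGroup.mk_surjective y
  exact ⟨x, x.2, s.π_mk x⟩

theorem π_conj {x y : G} (hx : x ∈ s.S) (hy : y ∈ s.S) :
    s.π (x * y * x⁻¹) = s.π x * s.π y * (s.π x)⁻¹ := by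
  rw [s.π_mul (mul_mem hx hy) (inv_mem hx), s.π_mul hx hy, s.π_inv hx]

theorem π_pow {x : G} (hx : x ∈ s.S) (n : ℕ) : s.π (x ^ n) = s.π x ^ n := by
  induction n with
  | zero => rw [pow_zero, pow_zero, π_one]
  | succ n ih => rw [pow_succ, s.π_mul (pow_mem hx n) hx, ih, pow_succ]

theorem π_sq {x : G} (hx : x ∈ s.S) (h : x * x = 1) : s.π x * s.π x = 1 := by
  rw [← s.π_mul hx hx, h, π_one]

theorem twoQ : IsPGroup 2 s.Q := s.syl.isPGroup.to_quotient _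

theorem t_T : D.t ∈ s.T.T := s.T.W_le (D.mem_W.2 ⟨0, .inr (by simp)⟩)

theorem t_S : D.t ∈ s.S := s.T_le s.t_T

theorem πt_sq : s.π D.t * s.π D.t = 1 := s.π_sq s.t_S D.t_sq

theorem πt_ne : s.π D.t ≠ 1 := fun h => s.t_not ((s.π_eq_one s.t_S).1 h)

theorem conj_Z {x z : G} (hx : x ∈ s.S) (hz : z ∈ s.Z) : x * z * x⁻¹ ∈ s.Z :=
  mem_normalizer_conj (s.syl.le hx) hz

/-- The image in `S / Z`. -/
def bar (H : Subgroup G) : Subgroup s.Q := (H.subgroupOf s.S).map (QuotientGroup.mk' _)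

theorem mem_bar {H : Subgroup G} (hH : H ≤ s.S) {y : s.Q} : y ∈ s.bar H ↔ ∃ x ∈ H, s.π x = y :=
  ⟨by rintro ⟨x, hx, rfl⟩; exact ⟨x, hx, s.π_mk x⟩,
    by rintro ⟨x, hx, rfl⟩; exact ⟨⟨x, hH hx⟩, hx, (s.π_mk ⟨x, hH hx⟩).symm⟩⟩

theorem card_bar {H : Subgroup G} (hH : H ≤ s.S) : Nat.card (s.bar H) = s.Z.relIndex H := by
  rw [bar, ← relIndex_ker, QuotientGroup.ker_mk', relIndex_subgroupOf hH]

/-- An involution congruent to `t` is conjugate to `t`. -/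
theorem conj_t {x : G} (hx : x ∈ s.S) (h2 : x * x = 1) (h : s.π x = s.π D.t) :
    ∃ w ∈ s.Z, w * D.t * w⁻¹ = x := by
  have h1 := (s.π_eq s.t_S hx).1 h.symm
  rw [D.t_inv] at h1
  have := s.tz_conj h1 (by rw [D.tt_mul, h2])
  rwa [D.tt_mul] at this

theorem cent_t {y : s.Q} (h : Commute y (s.π D.t)) : ∃ x ∈ s.T.T, s.π x = y := by
  obtain ⟨x, hx, rfl⟩ := s.π_surj y
  obtain ⟨w, hw, e⟩ := s.conj_t (x := x * D.t * x⁻¹) (mul_mem (mul_mem hx s.t_S) (inv_mem hx))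
    (by rw [conj_sq, D.t_sq]; simp) (by rw [s.π_conj hx s.t_S, conj_eq_of_commute h])
  have h1 : w⁻¹ * x ∈ s.S := mul_mem (inv_mem (s.Z_le hw)) hx
  refine ⟨w⁻¹ * x, ?_, by rw [s.π_mul (inv_mem (s.Z_le hw)) hx, s.π_Z (inv_mem hw), one_mul]⟩
  rw [← s.T.syl.eq_inf s.syl.isPGroup s.T_le]
  refine ⟨h1, StdSz.mem_C1.2 (commute_of_conj_eq ?_)⟩
  calc w⁻¹ * x * D.t * (w⁻¹ * x)⁻¹ = w⁻¹ * (x * D.t * x⁻¹) * w := by group
    _ = D.t := by rw [← e]; group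

theorem π_W {x : G} (hx : x ∈ D.W) : s.π x = 1 ∨ s.π x = s.π D.t := by
  obtain ⟨b, rfl | rfl⟩ := D.mem_W.1 hx
  · exact .inl (s.π_Z (s.v_mem b))
  · exact .inr (by rw [s.π_mul s.t_S (s.Z_le (s.v_mem b)), s.π_Z (s.v_mem b), mul_one])

theorem comm_congr {x y z : G} (hx : x ∈ s.S) (hy : y ∈ s.S) (e : s.π x = s.π y) (hz : z ∈ s.Z)
    (h : Commute z x) : Commute z y := by
  have := h.mul_right (s.comm hz ((s.π_eq hx hy).1 e))
  rwa [mul_inv_cancel_left] at this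

theorem not_comm_t : ¬ ∀ z ∈ s.Z, Commute z D.t := fun h => by
  obtain ⟨z, hz, e⟩ := s.p_surj 1
  obtain ⟨b, rfl⟩ := s.comm_t hz (h z hz)
  rw [s.p_v] at e
  exact zero_ne_one e

theorem faith {x : G} (hx : x ∈ s.S) (h : ∀ z ∈ s.Z, Commute z x) : x ∈ s.Z := by
  by_contra hn
  have hle : s.S ⊓ Cs s.Z ≤ s.S := inf_le_left
  obtain ⟨y, hy, y1, hc⟩ := StdU3.exists_fix_two (E := s.bar (s.S ⊓ Cs s.Z))
    (s.twoQ.to_subgroup _) (fun c => hn ((s.π_eq_one hx).1 (mem_bot.1 (c ▸ (s.mem_bar hle).2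
      ⟨x, ⟨hx, StdSz.mem_Cs.2 fun z hz => (h z hz).symm⟩, rfl⟩)))) (g := s.π D.t) (k := 1)
    (mem_Ns fun y hy => by
      obtain ⟨c, hc, rfl⟩ := (s.mem_bar hle).1 hy
      refine (s.mem_bar hle).2 ⟨_, mem_inf.2 ⟨mul_mem (mul_mem s.t_S hc.1) (inv_mem s.t_S), ?_⟩,
        s.π_conj s.t_S hc.1⟩
      exact mem_normalizer_conj (normalizer_le_normalizer_centralizer _ (s.syl.le s.t_S)) hc.2)
    (by rw [pow_one, sq, πt_sq])
  obtain ⟨c, hc', rfl⟩ := (s.mem_bar hle).1 hy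
  obtain ⟨r, hr, e⟩ := s.cent_t hc.symm
  have h1 : ∀ z ∈ s.Z, Commute z r := fun z hz =>
    s.comm_congr hc'.1 (s.T_le hr) e.symm hz (StdSz.mem_Cs.1 hc'.2 z hz).symm
  rcases s.π_W (s.T.mem_W hr ((s.T.σ_eq_one hr).2 fun b => (h1 _ (s.v_mem b)).symm)) with h2 | h2
  · exact y1 (e.symm.trans h2)
  · exact s.not_comm_t fun z hz => s.comm_congr (s.T_le hr) s.t_S h2 hz (h1 z hz)

/-- `C_Z(y)`. -/
abbrev cz (y : G) : Subgroup G := s.Z ⊓ C1 y

theorem mem_cz {y z : G} : z ∈ s.cz y ↔ z ∈ s.Z ∧ Commute z y := and_congr_right' StdSz.mem_C1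

theorem cz_congr {x y : G} (hx : x ∈ s.S) (hy : y ∈ s.S) (e : s.π x = s.π y) : s.cz x = s.cz y :=
  Subgroup.ext fun z => by
    rw [mem_cz, mem_cz]
    exact and_congr_right fun hz => ⟨s.comm_congr hx hy e hz, s.comm_congr hy hx e.symm hz⟩

theorem card_cz (y : G) :
    Nat.card (s.cz y) * (C1 y).relIndex s.Z = Nat.card F * Nat.card F := by
  rw [← s.card_Z, ← card_mul_relIndex (inf_le_left : s.cz y ≤ s.Z), inf_relIndex_left]

theorem cz_conj {x y : G} (hx : x ∈ s.S) : s.cz (x * y * x⁻¹) = cj x (s.cz y) := by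
  ext z
  rw [mem_cj, mem_cz, mem_cz]
  refine and_congr ⟨fun h => mem_normalizer_conj' (s.syl.le hx) h, fun h => ?_⟩
    ⟨fun h => ?_, fun h => ?_⟩
  · simpa [mul_assoc] using s.conj_Z hx h
  · simpa [mul_assoc] using commute_conj h x⁻¹
  · simpa [mul_assoc] using commute_conj h x

theorem cz_t : s.cz D.t = D.V :=
  Subgroup.ext fun z => s.mem_cz.trans ⟨fun h => s.comm_t h.1 h.2,
    by rintro ⟨b, rfl⟩; exact ⟨s.v_mem b, (D.t_v b).symm⟩⟩

/-- `z * z ^ y` is fixed by `y`. -/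
theorem tr_mem {y z : G} (hy : y ∈ s.S) (h2 : s.π y * s.π y = 1) (hz : z ∈ s.Z) :
    z * (y * z * y⁻¹) ∈ s.cz y := by
  rw [← s.π_mul hy hy, s.π_eq_one (mul_mem hy hy)] at h2
  refine s.mem_cz.2 ⟨mul_mem hz (s.conj_Z hy hz), (commute_of_conj_eq ?_).symm⟩
  calc y * (z * (y * z * y⁻¹)) * y⁻¹ = y * z * y⁻¹ * (y * y * z * (y * y)⁻¹) := by group
    _ = _ := by rw [conj_eq_of_commute (s.comm h2 hz), (s.comm hz (s.conj_Z hy hz)).eq]

theorem le_card_cz {y : G} (hy : y ∈ s.S) (h2 : s.π y * s.π y = 1) :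
    Nat.card F ≤ Nat.card (s.cz y) := by
  have := card_le_mul (P := s.Z) (R := s.cz y) (fun z => z * (y * z * y⁻¹)) (fun a ha b hb => by
      have := (s.comm hb (s.conj_Z hy ha)).eq
      calc a * b * (y * (a * b) * y⁻¹) = a * (b * (y * a * y⁻¹)) * (y * b * y⁻¹) := by group
        _ = _ := by rw [this]; group)
    (s.cz y) (fun z hz => s.tr_mem hy h2 hz) fun z hz h => s.mem_cz.2 ⟨hz, (commute_of_conj_eq (by
      rw [← inv_of_sq (s.sq z hz)]; exact (eq_inv_of_mul_eq_one_right (by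
        rwa [inv_of_sq (s.sq z hz)])))).symm⟩
  rw [s.card_Z] at this
  exact Nat.mul_self_le_mul_self_iff.1 this

theorem σ_sq {x : G} (hx : x ∈ s.T.T) (h2 : s.π x * s.π x = 1) : s.T.σ x * s.T.σ x = 1 := by
  rw [← s.π_mul (s.T_le hx) (s.T_le hx), s.π_eq_one (s.T_le (mul_mem hx hx))] at h2
  rw [← s.T.σ_mul hx hx, s.T.σ_eq_one (mul_mem hx hx)]
  exact fun b => s.comm h2 (s.v_mem b)

/-- Involutions of `T Z / Z` act freely. -/
theorem free_T {x : G} (hx : x ∈ s.T.T) (h1 : s.π x ≠ 1) (h2 : s.π x * s.π x = 1) :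
    Nat.card (s.cz x) = Nat.card F := by
  refine le_antisymm ?_ (s.le_card_cz (s.T_le hx) h2)
  by_cases h : s.T.σ x = 1
  · rw [s.cz_congr (s.T_le hx) s.t_S ((s.π_W (s.T.mem_W hx h)).resolve_left h1), cz_t, D.card_V]
  have h3 := card_le_mul (M := Multiplicative F) (P := s.cz x) (R := D.V ⊓ C1 x)
    (fun z => Multiplicative.ofAdd (s.p z))
    (fun a ha b hb => by rw [s.p_add a ha.1 b hb.1, ofAdd_add])
    {b | s.T.σ x b.toAdd = b.toAdd} (fun z hz => by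
      have := s.p_conj (s.T.le_B hx) hz.1
      rw [conj_eq_of_commute (s.mem_cz.1 hz).2.symm, s.T.act x hx] at this
      exact (D.v_inj this).symm) fun z hz h => ⟨s.ker z hz.1 h, hz.2⟩
  have h4 : Nat.card (D.V ⊓ C1 x : Subgroup G) ≤ Nat.card {b : F // s.T.σ x b = b} :=
    Nat.card_le_card_of_injective (fun z => ⟨D.γ z, D.v_inj (by
      rw [← s.T.act x hx, D.v_γ z.2.1, conj_eq_of_commute (StdSz.mem_C1.1 z.2.2).symm])⟩)
      fun z z' e => Subtype.ext (by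
        rw [← D.v_γ z.2.1, ← D.v_γ z'.2.1]; exact congrArg D.v (congrArg Subtype.val e))
  rw [← card_fix D.two h (s.σ_sq hx h2), sq]
  exact h3.trans (Nat.mul_le_mul h4 le_rfl)

theorem free {y : G} (hy : y ∈ s.S) (h1 : s.π y ≠ 1) (h2 : s.π y * s.π y = 1)
    (hc : Commute (s.π y) (s.π D.t)) : Nat.card (s.cz y) = Nat.card F := by
  obtain ⟨x, hx, e⟩ := s.cent_t hc
  rw [← s.cz_congr (s.T_le hx) hy e]
  exact s.free_T hx (e ▸ h1) (e ▸ h2)

theorem eq_of_σ {x y : G} (hx : x ∈ s.T.T) (hy : y ∈ s.T.T) (e : s.T.σ x = s.T.σ y) :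
    s.π y = s.π x ∨ s.π y = s.π x * s.π D.t := by
  have h1 : s.T.σ (x⁻¹ * y) = 1 := by
    have := s.T.σ_mul hx (mul_mem (inv_mem hx) hy)
    rw [mul_inv_cancel_left, e] at this
    exact mul_eq_left.1 this.symm
  have h2 := s.π_W (s.T.mem_W (mul_mem (inv_mem hx) hy) h1)
  rw [s.π_mul (inv_mem (s.T_le hx)) (s.T_le hy), s.π_inv (s.T_le hx), inv_mul_eq_one,
    inv_mul_eq_iff_eq_mul] at h2
  exact h2.imp Eq.symm id

/-- The involutions centralising `t` modulo `Z`. -/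
theorem omega {x y : s.Q} (hx : Commute x (s.π D.t)) (hy : Commute y (s.π D.t)) (x2 : x * x = 1)
    (y2 : y * y = 1) (x1 : x ≠ 1) (y1 : y ≠ 1) (xt : x ≠ s.π D.t) (yt : y ≠ s.π D.t) :
    y = x ∨ y = x * s.π D.t := by
  obtain ⟨a, ha, rfl⟩ := s.cent_t hx
  obtain ⟨b, hb, rfl⟩ := s.cent_t hy
  exact s.eq_of_σ ha hb (s.T.σ_invol ha hb (fun c => (s.π_W (s.T.mem_W ha c)).elim x1 xt)
    (fun c => (s.π_W (s.T.mem_W hb c)).elim y1 yt) (s.σ_sq ha x2) (s.σ_sq hb y2))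

theorem σ_pow {x : G} (hx : x ∈ s.T.T) (n : ℕ) : s.T.σ (x ^ n) = s.T.σ x ^ n := by
  induction n with
  | zero => rw [pow_zero, pow_zero, s.T.σ_eq_one (one_mem _)]; exact fun b => Commute.one_left _
  | succ n ih => rw [pow_succ, s.T.σ_mul (pow_mem hx n) hx, ih, pow_succ]

theorem rk {H : Subgroup s.Q} (hH : ∀ e ∈ H, e * e = 1) : Nat.card H ≤ 2 * s.T.f := by
  obtain ⟨x, hx, h⟩ := s.T.cyc
  refine (rk_lemma s.twoQ s.πt_sq (s := s.π x) (fun y hy => ?_) hH s.πt_ne).trans ?_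
  · obtain ⟨r, hr, rfl⟩ := s.cent_t hy
    obtain ⟨n, e⟩ := h r hr
    rw [← s.σ_pow hx] at e
    rcases s.eq_of_σ (pow_mem hx n) hr e.symm with h1 | h1
    · exact .inl (by rw [h1, s.π_pow (s.T_le hx)]; exact pow_mem (mem_zpowers _) n)
    · refine .inr ?_
      rw [← hy.eq, h1, mul_assoc, πt_sq, mul_one, s.π_pow (s.T_le hx)]
      exact pow_mem (mem_zpowers _) n
  · have h1 : C1 (s.π D.t) ≤ s.bar s.T.T := fun y hy =>
      (s.mem_bar s.T_le).2 (s.cent_t (StdSz.mem_C1.1 hy))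
    refine (Trans.card_le_of_le h1).trans ?_
    rw [s.card_bar s.T_le]
    have h2 := card_mul_relIndex ((le_sup_left : D.V ≤ D.W).trans s.T.W_le)
    rw [s.T.card_T, D.card_V, mul_comm 2, mul_assoc] at h2
    rw [← Nat.eq_of_mul_eq_mul_left Nat.card_pos h2]
    exact relIndex_le_of_le_left s.V_le FiniteIndex.index_ne_zero

end St

end Cfsg.Lib.SJ1
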