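import Cfsg.Agent.SJ1.ElA
import Cfsg.Agent.Int2.Gen
import Cfsg.Agent.Local.NormalFour

/-! The elementary tower: offenders, and the case `q ≥ 8`. -/

set_option autoImplicit false
set_option linter.unusedSectionVars false

namespace Cfsg.Lib.SJ1

open Subgroup Cfsg.Lib.Gold Cfsg.Lib.Trans Cfsg.Lib.StdSz Ell

variable {G : Type*} [Group G] [Finite G] {F : Type*} [Field F] [Finite F] {D : Dat G F}

/-- An offender in a conjugate of `Z`. -/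
structure St.Off (s : St D) (E : Subgroup G) : Prop where
  le_S : E ≤ s.S
  le_cj : ∃ g, E ≤ cj g s.Z
  ix : ∀ e ∈ E, e ∉ s.Z → (C1 e).relIndex s.Z ≤ s.Z.relIndex E
  not_le : ¬ E ≤ s.Z

/-- A central involution of `S / Z` other than `t`. -/
structure St.Ze (s : St D) (ζ : G) : Prop where
  mem : ζ ∈ s.S
  ne : s.π ζ ≠ 1
  ne_t : s.π ζ ≠ s.π D.t
  sq : s.π ζ * s.π ζ = 1
  cen : ∀ y, Commute y (s.π ζ)

namespace St

variable {s : St D} {E : Subgroup G} {ζ : G}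

theorem cj_sq (g : G) {e : G} (he : e ∈ cj g s.Z) : e * e = 1 := by
  obtain ⟨z, hz, rfl⟩ := he
  rw [← map_mul, s.sq z hz, map_one]

theorem conj_congr {x y z : G} (hx : x ∈ s.S) (hy : y ∈ s.S) (e : s.π x = s.π y) (hz : z ∈ s.Z) :
    x * z * x⁻¹ = y * z * y⁻¹ := by
  have := conj_eq_of_commute (s.comm ((s.π_eq hx hy).1 e) hz)
  conv_lhs => rw [← this]
  group

namespace Off

variable (o : s.Off E)
include o

theorem sq {e : G} (he : e ∈ E) : e * e = 1 := o.le_cj.elim fun g h => cj_sq g (h he)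

theorem le_X {X A : Subgroup G} (a : Amb D.toMod X A) : E ≤ X := by
  obtain ⟨g, h⟩ := o.le_cj
  have := a.normal
  exact h.trans ((cj_mono g (s.le_X a)).trans (cj_eq_of_normal g X).le)

theorem not_conj (x : G) : x * D.t * x⁻¹ ∉ E := fun h => o.le_cj.elim fun g hg =>
  s.T.not_conj (fun _ => cj_sq g) (by rw [card_cj, s.card_Z]) (hg h)

theorem ne_t {e : G} (he : e ∈ E) : s.π e ≠ s.π D.t := fun h => by
  obtain ⟨w, -, e⟩ := s.conj_t (o.le_S he) (o.sq he) h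
  exact o.not_conj w (e ▸ he)

theorem le_of_free {e : G} (he : e ∈ E) (h1 : s.π e ≠ 1) (h : Nat.card (s.cz e) = Nat.card F) :
    Nat.card F ≤ Nat.card (s.bar E) := by
  have h2 := s.card_cz e
  rw [h] at h2
  rw [s.card_bar o.le_S, ← Nat.eq_of_mul_eq_mul_left Nat.card_pos h2]
  exact o.ix e he fun c => h1 (s.π_Z c)

theorem le_of_comm {e : G} (he : e ∈ E) (h1 : s.π e ≠ 1) (h : Commute (s.π e) (s.π D.t)) :
    Nat.card F ≤ Nat.card (s.bar E) :=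
  o.le_of_free he h1 (s.free (o.le_S he) h1 (s.π_sq (o.le_S he) (o.sq he)) h)

theorem exists_mem : ∃ e ∈ E, s.π e ≠ 1 := by
  obtain ⟨e, he, h⟩ := SetLike.not_le_iff_exists.1 o.not_le
  exact ⟨e, he, fun c => h ((s.π_eq_one (o.le_S he)).1 c)⟩

theorem le_two (h : ∀ x ∈ E, ∀ y ∈ E, s.π x ≠ 1 → s.π y ≠ 1 → s.π x = s.π y) :
    Nat.card (s.bar E) ≤ 2 :=
  card_le_two fun x hx y hy => by
    obtain ⟨a, ha, rfl⟩ := (s.mem_bar o.le_S).1 hx
    obtain ⟨b, hb, rfl⟩ := (s.mem_bar o.le_S).1 hy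
    exact h a ha b hb

theorem not_cent : ¬ ∀ y, Commute y (s.π D.t) := fun hc => by
  obtain ⟨a, ha, a1⟩ := o.exists_mem
  have h1 := o.le_of_comm ha a1 (hc _)
  have h2 := o.le_two fun x hx y hy x1 y1 => by
    refine ((s.omega (hc _) (hc _) (s.π_sq (o.le_S hx) (o.sq hx)) (s.π_sq (o.le_S hy) (o.sq hy))
      x1 y1 (o.ne_t hx) (o.ne_t hy)).resolve_right fun c => ?_).symm
    refine o.ne_t (mul_mem (inv_mem hx) hy) ?_
    rw [s.π_mul (inv_mem (o.le_S hx)) (o.le_S hy), s.π_inv (o.le_S hx), c, inv_mul_cancel_left]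
  have := D.big
  omega

theorem exists_ze : ∃ ζ, s.Ze ζ := by
  obtain ⟨y, -, h1, h2⟩ := Int2.exists_iv_fix (T := ⊤) (X := (⊤ : Subgroup s.Q))
    (s.twoQ.to_subgroup _) (fun _ _ => mem_Ns fun _ _ => mem_top _) (by
      rw [card_top, even_iff_two_dvd, ← Int2.Iv.orderOf ⟨s.πt_sq, s.πt_ne⟩]
      exact orderOf_dvd_natCard _)
  have hc : ∀ x, Commute x y := fun x => (StdSz.mem_Cs.1 h2 x (mem_top x)).symm
  obtain ⟨ζ, hζ, rfl⟩ := s.π_surj y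
  exact ⟨ζ, hζ, h1.2, fun e => o.not_cent (e ▸ hc), h1.1, hc⟩

end Off

variable (s ζ) in
/-- The centraliser in `S` of `C_Z(ζ)`. -/
def K : Subgroup G := s.S ⊓ Cs (s.cz ζ)

theorem mem_K {k : G} : k ∈ s.K ζ ↔ k ∈ s.S ∧ ∀ y ∈ s.cz ζ, Commute k y :=
  and_congr_right' StdSz.mem_Cs

theorem K_le : s.K ζ ≤ s.S := inf_le_left

theorem Z_le_K : s.Z ≤ s.K ζ := fun _ hz => mem_K.2 ⟨s.Z_le hz, fun _ hy => s.comm hz hy.1⟩

theorem K_congr {k x : G} (hk : k ∈ s.K ζ) (hx : x ∈ s.S) (e : s.π k = s.π x) : x ∈ s.K ζ :=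
  mem_K.2 ⟨hx, fun y hy => (s.comm_congr hk.1 hx e hy.1 ((mem_K.1 hk).2 y hy).symm).symm⟩

theorem Y_le {k : G} (hk : k ∈ s.K ζ) : s.cz ζ ≤ s.cz k := fun y hy =>
  s.mem_cz.2 ⟨hy.1, ((mem_K.1 hk).2 y hy).symm⟩

namespace Ze

variable (h : s.Ze ζ)
include h

theorem card_Y : Nat.card (s.cz ζ) = Nat.card F := s.free h.mem h.ne h.sq (h.cen _).symm

theorem conj_Y {x y : G} (hx : x ∈ s.S) (hy : y ∈ s.cz ζ) : x * y * x⁻¹ ∈ s.cz ζ := by
  rw [← s.cz_congr (mul_mem (mul_mem hx h.mem) (inv_mem hx)) h.mem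
    (by rw [s.π_conj hx h.mem, conj_eq_of_commute (h.cen _)]), s.cz_conj hx]
  exact conj_mem_cj.2 hy

theorem mem_K : ζ ∈ s.K ζ := St.mem_K.2 ⟨h.mem, fun _ hy => (s.mem_cz.1 hy).2.symm⟩

theorem t_not : D.t ∉ s.K ζ := fun c => by
  have h1 : s.cz ζ = D.V := by
    rw [← s.cz_t]
    exact eq_of_le_of_card_ge (Y_le c) (by rw [s.cz_t, D.card_V, h.card_Y])
  obtain ⟨r, hr, e⟩ := s.cent_t (h.cen (s.π D.t)).symm
  rw [← s.cz_congr (s.T_le hr) h.mem e] at h1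
  rcases s.π_W (s.T.mem_W hr ((s.T.σ_eq_one hr).2 fun b =>
    (s.mem_cz.1 (h1.ge (D.v_mem b))).2.symm)) with h2 | h2
  · exact h.ne (e.symm.trans h2)
  · exact h.ne_t (e.symm.trans h2)

theorem conj_K {x k : G} (hx : x ∈ s.S) (hk : k ∈ s.K ζ) : x * k * x⁻¹ ∈ s.K ζ :=
  St.mem_K.2 ⟨mul_mem (mul_mem hx hk.1) (inv_mem hx), fun y hy => by
    simpa [mul_assoc] using commute_conj ((St.mem_K.1 hk).2 _ (h.conj_Y (inv_mem hx) hy)) x⟩

theorem quad {k z : G} (hk : k ∈ s.K ζ) (hz : z ∈ s.Z) : z * (k * z * k⁻¹) ∈ s.cz ζ := by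
  have h1 := s.conj_Z hk.1 hz
  have hB := s.conj_Z h.mem hz
  have h2 := conj_eq_of_commute ((St.mem_K.1 hk).2 _ (s.tr_mem h.mem h.sq hz))
  have h3 := conj_congr (mul_mem h.mem hk.1) (mul_mem hk.1 h.mem)
    (by rw [s.π_mul h.mem hk.1, s.π_mul hk.1 h.mem, (h.cen _).eq]) hz
  refine s.mem_cz.2 ⟨mul_mem hz h1, (commute_of_conj_eq ?_).symm⟩
  have h4 : k * ζ * z * (k * ζ)⁻¹ = (k * z * k⁻¹)⁻¹ * (z * (ζ * z * ζ⁻¹)) := by rw [← h2]; group
  calc ζ * (z * (k * z * k⁻¹)) * ζ⁻¹ = ζ * z * ζ⁻¹ * (ζ * k * z * (ζ * k)⁻¹) := by group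
    _ = _ := by
      rw [h3, h4, inv_of_sq (s.sq _ h1), ← mul_assoc (k * z * k⁻¹),
        (s.comm hB (mul_mem (mul_mem h1 hz) hB)).eq, mul_assoc _ (ζ * z * ζ⁻¹), s.sq _ hB, mul_one,
        (s.comm h1 hz).eq]

theorem K_sq {k : G} (hk : k ∈ s.K ζ) : s.π k * s.π k = 1 := by
  rw [← s.π_mul hk.1 hk.1]
  refine s.π_Z (s.faith (mul_mem hk.1 hk.1) fun z hz => (commute_of_conj_eq ?_).symm)
  have h1 := conj_eq_of_commute ((St.mem_K.1 hk).2 _ (h.quad hk hz))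
  have h2 : k * k * z * (k * k)⁻¹ = (k * z * k⁻¹)⁻¹ * (z * (k * z * k⁻¹)) := by rw [← h1]; group
  rw [h2, (s.comm hz (s.conj_Z hk.1 hz)).eq, inv_mul_cancel_left]

theorem K_comm {k k' : G} (hk : k ∈ s.K ζ) (hk' : k' ∈ s.K ζ) : Commute (s.π k) (s.π k') :=
  StdU3.commute_of_invol (h.K_sq hk) (h.K_sq hk')
    (by rw [← s.π_mul hk.1 hk'.1]; exact h.K_sq (mul_mem hk hk'))

theorem K_cent {k : G} (hk : k ∈ s.K ζ) (hc : Commute (s.π k) (s.π D.t)) :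
    s.π k = 1 ∨ s.π k = s.π ζ := by
  refine or_iff_not_imp_left.2 fun k1 => ?_
  refine (s.omega (h.cen _).symm hc h.sq (h.K_sq hk) h.ne k1 h.ne_t
    fun c => h.t_not (K_congr hk s.t_S c)).resolve_right fun c => ?_
  refine h.t_not (K_congr (mul_mem (inv_mem h.mem_K) hk) s.t_S ?_)
  rw [s.π_mul (inv_mem h.mem) hk.1, s.π_inv h.mem, c, inv_mul_cancel_left]

theorem K_t {k : G} (hk : k ∈ s.K ζ) (h1 : s.π k ≠ 1) (h2 : s.π k ≠ s.π ζ) :
    s.π D.t * s.π k * (s.π D.t)⁻¹ = s.π k * s.π ζ := by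
  have hk' := h.conj_K s.t_S hk
  have e1 := s.π_conj s.t_S hk.1
  have hc := h.K_comm hk hk'
  rw [e1] at hc
  rcases h.K_cent (mul_mem hk hk') (commute_of_conj_eq (by
      rw [s.π_mul hk.1 hk'.1, e1, hc.eq]
      calc s.π D.t * (s.π D.t * s.π k * (s.π D.t)⁻¹ * s.π k) * (s.π D.t)⁻¹
          = s.π D.t * s.π D.t * s.π k * (s.π D.t * s.π D.t)⁻¹ *
            (s.π D.t * s.π k * (s.π D.t)⁻¹) := by group
        _ = _ := by rw [s.πt_sq, ← hc.eq]; group)).symm with c | c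
  · rw [s.π_mul hk.1 hk'.1, e1, mul_eq_one_iff_inv_eq, inv_of_sq (h.K_sq hk)] at c
    exact ((h.K_cent hk (commute_of_conj_eq c.symm).symm).elim h1 h2).elim
  · rw [s.π_mul hk.1 hk'.1, e1] at c
    rw [← c, ← mul_assoc, h.K_sq hk, one_mul]

theorem K4 {k k' : G} (hk : k ∈ s.K ζ) (h1 : s.π k ≠ 1) (h2 : s.π k ≠ s.π ζ) (hk' : k' ∈ s.K ζ) :
    s.π k' = 1 ∨ s.π k' = s.π ζ ∨ s.π k' = s.π k ∨ s.π k' = s.π k * s.π ζ := by
  refine or_iff_not_imp_left.2 fun h1' => or_iff_not_imp_left.2 fun h2' => ?_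
  have := h.K_cent (mul_mem hk hk') (commute_of_conj_eq (by
    rw [s.π_mul hk.1 hk'.1, ← conj_mul, h.K_t hk h1 h2, h.K_t hk' h1' h2', mul_assoc,
      ← mul_assoc (s.π ζ), ← (h.cen _).eq, mul_assoc (s.π k'), h.sq, mul_one])).symm
  rw [s.π_mul hk.1 hk'.1, ← eq_inv_mul_iff_mul_eq, ← eq_inv_mul_iff_mul_eq, inv_of_sq (h.K_sq hk),
    mul_one] at this
  exact this

theorem big (o : s.Off E) (h8 : 8 ≤ Nat.card F) : False := by
  have hsq : ∀ e ∈ s.bar E, e * e = 1 := fun e he => by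
    obtain ⟨a, ha, rfl⟩ := (s.mem_bar o.le_S).1 he
    exact s.π_sq (o.le_S ha) (o.sq ha)
  have h1 : Nat.card (s.bar E) < Nat.card F := by
    have := s.rk hsq
    rcases s.T.f_cases with c | ⟨-, c⟩
    · omega
    · by_contra c'
      nlinarith
  have h2 : ∀ e ∈ E, s.π e ≠ 1 → ¬ Commute (s.π e) (s.π D.t) := fun e he e1 c =>
    (o.le_of_comm he e1 c).not_gt h1
  have h3 : ∀ e ∈ E, s.π e ≠ s.π ζ := fun e he c =>
    h2 e he (c ▸ h.ne) (c ▸ (h.cen _).symm)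
  have h4 : Nat.card (s.bar E) * Nat.card (s.bar E) ≤ Nat.card F := by
    obtain ⟨H, c1, c2, -⟩ := Local.exists_double_elementary _ hsq _ h.sq
      (fun c => by obtain ⟨e, he, c⟩ := (s.mem_bar o.le_S).1 c; exact h3 e he c)
      fun y _ => (h.cen y).symm.eq
    have := s.rk c2
    rcases s.T.f_cases with c | ⟨-, c⟩
    · nlinarith
    · nlinarith
  have h5 : ∀ a ∈ E, s.π a ≠ 1 →
      a ∈ s.K ζ ∧ Nat.card F ≤ Nat.card (s.bar E) * Nat.card (s.bar E) := by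
    intro a ha a1
    have aS := o.le_S ha
    obtain ⟨c, hc, -, ca, ct, ⟨y, -, e⟩, -⟩ := Int2.dih2 (s.π_sq aS (o.sq ha)) s.πt_sq
      (s.twoQ _) (h2 a ha a1)
    have hcζ : c = s.π ζ := by
      refine (s.omega (h.cen _).symm ct h.sq hc.1 h.ne hc.2 h.ne_t
        fun c' => h2 a ha a1 (c' ▸ ca.symm)).resolve_right fun c' => h2 a ha a1 ?_
      have : Commute (s.π a) ((s.π ζ)⁻¹ * c) := (h.cen _).inv_right.mul_right ca.symm
      rwa [c', inv_mul_cancel_left] at this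
    obtain ⟨x, hx, rfl⟩ := s.π_surj y
    have a'S := mul_mem (mul_mem hx aS) (inv_mem hx)
    have l1 : s.Z ⊓ (C1 a ⊓ C1 (x * a * x⁻¹)) ≤ s.cz ζ := fun z hz =>
      s.mem_cz.2 ⟨hz.1, s.comm_congr (mul_mem (inv_mem aS) a'S) h.mem
        (by rw [s.π_mul (inv_mem aS) a'S, s.π_inv aS, s.π_conj hx aS, e, hcζ, inv_mul_cancel_left])
        hz.1 ((StdSz.mem_C1.1 hz.2.1).inv_right.mul_right (StdSz.mem_C1.1 hz.2.2))⟩
    have l2 := card_mul_relIndex (inf_le_left : s.Z ⊓ (C1 a ⊓ C1 (x * a * x⁻¹)) ≤ s.Z)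
    rw [inf_relIndex_left, s.card_Z] at l2
    have l3 := o.ix a ha fun c => a1 (s.π_Z c)
    rw [← s.card_bar o.le_S] at l3
    have l4 : (C1 (x * a * x⁻¹)).relIndex s.Z = (C1 a).relIndex s.Z := by
      have := s.card_cz (x * a * x⁻¹)
      rw [s.cz_conj hx, card_cj, ← s.card_cz a] at this
      exact Nat.eq_of_mul_eq_mul_left Nat.card_pos this
    have l5 : (C1 a ⊓ C1 (x * a * x⁻¹)).relIndex s.Z ≤ Nat.card (s.bar E) * Nat.card (s.bar E) :=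
      relIndex_inf_le.trans (Nat.mul_le_mul l3 (l4 ▸ l3))
    have l6 := Trans.card_le_of_le l1
    rw [h.card_Y] at l6
    refine ⟨St.mem_K.2 ⟨aS, fun y hy => ?_⟩, by nlinarith⟩
    rw [← eq_of_le_of_card_ge l1 (by rw [h.card_Y]; nlinarith)] at hy
    exact (StdSz.mem_C1.1 hy.2.1).symm
  have h6 := o.le_two fun x hx y hy x1 y1 => by
    rcases h.K4 (h5 x hx x1).1 x1 (h3 x hx) (h5 y hy y1).1 with c | c | c | c
    · exact (y1 c).elim
    · exact (h3 y hy c).elim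
    · exact c.symm
    · refine (h3 _ (mul_mem (inv_mem hx) hy) ?_).elim
      rw [s.π_mul (inv_mem (o.le_S hx)) (o.le_S hy), s.π_inv (o.le_S hx), c, inv_mul_cancel_left]
  obtain ⟨a, ha, a1⟩ := o.exists_mem
  have := (h5 a ha a1).2
  nlinarith

end Ze

end St

end Cfsg.Lib.SJ1
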