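import Cfsg.Agent.SJ1.Base
import Cfsg.Agent.SJ1.ExBA
import Cfsg.Agent.Gold.KLiftDX
import Cfsg.Agent.SG2.AB

/-!
# Standard subgroups of type `L₂(2ᵃ)`: the exceptional configuration with `U ≠ V`
-/

set_option autoImplicit false

namespace Cfsg.Lib.SJ1

open Subgroup Cfsg.Lib.Gold Cfsg.Lib.Trans Cfsg.Lib.StdSz

variable {G : Type*} [Group G] [Finite G] {F : Type*} [Field F] [Finite F]

namespace ExB

variable {D : Dat G F} {U X A : Subgroup G}

omit [Finite G] [Finite F] in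
theorem comm (h : Inv D U) {a b : G} (ha : a ∈ U) (hb : b ∈ U) : Commute a b := by
  have := h.inv _ (mul_mem (inv_mem hb) (inv_mem ha))
  rw [show D.t * (b⁻¹ * a⁻¹) * D.t = D.t * b⁻¹ * D.t * (D.t * a⁻¹ * D.t) by
    simp only [mul_assoc, D.tt_mul], h.inv _ (inv_mem hb), h.inv _ (inv_mem ha)] at this
  simpa [Commute, SemiconjBy] using this.symm

theorem omega (h : Inv D U) {u : G} (hu : u ∈ U) (h2 : u * u = 1) : u ∈ D.V := by
  have h1 : Commute u D.t := by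
    have := h.inv u hu
    rw [inv_eq_of_mul_eq_one_right h2] at this
    rw [Commute, SemiconjBy, ← D.tt_mul (u * D.t), ← mul_assoc D.t u, this]
  obtain ⟨b, e | e⟩ := D.mem_W.1
    (D.mem_W_of_sq h1 (fun b => comm h hu (h.V_le (D.v_mem b))) h2)
  · exact ⟨b, e⟩
  · exact absurd ((mul_mem_cancel_right (h.V_le (D.v_mem b))).1 (e ▸ hu)) h.t_not

theorem Ns_le (h : Inv D U) {g : G} (hg : g ∈ Ns U) : g ∈ Ns D.V :=
  mem_Ns fun x hx => omega h (mem_normalizer_conj hg (h.V_le hx))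
    (by rw [conj_sq, D.V_sq hx, mul_one, mul_inv_cancel])

omit [Finite G] [Finite F] in
theorem exists_act {g : G} (hg : g ∈ Ns D.V) :
    ∃ L : F ≃+ F, ∀ b, g * D.v b * g⁻¹ = D.v (L b) := by
  have h1 : ∀ b, D.v (D.γ (g * D.v b * g⁻¹)) = g * D.v b * g⁻¹ := fun b =>
    D.v_γ (mem_normalizer_conj hg (D.v_mem b))
  have h2 : ∀ b, D.v (D.γ (g⁻¹ * D.v b * g)) = g⁻¹ * D.v b * g := fun b =>
    D.v_γ (mem_normalizer_conj' hg (D.v_mem b))
  refine ⟨⟨⟨fun b => D.γ (g * D.v b * g⁻¹), fun b => D.γ (g⁻¹ * D.v b * g), fun b => ?_,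
    fun b => ?_⟩, fun b c => D.v_inj ?_⟩, fun b => (h1 b).symm⟩
  · simp only [h1]; rw [show g⁻¹ * (g * D.v b * g⁻¹) * g = D.v b by group, D.γ_v]
  · simp only [h2]; rw [show g * (g⁻¹ * D.v b * g) * g⁻¹ = D.v b by group, D.γ_v]
  · rw [D.v_add, h1, h1, h1, D.v_add, conj_mul]

omit [Finite G] [Finite F] in
theorem t_mem (h : Inv D U) : D.t ∈ Ns U := h.B_le (D.mem_B.2 ⟨Commute.refl _, by
  refine mem_normalizer_iff.2 fun x => ⟨?_, ?_⟩
  · rintro ⟨b, rfl⟩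
    rw [conj_eq_of_commute (D.t_v b)]
    exact D.v_mem b
  · rintro ⟨b, e⟩
    refine ⟨b, ?_⟩
    rw [← conj_eq_of_commute (D.t_v b)] at e
    simpa using e⟩)

theorem mem_U (E : ExS D X U) (a : Amb D.toMod X A) {w : G} (hw : w ∈ (E.S : Subgroup G))
    (hX : w ∈ X) (hc : ∀ b, Commute w (D.v b)) : w ∈ U := by
  obtain ⟨u, hu, o, ho, e | e⟩ := E.exc.cV w (E.S_le hw).1 hc
  · have h1 : o ∈ (E.S : Subgroup G) :=
      (mul_mem_cancel_left (E.le_S (mem_sup_left hu))).1 (e ▸ hw)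
    rwa [e, eq_one_of_mem_of_odd E.S.isPGroup' D.O_odd h1 ho, mul_one]
  · exact absurd ((mul_mem_cancel_right (mul_mem (E.U_X hu)
      (a.odd_mem (odd_orderOf_of_mem ho D.O_odd)))).1 (e ▸ hX)) E.t_X

/-- Induction over the orders of the elements of `U`. -/
theorem ind (h : Inv D U) {P : G → Prop} (h1 : P 1) (hs : ∀ u ∈ U, P (u * u) → P u) {u : G}
    (hu : u ∈ U) : P u := by
  obtain ⟨k, hk⟩ := pow_of_two h.two hu
  induction k generalizing u with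
  | zero => rwa [show u = 1 by simpa using hk]
  | succ k ih => exact hs u hu (ih (mul_mem hu hu) (by rw [← sq, ← pow_mul, ← pow_succ', hk]))

theorem comm_of_pow (h : Inv D U) {g : G} (hg : g ∈ Ns U) (hc : ∀ b, Commute g (D.v b)) {m : ℕ}
    (hm : Odd m) (hU : g ^ m ∈ U) {u : G} (hu : u ∈ U) : Commute g u := by
  refine ind h (Commute.one_right g) (fun u hu ih => ?_) hu
  have h1 := mem_normalizer_conj hg hu
  have h2 : g * u * g⁻¹ * u⁻¹ * (g * u * g⁻¹ * u⁻¹) = 1 := by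
    rw [(comm h (inv_mem hu) h1).mul_mul_mul_comm, conj_sq, conj_eq_of_commute ih]
    group
  obtain ⟨b, hb⟩ := omega h (mul_mem h1 (inv_mem hu)) h2
  have h3 : ∀ n : ℕ, g ^ n * u * (g ^ n)⁻¹ = D.v b ^ n * u := fun n => by
    induction n with
    | zero => simp
    | succ n ih =>
      rw [pow_succ', show g * g ^ n * u * (g * g ^ n)⁻¹ = g * (g ^ n * u * (g ^ n)⁻¹) * g⁻¹ by group,
        ih, ← mul_assoc, ((hc b).pow_right n).eq, pow_succ, ← hb]
      group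
  have h4 := h3 m
  obtain ⟨k, rfl⟩ := hm
  rw [conj_eq_of_commute (comm h hU hu), pow_succ, pow_mul, sq, D.v_sq, one_pow, one_mul,
    ← hb] at h4
  exact commute_of_conj_eq (by simpa using h4.symm)

/-- Conjugation as an additive map. -/
def cjA {y : G} (hy : y ∈ Ns U) : Additive U →+ Additive U :=
  AddMonoidHom.mk' (fun m => Additive.ofMul ⟨y * m.toMul * y⁻¹, mem_normalizer_conj hy m.toMul.2⟩)
    fun a b => Additive.ext (Subtype.ext (by simp))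

end ExB

section ExB

variable {D : Dat G F} {U X A : Subgroup G} (E : ExS D X U) (a : Amb D.toMod X A) (hU : U ≠ D.V)
include E a hU

omit a in
theorem ExS.root' (b : F) : ∃ u ∈ U, u * u = D.v b := by
  have h := E.exc.inv
  by_cases hb : b = 0
  · exact ⟨1, one_mem _, by simp [hb]⟩
  by_contra hn
  refine hU (le_antisymm (fun u hu => ExB.ind h (P := (· ∈ D.V)) (one_mem _)
    (fun u hu ⟨c, hc⟩ => ?_) hu) h.V_le)
  by_cases c0 : c = 0
  · exact ExB.omega h hu (by rw [hc, c0, D.v_zero])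
  obtain ⟨k, hk⟩ := D.exists_h c0 hb
  exact absurd ⟨_, mem_normalizer_conj (h.B_le (D.h_mem_B k)) hu, by rw [conj_sq, hc, hk]⟩ hn

theorem ExS.root (b : F) : ∃ u ∈ U, u * u = D.v b := (fun _ => E.root' hU b) a

theorem ExS.wc {g : G} (h : cj g U ≤ E.S) : cj g U = U := by
  have hI := E.exc.inv
  have hS : ∀ u ∈ U, g * u * g⁻¹ ∈ (E.S : Subgroup G) := cj_le_iff.1 h
  have hX : ∀ u ∈ U, g * u * g⁻¹ ∈ X := fun u hu => a.normal.conj_mem _ (E.U_X hu) g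
  by_cases hA : ∀ b, g * D.v b * g⁻¹ ∈ U
  · have hg : g ∈ Ns D.V := mem_Ns (by
      rintro _ ⟨b, rfl⟩
      exact ExB.omega hI (hA b) (by rw [conj_sq, D.v_sq, mul_one, mul_inv_cancel]))
    refine mem_Ns_iff.1 (mem_Ns fun u hu => ExB.mem_U E a (hS u hu) (hX u hu) fun b => ?_)
    simpa [mul_assoc] using commute_conj
      (ExB.comm hI hu (hI.V_le (mem_normalizer_conj' hg (D.v_mem b)))) g
  exfalso
  choose r hr hr2 using E.root a hU
  choose L hL using fun b => ExB.exists_act (E.exc.N_V (E.S_le (hS _ (hr b))).1)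
  have two := D.two
  have aa := ExB.add_self two
  let n : F → F →+ F := fun b => (L b : F →+ F) + AddMonoidHom.id F
  have hn : ∀ b c, n b c = L b c + c := fun _ _ => rfl
  have hLL : ∀ b c, g * D.v b * g⁻¹ * D.v c * (g * D.v b * g⁻¹)⁻¹ = D.v (L b (L b c)) :=
    fun b c => by rw [← hL, ← hL, ← hr2]; group
  have n2 : ∀ b c, n b (n b c) = L b (L b c) + c := fun b c => by
    simp only [hn, map_add]; linear_combination aa (L b c)
  have n4 : ∀ b c, n b (n b (n b (n b c))) = 0 := fun b c => by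
    have : L b (L b (L b (L b c))) = c := D.v_inj (by
      rw [← hLL, ← hLL, show ∀ y z : G, y * (y * z * y⁻¹) * y⁻¹ = y * y * z * (y * y)⁻¹ by
        intros; group, conj_sq, D.v_sq]
      simp)
    rw [n2, n2, map_add, map_add, this]
    linear_combination aa c + aa (L b (L b c))
  have nc : ∀ b b' c, n b (n b' c) = n b' (n b c) := fun b b' c => by
    have : L b (L b' c) = L b' (L b c) := D.v_inj (by
      have k : ∀ y z w : G, y * (z * w * z⁻¹) * y⁻¹ = y * z * w * (y * z)⁻¹ := by intros; group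
      rw [← hL, ← hL, ← hL, ← hL, k, k, (commute_conj (ExB.comm hI (hr b) (hr b')) g).eq])
    simp only [hn, map_add, this]; ring
  have mem : ∀ b, (∀ c, L b (L b c) = c) → g * D.v b * g⁻¹ ∈ U := fun b hb =>
    ExB.mem_U E a (hS _ (hI.V_le (D.v_mem b))) (hX _ (hI.V_le (D.v_mem b))) fun c =>
      commute_of_conj_eq (by rw [hLL, hb])
  push Not at hA
  obtain ⟨b0, hb0⟩ := hA
  obtain ⟨e, he⟩ : ∃ e, n b0 (n b0 e) ≠ 0 := by
    by_contra hc
    push Not at hc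
    exact hb0 (mem b0 fun c => (ExB.add_zero_iff two).1 (by rw [← n2, hc]))
  obtain ⟨k1, k2⟩ := ExB.nil8 two E.exc.eight (n4 b0) he
  have f1 : ∀ b, g * D.v b * g⁻¹ ∈ U → b = 0 ∨ b = D.γ (g⁻¹ * D.v (n b0 (n b0 e)) * g) := by
    intro b hb
    obtain ⟨c, hc⟩ := ExB.omega hI hb (by rw [conj_sq, D.v_sq, mul_one, mul_inv_cancel])
    have : L b0 c = c := D.v_inj (by
      rw [← hL, ← hc]
      exact conj_eq_of_commute (commute_conj (ExB.comm hI (hr b0) (hI.V_le (D.v_mem b))) g))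
    rcases k1 c (by rw [hn, this, aa]) with k | k
    · rw [k, D.v_zero, conj_eq_one_iff] at hc
      exact Or.inl (D.v_eq_one.1 hc)
    · rw [← k, ← hc, show g⁻¹ * (g * D.v b * g⁻¹) * g = D.v b by group, D.γ_v]
      exact Or.inr rfl
  have f2 : ∀ b, g * D.v b * g⁻¹ ∈ U ∨ g * D.v (b + b0) * g⁻¹ ∈ U := fun b => by
    rcases k2 (n b) (nc b b0) (n4 b) with k | k
    · exact Or.inl (mem b fun c => (ExB.add_zero_iff two).1 (by rw [← n2, k]))
    refine Or.inr (ExB.mem_U E a (hS _ (hI.V_le (D.v_mem _))) (hX _ (hI.V_le (D.v_mem _)))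
      fun c => commute_of_conj_eq ?_)
    have k3 : ∀ c, L b (L b c) = L b0 (L b0 c) := fun c => by
      simpa only [n2, add_left_inj] using k c
    have k4 := n4 b0 c
    rw [n2, n2, map_add, map_add] at k4
    rw [D.v_add, ← conj_mul, show ∀ y z w : G, y * z * w * (y * z)⁻¹ = y * (z * w * z⁻¹) * y⁻¹ by
      intros; group, hLL, hLL, k3]
    congr 1
    linear_combination k4 - aa (L b0 (L b0 c)) - aa c
  classical
  generalize D.γ (g⁻¹ * D.v (n b0 (n b0 e)) * g) = b1 at f1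
  obtain ⟨b, hb⟩ := exists_not_mem_finset ({0, b1, b0, b1 + b0} : Finset F)
    (by rw [E.exc.eight]; exact lt_of_le_of_lt Finset.card_le_four (by norm_num))
  simp only [Finset.mem_insert, Finset.mem_singleton, not_or] at hb
  rcases f2 b with k | k <;> rcases f1 _ k with k | k
  exacts [hb.1 k, hb.2.1 k, hb.2.2.1 ((ExB.add_zero_iff two).1 k),
    hb.2.2.2 (by linear_combination k - aa b0)]

omit hU in
theorem ExS.cV' : ∃ O₁ : Subgroup G, Odd (Nat.card O₁) ∧ O₁ ≤ Cs U ∧ Ns D.V ≤ Ns O₁ ∧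
    (∀ g ∈ X, (∀ b, Commute g (D.v b)) → ∃ u ∈ U, ∃ o ∈ O₁, g = u * o) ∧
    ∀ g ∈ Ns D.V, ∃ n ∈ D.NU U ⊓ Cs D.O, ∃ o ∈ O₁, g = n * o := by
  have hI := E.exc.inv
  haveI := a.normal
  have mC : ∀ {g : G}, g ∈ Cs D.V ↔ ∀ b, Commute g (D.v b) := fun {g} => by
    rw [StdSz.mem_Cs]
    exact ⟨fun h b => h _ (D.v_mem b), by rintro h _ ⟨b, rfl⟩; exact h b⟩
  have hN : Ns D.V ≤ Ns (Cs D.V ⊓ X) :=
    le_Ns_inf (le_Ns_Cs le_rfl) (le_top.trans (normalizer_eq_top X).ge)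
  have hSV : (E.S : Subgroup G) ≤ Ns D.V := fun s hs => E.exc.N_V (E.S_le hs).1
  have hS := (isSylowIn_of_le E.S hSV).inf_normal_of_le hN (inf_le_left.trans Cs_le_Ns)
  have e : (E.S : Subgroup G) ⊓ (Cs D.V ⊓ X) = U := le_antisymm
    (fun w hw => ExB.mem_U E a hw.1 hw.2.2 (mC.1 hw.2.1)) fun u hu =>
      ⟨E.le_S (mem_sup_left hu), mC.2 fun b => ExB.comm hI hu (hI.V_le (D.v_mem b)), E.U_X hu⟩
  rw [e] at hS
  have hB := KT.le_Oc_sup (KT.hasCompl hS fun g hg => by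
    obtain ⟨m, hm, hmU⟩ := SG2.odd_pow_mem hS hg
    exact StdSz.mem_Cs.2 fun u hu => ExB.comm_of_pow hI hg.2 (mC.1 hg.1.1) hm hmU hu) hS
  generalize hO : Oc (Cs D.V ⊓ X) = O₁ at hB
  have hO1 : Odd (Nat.card O₁) := hO ▸ odd_card_Oc
  have hO2 : Ns D.V ≤ Ns O₁ := hO ▸ le_Ns_Oc hN
  have hO3 : O₁ ≤ Cs D.V := hO ▸ Oc_le.trans inf_le_left
  have k1 : ∀ o ∈ O₁, Commute o D.t → o ∈ D.O := fun o ho hc =>
    D.mem_O_iff.2 ⟨hc, mC.1 (hO3 ho), odd_orderOf_of_mem ho hO1⟩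
  have k2 : ∀ u ∈ U, ∀ o ∈ O₁, Commute o (D.t * u) → o ∈ D.O := fun u hu o ho hc => by
    obtain ⟨n, hn, e⟩ := E.exc.trans u hu
    have h1 := k1 _ (mem_normalizer_conj' (hO2 (E.exc.N_V hn.1)) ho) (by
      rw [← e] at hc
      simpa [mul_assoc] using commute_conj hc n⁻¹)
    have h2 := conj_eq_of_commute (StdSz.mem_Cs.1 hn.2 _ h1)
    rw [show n * (n⁻¹ * o * n) * n⁻¹ = o by group] at h2
    rwa [h2]
  have hOU : O₁ ≤ Cs U := by
    refine le_Cs_comm.1 fun u hu => ExB.ind hI (one_mem _) (fun u hu ih => ?_) hu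
    have tN : D.t ∈ Ns O₁ := hO2 (ExB.Ns_le hI (ExB.t_mem hI))
    have uN : u ∈ Ns O₁ := hO2 (ExB.Ns_le hI (le_normalizer hu))
    have ev : ∀ (g : Ns O₁) (o : O₁), ((O₁.normalizerMonoidHom g o : O₁) : G) = g * o * (g : G)⁻¹ :=
      fun _ _ => rfl
    have ker : ∀ g : Ns O₁, (g : G) ∈ Cs O₁ → O₁.normalizerMonoidHom g = 1 := fun g hg =>
      MulEquiv.ext fun o => Subtype.ext (conj_eq_of_commute (StdSz.mem_Cs.1 hg o o.2))
    refine StdSz.mem_Cs.2 fun o ho => commute_of_conj_eq (congrArg Subtype.val (ExB.four_aut hO1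
      (a := O₁.normalizerMonoidHom ⟨_, tN⟩) (b := O₁.normalizerMonoidHom ⟨_, uN⟩) ?_ ?_ ?_
      (fun x hx => Subtype.ext ?_) (fun x hx => Subtype.ext ?_) ⟨o, ho⟩))
    · rw [← map_mul]
      exact ker _ (by change D.t * D.t ∈ _; rw [D.t_sq]; exact one_mem _)
    · rw [← map_mul]
      exact ker _ ih
    · rw [← map_mul, ← map_mul, ← mul_inv_eq_one, ← map_inv, ← map_mul]
      refine ker _ ?_
      change D.t * u * (u * D.t)⁻¹ ∈ _
      rw [mul_inv_rev, D.t_inv, ← mul_assoc, hI.inv u hu, ← mul_inv_rev]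
      exact inv_mem ih
    · exact conj_eq_of_commute (hI.O_c _ (k1 x x.2
        (commute_of_conj_eq (congrArg Subtype.val hx)).symm) u hu).symm
    · refine conj_eq_of_commute (hI.O_c _ (k2 u hu x x.2 (commute_of_conj_eq ?_).symm) u hu).symm
      have := congrArg Subtype.val hx
      simp only [ev] at this
      simpa only [mul_inv_rev, mul_assoc] using this
  have hd : ∀ g ∈ X, (∀ b, Commute g (D.v b)) → ∃ u ∈ U, ∃ o ∈ O₁, g = u * o := fun g hg hc => by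
    obtain ⟨o, ho, u, hu, e⟩ := (mem_sup_of_le_normalizer
      (le_Cs_comm.1 hOU |>.trans Cs_le_Ns)).1 (hB ⟨mC.2 hc, hg⟩)
    exact ⟨u, hu, o, ho, by rw [← e, (StdSz.mem_Cs.1 (hOU ho) u hu).eq]⟩
  refine ⟨O₁, hO1, hOU, hO2, hd, fun g hg => ?_⟩
  obtain ⟨L, hL⟩ := ExB.exists_act hg
  obtain ⟨n, hn, hn'⟩ := E.exc.lin L
  have hc : ∀ b, Commute (n⁻¹ * g) (D.v b) := fun b => commute_of_conj_eq (by
    rw [show n⁻¹ * g * D.v b * (n⁻¹ * g)⁻¹ = n⁻¹ * (g * D.v b * g⁻¹) * n by group, hL, ← hn']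
    group)
  have hU1 : U ⊔ zpowers D.t ≤ D.NU U ⊓ Cs D.O := E.le_S.trans E.S_le
  rcases a.gen (n⁻¹ * g) with h | h
  · obtain ⟨u, hu, o, ho, e⟩ := hd _ h hc
    exact ⟨n * u, mul_mem hn (hU1 (mem_sup_left hu)), o, ho, by rw [mul_assoc, ← e]; group⟩
  · obtain ⟨u, hu, o, ho, e⟩ := hd _ h fun b => (D.t_v b).mul_left (hc b)
    refine ⟨n * (D.t * u), mul_mem hn (hU1 (mul_mem (mem_sup_right (mem_zpowers _))
      (mem_sup_left hu))), o, ho, ?_⟩
    rw [mul_assoc, mul_assoc, ← e, D.tt_mul]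
    group

theorem ExS.cV : ∃ O₁ : Subgroup G, Odd (Nat.card O₁) ∧ O₁ ≤ Cs U ∧ Ns D.V ≤ Ns O₁ ∧
    (∀ g ∈ X, (∀ b, Commute g (D.v b)) → ∃ u ∈ U, ∃ o ∈ O₁, g = u * o) ∧
    ∀ g ∈ Ns D.V, ∃ n ∈ D.NU U ⊓ Cs D.O, ∃ o ∈ O₁, g = n * o := (fun _ => E.cV' a) hU

omit hU in
/-- An element of `X` centralising `V` centralises `U`. -/
theorem ExS.cU {g : G} (hg : g ∈ X) (hc : ∀ b, Commute g (D.v b)) {u : G} (hu : u ∈ U) :
    Commute g u := by
  obtain ⟨O₁, -, h1, -, h2, -⟩ := E.cV' a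
  obtain ⟨w, hw, o, ho, rfl⟩ := h2 g hg hc
  exact (ExB.comm E.exc.inv hw hu).mul_left (StdSz.mem_Cs.1 (h1 ho) u hu)

omit hU in
theorem ExS.linX (L : F ≃+ F) : ∃ g ∈ X ⊓ Ns U, ∀ b, g * D.v b * g⁻¹ = D.v (L b) := by
  obtain ⟨g, hg, h⟩ := E.exc.lin L
  rcases a.gen g with k | k
  · exact ⟨g, ⟨k, E.exc.N_U hg.1⟩, h⟩
  · refine ⟨_, ⟨k, mul_mem (ExB.t_mem E.exc.inv) (E.exc.N_U hg.1)⟩, fun b => ?_⟩
    rw [show D.t * g * D.v b * (D.t * g)⁻¹ = D.t * (g * D.v b * g⁻¹) * D.t⁻¹ by group, h,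
      conj_eq_of_commute (D.t_v _)]

theorem ExS.fact1 {y : G} (hy : y ∈ X ⊓ Ns U) (h2 : ∀ b, Commute (y * y) (D.v b))
    (hn : ¬ ∀ b, Commute y (D.v b)) {x : G} (hx : x ∈ U) (hc : Commute x y) {b : F}
    (e : x * x = D.v b) : ∃ c, y * D.v c * y⁻¹ = D.v (c + b) := by
  have hI := E.exc.inv
  have two := D.two
  have aa := ExB.add_self two
  by_contra hb
  push Not at hb hn
  obtain ⟨e3, h3⟩ := hn
  obtain ⟨L, hL⟩ := ExB.exists_act (ExB.Ns_le hI hy.2)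
  have LL : ∀ c, L (L c) = c := fun c => D.v_inj (by
    rw [← hL, ← hL]
    conv_rhs => rw [← conj_eq_of_commute (h2 c)]
    group)
  have Lb : L b = b := D.v_inj (by
    rw [← hL, ← e]; exact conj_eq_of_commute (hc.symm.mul_right hc.symm))
  obtain ⟨e1, L3⟩ : ∃ e1, L e3 = e3 + e1 := ⟨L e3 - e3, by ring⟩
  have L1 : L e1 = e1 := by
    have := LL e3
    rw [L3, map_add, L3] at this
    linear_combination this - aa e1
  have m3 : L e3 ≠ e3 := fun k => h3 (commute_of_conj_eq (by rw [hL, k]))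
  have n1 : e1 ≠ 0 := fun k => m3 (by rw [L3, k, add_zero])
  have n2 : b ≠ 0 := fun k => hb 0 (by simp [k])
  have n3 : e1 ≠ b := fun k => hb e3 (by rw [hL, L3, k])
  have i1 : ExB.Ind e1 b e3 := ⟨n1, n2, n3, fun k => m3 (by rw [k, map_zero]),
    fun k => m3 (by rw [k, L1]), fun k => m3 (by rw [k, Lb]), fun k => m3 (by rw [k, map_add, L1, Lb])⟩
  have s3 : b + (e1 + b) = e1 := by linear_combination aa b
  have i2 : ExB.Ind b (e1 + b) e3 := ⟨n2, fun k => n3 ((ExB.add_zero_iff two).1 k),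
    fun k => n1 (by linear_combination -k), i1.2.2.2.1, i1.2.2.2.2.2.1, i1.2.2.2.2.2.2,
    by rw [s3]; exact i1.2.2.2.2.1⟩
  obtain ⟨R, r1, r2, r3⟩ := ExB.exists_equiv two E.exc.eight i1 i2
  obtain ⟨g, hg, hR⟩ := E.linX a R
  have cj : ∀ {z : G} {c d : F}, z * D.v c * z⁻¹ = D.v d →
      g * z * g⁻¹ * D.v (R c) * (g * z * g⁻¹)⁻¹ = D.v (R d) := fun {z c d} h => by
    rw [← hR, ← hR, ← h]; group
  have ad : ∀ {z : G} {c d c' d' : F}, z * D.v c * z⁻¹ = D.v d → z * D.v c' * z⁻¹ = D.v d' →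
      z * D.v (c + c') * z⁻¹ = D.v (d + d') := fun h h' => by
    rw [D.v_add, D.v_add, ← h, ← h', conj_mul]
  have cN : ∀ {z : G}, z ∈ X ⊓ Ns U → g * z * g⁻¹ ∈ X ⊓ Ns U := fun hz =>
    mul_mem (mul_mem hg hz) (inv_mem hg)
  have cS : ∀ {z : G}, (∀ u ∈ U, z * (z * u * z⁻¹) * z⁻¹ = u) → ∀ u ∈ U,
      g * z * g⁻¹ * (g * z * g⁻¹ * u * (g * z * g⁻¹)⁻¹) * (g * z * g⁻¹)⁻¹ = u := fun {z} h u hu => by
    calc _ = g * (z * (z * (g⁻¹ * u * g) * z⁻¹) * z⁻¹) * g⁻¹ := by group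
      _ = u := by rw [h _ (mem_normalizer_conj' hg.2 hu)]; group
  have a1 := (hL e1).trans (congrArg _ L1)
  have a2 := (hL b).trans (congrArg _ Lb)
  have a3 := (hL e3).trans (congrArg _ L3)
  have aS : ∀ u ∈ U, y * (y * u * y⁻¹) * y⁻¹ = u := fun u hu => by
    conv_rhs => rw [← conj_eq_of_commute (E.cU a (X.mul_mem hy.1 hy.1) h2 hu)]
    group
  have b2 := cj a1
  have b1 := ad b2 (cj a2)
  have b3 := cj a3
  rw [map_add, r1, r3] at b3
  rw [r1, r2, s3] at b1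
  rw [r1] at b2
  have bN := cN hy
  have bS := cS aS
  have bx := commute_conj hc g
  have hx2 := mem_normalizer_conj hg.2 hx
  have ex2 : g * x * g⁻¹ * (g * x * g⁻¹) = D.v (e1 + b) := by rw [conj_sq, e, hR, r2]
  generalize g * y * g⁻¹ = y2 at b1 b2 b3 bN bS bx
  generalize g * x * g⁻¹ = x2 at bx hx2 ex2
  have c2 := cj b1
  have c1 := ad c2 (cj b2)
  have c3 := cj b3
  rw [map_add, r2, r3] at c3
  rw [r1, r2, s3] at c1
  rw [r1] at c2
  have cN' := cN bN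
  have cS' := cS bS
  have cx := commute_conj bx g
  have hx3 := mem_normalizer_conj hg.2 hx2
  have ex3 : g * x2 * g⁻¹ * (g * x2 * g⁻¹) = D.v e1 := by rw [conj_sq, ex2, hR, map_add, r1, r2, s3]
  generalize g * y2 * g⁻¹ = y3 at c1 c2 c3 cN' cS' cx
  generalize g * x2 * g⁻¹ = x3 at cx hx3 ex3
  have k : ∀ {w : G}, y * (y2 * w * y2⁻¹) * y⁻¹ = y3 * w * y3⁻¹ ↔ Commute (y3⁻¹ * (y * y2)) w :=
    fun {w} => ⟨fun h => commute_of_conj_eq (by
      calc _ = y3⁻¹ * (y * (y2 * w * y2⁻¹) * y⁻¹) * y3 := by group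
        _ = w := by rw [h]; group), fun h => by
      conv_rhs => rw [← conj_eq_of_commute h]
      group⟩
  have k3 : ∀ u ∈ U, y * (y2 * u * y2⁻¹) * y⁻¹ = y3 * u * y3⁻¹ := fun u hu =>
    k.2 (E.cU a (X.mul_mem (X.inv_mem cN'.1) (X.mul_mem hy.1 bN.1))
      (ExB.ext8 two E.exc.eight i1 (by simp) (fun c d hc hd => by
        rw [D.v_add]; exact hc.mul_right hd) (k.1 (by rw [b1, a1, c1])) (k.1 (by rw [b2, a2, c2]))
        (k.1 (by rw [b3, ad a3 a2, c3, add_assoc]))) hu)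
  obtain ⟨w, hw, ew⟩ := E.root a hU e3
  letI : CommGroup U :=
    { (inferInstance : Group U) with mul_comm := fun p q => Subtype.ext (ExB.comm hI p.2 q.2).eq }
  let ι : F →+ Additive U := AddMonoidHom.mk'
    (fun c => Additive.ofMul ⟨D.v c, hI.V_le (D.v_mem c)⟩) fun c d =>
      Additive.ext (Subtype.ext (D.v_add c d))
  have ii : Function.Injective ι := fun c d h =>
    D.v_inj (congrArg (fun m : Additive U => ((m.toMul : U) : G)) h)
  have ex : ∀ {p q : Additive U}, ((p.toMul : U) : G) = q.toMul → p = q := fun h =>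
    Additive.ext (Subtype.ext h)
  refine ExB.core (ExB.cjA hy.2) (ExB.cjA bN.2) (e1 := ι e1) (e2 := ι b) (e3 := ι e3)
    (w := .ofMul ⟨w, hw⟩) (x1 := .ofMul ⟨x, hx⟩) (x2 := .ofMul ⟨x2, hx2⟩) (x3 := .ofMul ⟨x3, hx3⟩)
    (fun m hm => ?_) (fun h => n1 (ii (h.trans (map_zero ι).symm)))
    (fun h => n2 (ii (h.trans (map_zero ι).symm))) (fun h => n3 (ii h))
    (ex (D.v_sq _)) (ex (D.v_sq _)) (ex a1) (ex a2) (ex (a3.trans (D.v_add _ _))) (ex b1) (ex b2)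
    (ex (b3.trans (D.v_add _ _))) (fun m => ex (aS _ m.toMul.2)) (fun m => ex (bS _ m.toMul.2))
    (fun m => ex ?_) (ex ew) (ex e) (ex (conj_eq_of_commute hc.symm))
    (ex (ex2.trans (D.v_add _ _))) (ex (conj_eq_of_commute bx.symm)) (ex ex3)
    (ex ((k3 _ hx3).trans (conj_eq_of_commute cx.symm)))
  · obtain ⟨c, hc⟩ := ExB.omega hI m.toMul.2
      (congrArg (fun m : Additive U => ((m.toMul : U) : G)) hm)
    obtain rfl : m = ι c := ex hc
    simpa only [← map_add, ← map_zero ι, ii.eq_iff] using ExB.span two E.exc.eight i1 c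
  · refine (k3 _ (mem_normalizer_conj hy.2 (mem_normalizer_conj bN.2 m.toMul.2))).trans ?_
    rw [k3 _ m.toMul.2]
    exact cS' _ m.toMul.2

end ExB

end Cfsg.Lib.SJ1
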