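import Cfsg.Agent.SJ1.ExCb
import Cfsg.Agent.StdSz.Gen

/-! Points in a group of symplectic type of order 64. -/

set_option autoImplicit false
set_option linter.unusedSectionVars false

namespace Cfsg.Lib.SJ1.XC

open Subgroup Cfsg.Lib.Gold Cfsg.Lib.Trans

variable {G : Type*} [Group G] [Finite G] {X A U V U' V' : Subgroup G} {c g u w x y z : G}

theorem fix_of_act (h : E8 V) (hc : c ∈ V) (c1 : c ≠ 1)
    (hg : ∀ v ∈ V, g * v * g⁻¹ = v ∨ g * v * g⁻¹ = v * c) : g * c * g⁻¹ = c :=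
  (hg c hc).resolve_right fun b => c1 (conj_eq_one_iff.1 (b.trans (h.sq c hc)))

theorem Tv.two' (h : E8 V) (t : Tv V y c) (t' : Tv V z c) (hn : y * z ∉ Cs V)
    (hg : ∀ v ∈ V, g * v * g⁻¹ = v ∨ g * v * g⁻¹ = v * c) : ∃ v, In4 y z v ∧ g * v ∈ Cs V := by
  obtain ⟨p, hp, p1, pc, py⟩ := t.exists_a h
  obtain ⟨q, hq, q1, qc, qz⟩ := t'.exists_a h
  have pz : p ∉ C1 z := fun d => hn (t.same h t' hp p1 pc py d)
  have qy : q ∉ C1 y := fun d => hn (t.same h t' hq q1 qc d qz)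
  have zp := (t'.act p hp).resolve_left (mt fx.1 pz)
  have yq := (t.act q hq).resolve_left (mt fx.1 qy)
  have gc := fix_of_act h t.mem t.ne hg
  have yc := fx.2 (t.fix h)
  have zc := fx.2 (t'.fix h)
  have k : ∀ v, g * (v * c * v⁻¹) * g⁻¹ = c → g * (v * p * v⁻¹) * g⁻¹ = p →
      g * (v * q * v⁻¹) * g⁻¹ = q → g * v ∈ Cs V := fun v h1 h2 h3 =>
    cs_of (h.span t.mem hp hq t.ne p1 pc (fun d => qy (d.mem (t.fix h) py))
      (fx.1 (Eq.trans (by group) h1)) (fx.1 (Eq.trans (by group) h2)) (fx.1 (Eq.trans (by group) h3)))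
  have cc : ∀ x, x * c * c = x := fun x => by rw [mul_assoc, h.sq c t.mem, mul_one]
  have e : ∀ x, z * y * x * (z * y)⁻¹ = z * (y * x * y⁻¹) * z⁻¹ := fun x => by group
  rcases hg p hp with d | d <;> rcases hg q hq with d' | d'
  · exact ⟨1, .inl rfl, k 1 (by simpa using gc) (by simpa using d) (by simpa using d')⟩
  · exact ⟨y, .inr (.inl rfl), k y (by rw [yc, gc]) (by rw [fx.2 py, d]) (by
      rw [yq, ← conj_mul, d', gc, cc])⟩
  · exact ⟨z, .inr (.inr (.inl rfl)), k z (by rw [zc, gc]) (by rw [zp, ← conj_mul, d, gc, cc])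
      (by rw [fx.2 qz, d'])⟩
  · exact ⟨z * y, .inr (.inr (.inr rfl)), k _ (by rw [e, yc, zc, gc])
      (by rw [e, fx.2 py, zp, ← conj_mul, d, gc, cc])
      (by rw [e, yq, ← conj_mul (b := z), fx.2 qz, zc, ← conj_mul, d', gc, cc])⟩

theorem zu (u4 : u * u * (u * u) = 1) (u2 : u * u ≠ 1) (hx : x ∈ zpowers u) (x2 : x * x = 1) :
    x = 1 ∨ x = u * u := by
  obtain ⟨k, rfl⟩ := mem_zpowers_iff.1 hx
  obtain ⟨j, rfl | rfl⟩ := Int.even_or_odd' k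
  · exact Tl.mem_zpowers_of_sq u4 ⟨j, by rw [zpow_mul, zpow_two]⟩
  · refine (u2 ?_).elim
    have h4 : u ^ (4 : ℤ) = 1 := by rw [← u4, ← zpow_two, ← zpow_two, ← zpow_mul]; rfl
    rwa [← zpow_add, show 2 * j + 1 + (2 * j + 1) = 4 * j + 2 by ring, zpow_add, zpow_mul, h4,
      one_zpow, one_mul, zpow_two] at x2

/-- An element fixing `u` and not centralising `V` moves some vector by `u ^ 2`. -/
theorem Fr.exists_move (h : Fr X U V) (hu : u ∈ U) (u4 : u * u * (u * u) = 1) (k : ℕ) :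
    ∀ x ∈ X, x ∈ Ns U → u * x = x * u → x ^ 2 ^ k ∈ Cs V → x ∉ Cs V →
      ∃ b ∈ V, x * b * x⁻¹ = b * (u * u) := by
  induction k with
  | zero => exact fun x _ _ _ h1 h2 => (h2 (by simpa using h1)).elim
  | succ k ih =>
    intro x hX hN hc h1 h2
    by_cases h3 : x * x ∈ Cs V
    · exact h.f1 x hX hN h3 h2 u hu hc ((h.mem _).2 ⟨mul_mem hu hu, u4⟩)
    obtain ⟨b, hb, e⟩ := ih (x * x) (mul_mem hX hX) (mul_mem hN hN) (Commute.mul_right hc hc)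
      (by rwa [← sq, ← pow_mul, ← pow_succ']) h3
    have hb' := mem_normalizer_conj (h.nV hN) hb
    refine ⟨_, mul_mem hb hb', ?_⟩
    rw [← conj_mul, show x * (x * b * x⁻¹) * x⁻¹ = x * x * b * (x * x)⁻¹ by group, e, ← mul_assoc,
      h.e8.comm hb' hb]

/-- The ambient configuration. -/
structure Sys (X A U V : Subgroup G) (u : G) : Prop where
  normal : X.Normal
  fr : Fr X U V
  four : ∀ x ∈ U, x * x * (x * x) = 1
  nU : Ns V ≤ Ns U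
  le : A ≤ X
  two : IsPGroup 2 A
  sq : ∀ x ∈ A, x * x = 1 ∨ x * x = u * u
  u_mem : u ∈ A
  u4 : u * u * (u * u) = 1
  u2 : u * u ≠ 1
  max : ∀ g₁ g₂ : G, (∃ y ∈ cj g₂ V, y ∈ Ns (cj g₁ U) ∧ y ∉ cj g₁ U) →
    Nat.card (cj g₁ U ⊓ cj g₂ U : Subgroup G) ≤ 4

/-- A point. -/
structure Pt (X A U V : Subgroup G) (u : G) : Prop where
  fr : Fr X U V
  four : ∀ x ∈ U, x * x * (x * x) = 1
  nU : Ns V ≤ Ns U
  mem : u ∈ U
  le : V ≤ A

namespace Sys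

variable {U₀ V₀ : Subgroup G} (s : Sys X A U₀ V₀ u)
include s

theorem pt {g : G} (h1 : u ∈ cj g U₀) (h2 : cj g V₀ ≤ A) : Pt X A (cj g U₀) (cj g V₀) u where
  fr := s.fr.cj s.normal g
  four := by
    rintro _ ⟨x, hx, rfl⟩
    rw [← map_mul, ← map_mul, s.four x hx, map_one]
  nU := by rw [← cj_Ns, ← cj_Ns]; exact cj_mono g s.nU
  mem := h1
  le := h2

theorem act (hx : x ∈ A) (hy : y ∈ A) : x * y * x⁻¹ = y ∨ x * y * x⁻¹ = y * (u * u) := by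
  have h : ∀ x ∈ A, x * x ∈ zpowers (u * u) := fun x hx => by
    rcases s.sq x hx with e | e <;> rw [e]
    exacts [one_mem _, mem_zpowers _]
  have h1 := StdSz.comm_mem_of_sq h (inv_mem hy) hx
  rcases Tl.mem_zpowers_of_sq s.u4 h1 with e | e
  · refine .inl (Eq.trans ?_ (mul_one y))
    rw [← e, commutatorElement_def]; group
  · exact .inr (by rw [← e, commutatorElement_def]; group)

theorem card_u : Nat.card (zpowers u) = 4 := by
  rw [Nat.card_zpowers]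
  exact orderOf_eq_prime_pow (p := 2) (n := 1) (by simpa [pow_two] using s.u2)
    (by rw [← s.u4, ← pow_two, ← pow_two, ← pow_mul]; rfl)

section

variable (p : Pt X A U V u)
include p

theorem z_mem : u * u ∈ V := (p.fr.mem _).2 ⟨mul_mem p.mem p.mem, s.u4⟩

theorem sq_mem (hx : x ∈ U) : x * x ∈ V := (p.fr.mem _).2 ⟨mul_mem hx hx, p.four x hx⟩

theorem nV : A ≤ Ns V := fun x hx => Comp.mem_Ns_of fun v hv => by
  rcases s.act hx (p.le hv) with e | e <;> rw [e]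
  exacts [hv, mul_mem hv (s.z_mem p)]

theorem nU' : A ≤ Ns U := (s.nV p).trans p.nU

theorem memA (hw : w ∈ U) (h : w * w = 1 ∨ w * w = u * u) : w ∈ A := by
  rcases h with e | e
  · exact p.le ((p.fr.mem _).2 ⟨hw, e⟩)
  · refine (mul_mem_cancel_right s.u_mem).1 (p.le ((p.fr.mem _).2 ⟨mul_mem hw p.mem, ?_⟩))
    rw [Commute.mul_mul_mul_comm (p.fr.comm u p.mem w hw), e, s.u4]

theorem U_le : U ≤ Ns A := fun x hx => Comp.mem_Ns_of fun y hy => by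
  have h1 := mem_normalizer_conj (s.nU' p hy) (inv_mem hx)
  have h2 : x * y * x⁻¹ = x * (y * x⁻¹ * y⁻¹) * y := by group
  rw [h2]
  refine mul_mem (s.memA p (mul_mem hx h1) ?_) hy
  have h3 := s.sq_mem p hx
  rw [Commute.mul_mul_mul_comm (p.fr.comm _ h1 x hx), conj_mul, ← mul_inv_rev,
    inv_eq_of_sq (p.four x hx)]
  refine (s.act hy (p.le h3)).imp (fun e => ?_) fun e => ?_
  · rw [e, p.four x hx]
  · rw [e, ← mul_assoc, p.four x hx, one_mul]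

/-- The involutions of a coset are conjugate. -/
theorem T1 (hy : y ∈ A) (y2 : y * y = 1) (t : Tv V y (u * u)) (hw : w ∈ U)
    (w2 : w * w = 1 ∨ w * w = u * u) (e : y * w * y⁻¹ = w⁻¹) : ∃ x ∈ U, y * x * y⁻¹ = x * w := by
  have h8 := p.fr.e8
  have yN := s.nU' p hy
  have cU : ∀ x ∈ U, y * x * y⁻¹ ∈ U := fun x => mem_normalizer_conj yN
  have mul : ∀ a b, a ∈ U → (∃ x ∈ U, y * x * y⁻¹ = x * a) → (∃ x ∈ U, y * x * y⁻¹ = x * b) →
      ∃ x ∈ U, y * x * y⁻¹ = x * (a * b) := by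
    rintro a b ha ⟨x, hx, e1⟩ ⟨x', hx', e2⟩
    exact ⟨_, mul_mem hx hx', by
      rw [← conj_mul, e1, e2, Commute.mul_mul_mul_comm (p.fr.comm a ha x' hx')]⟩
  have sqr : ∀ x ∈ U, x⁻¹ * (y * x * y⁻¹) * (x⁻¹ * (y * x * y⁻¹)) =
      x * x * (y * (x * x) * y⁻¹) := fun x hx => by
    rw [Commute.mul_mul_mul_comm (p.fr.comm _ (cU x hx) _ (inv_mem hx)), conj_mul, ← mul_inv_rev,
      inv_eq_of_sq (p.four x hx)]
  have inv : ∀ x ∈ U, y * (x⁻¹ * (y * x * y⁻¹)) * y⁻¹ = (x⁻¹ * (y * x * y⁻¹))⁻¹ := fun x hx => by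
    calc y * (x⁻¹ * (y * x * y⁻¹)) * y⁻¹ = (y * x * y⁻¹)⁻¹ * (y * y * x * (y * y)⁻¹) := by group
      _ = _ := by rw [y2]; group
  obtain ⟨v, hv, ev⟩ := t.ex
  have hz : ∃ x ∈ U, y * x * y⁻¹ = x * (u * u) := ⟨v, p.fr.VU hv, ev⟩
  have one : ∃ x ∈ U, y * x * y⁻¹ = x * 1 := ⟨1, one_mem _, by simp⟩
  have k1 : ∀ w ∈ U, w * w = 1 → y * w * y⁻¹ = w⁻¹ → ∃ x ∈ U, y * x * y⁻¹ = x * w := by
    intro w hw w2 e
    obtain ⟨a, ha, a1, ac, ay⟩ := t.exists_a h8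
    obtain ⟨x, hx, rfl⟩ := p.fr.root a ha
    have f : ∀ x' ∈ U, x' * x' = x * x → y * x' * y⁻¹ ≠ x' := fun x' hx' e1 e2 =>
      (p.fr.f1' (s.le hy) yN (y2 ▸ one_mem _) t hx' (mem_C1.1 (fx.1 e2)) (p.four x' hx')).elim
        (fun d => a1 (e1 ▸ d)) fun d => ac (e1 ▸ d)
    have b2 := sqr x hx
    rw [fx.2 ay, p.four x hx] at b2
    have bU := mul_mem (inv_mem hx) (cU x hx)
    have bV := (p.fr.mem _).2 ⟨bU, b2⟩
    have hb : ∃ x' ∈ U, y * x' * y⁻¹ = x' * (x⁻¹ * (y * x * y⁻¹)) := ⟨x, hx, by group⟩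
    rcases t.in4 h8 bV (fun d => f x hx rfl (inv_mul_eq_one.1 d).symm) (fun d => f (x * v)
      (mul_mem hx (p.fr.VU hv)) (by
        rw [Commute.mul_mul_mul_comm (p.fr.comm v (p.fr.VU hv) x hx), h8.sq v hv, mul_one]) (by
        rw [← conj_mul, ev, inv_mul_eq_iff_eq_mul.1 d, h8.comm hv t.mem, mul_assoc,
          ← mul_assoc (u * u), s.u4, one_mul])) (fx.1 (by rw [inv x hx, inv_eq_of_sq b2]))
      ((p.fr.mem _).2 ⟨hw, w2⟩) (fx.1 (by rw [e, inv_eq_of_sq w2])) with d | d | d | d <;> rw [d]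
    exacts [one, hz, hb, mul _ _ bU hb hz]
  rcases w2 with w2 | w2
  · exact k1 w hw w2 e
  obtain ⟨x, hx, rfl⟩ := p.fr.root v hv
  have b2 := sqr x hx
  rw [ev, ← mul_assoc (x * x), p.four x hx, one_mul] at b2
  have bU := mul_mem (inv_mem hx) (cU x hx)
  have := mul _ _ bU ⟨x, hx, by group⟩ (k1 _ (mul_mem (inv_mem bU) hw) (by
    rw [Commute.mul_mul_mul_comm (p.fr.comm w hw _ (inv_mem bU)), ← mul_inv_rev, b2, w2,
      inv_mul_cancel]) (by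
    rw [← conj_mul, e, ← conj_inv, inv x hx, mul_inv_rev _ w, inv_inv,
      p.fr.comm _ bU _ (inv_mem hw)]))
  rwa [mul_inv_cancel_left] at this

variable (p' : Pt X A U' V' u) (h : U ⊓ U' ≤ zpowers u)
include p' h

theorem cases (hy : y ∈ V') (hU : y ∈ U) : y = 1 ∨ y = u * u :=
  zu s.u4 s.u2 (h ⟨hU, p'.fr.VU hy⟩) (p'.fr.e8.sq y hy)

theorem cases' (hy : y ∈ A) (hc : y ∈ Cs V) : y ∈ U := p.fr.c2 y (s.le hy) (.of_mem s.two hy) hc

theorem tv (hy : y ∈ V') (hU : y ∉ U) : Tv V y (u * u) := by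
  refine ⟨s.z_mem p, s.u2, fun v hv => s.act (p'.le hy) (p.le hv), by_contra fun c => hU ?_⟩
  exact s.cases' p p' h (p'.le hy) (cs_of fun v hv => fx.1 ((s.act (p'.le hy) (p.le hv)).resolve_right
    fun e => c ⟨v, hv, e⟩))

theorem cover (hg : ∀ v ∈ V, g * v * g⁻¹ = v ∨ g * v * g⁻¹ = v * (u * u)) :
    ∃ y ∈ V', g * y ∈ Cs V := by
  obtain ⟨y, hy, n1⟩ := p'.fr.e8.exists_not (u * u) 1
  obtain ⟨y', hy', n2⟩ := p'.fr.e8.exists_not (u * u) y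
  simp only [In4, not_or] at n1 n2
  obtain ⟨v, hv, e⟩ := (s.tv p p' h hy fun c => (s.cases p p' h hy c).elim n1.1 n1.2.1).two' p.fr.e8
    (s.tv p p' h hy' fun c => (s.cases p p' h hy' c).elim n2.1 n2.2.1) (fun c => by
      rcases s.cases p p' h (mul_mem hy hy') (s.cases' p p' h (p'.le (mul_mem hy hy')) c) with d | d
      · exact n2.2.2.1 (by rw [eq_inv_of_mul_eq_one_right d, inv_eq_of_sq (p'.fr.e8.sq y hy)])
      · exact n2.2.2.2 (by rw [← d, ← mul_assoc, p'.fr.e8.sq y hy, one_mul])) hg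
  exact ⟨v, hv.mem hy hy', e⟩

theorem coverA (hx : x ∈ A) : ∃ y ∈ V', x * y ∈ U := by
  obtain ⟨y, hy, e⟩ := s.cover p p' h fun v hv => s.act hx (p.le hv)
  exact ⟨y, hy, s.cases' p p' h (mul_mem hx (p'.le hy)) e⟩

theorem cent (hx : x ∈ U) (hc : x ∈ Cs V') : x ∈ zpowers u :=
  h ⟨hx, p'.fr.c2 x (p.fr.le hx) (.of_mem p.fr.two hx) hc⟩

theorem norm (hx : x ∈ U) (hn : x ∈ Ns V') : x ∈ A := by
  refine s.memA p hx (zu s.u4 s.u2 (s.cent p p' h (mul_mem hx hx) (cs_of fun y hy => mem_C1.2 ?_))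
    (p.four x hx))
  have h1 := mem_normalizer_conj (s.nU' p (p'.le hy)) (inv_mem hx)
  have h2 := p'.fr.e8.sq _ (mul_mem (mem_normalizer_conj hn hy) (inv_mem hy))
  rw [show x * y * x⁻¹ * y⁻¹ = x * (y * x⁻¹ * y⁻¹) by group,
    Commute.mul_mul_mul_comm (p.fr.comm _ h1 x hx), conj_mul, ← mul_inv_rev] at h2
  calc y * (x * x) = x * x * (y * (x * x)⁻¹ * y⁻¹) * (y * (x * x)) := by rw [h2, one_mul]
    _ = _ := by group

theorem move (hy : y ∈ A) (y2 : y * y = 1) (t : Tv V y (u * u)) : ∃ x ∈ U, x * y * x⁻¹ ∈ V' := by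
  obtain ⟨y', hy', e⟩ := s.coverA p p' h hy
  obtain ⟨x, hx, e'⟩ := s.T1 p hy y2 t e (s.sq _ (mul_mem hy (p'.le hy'))) (by
    rw [← mul_assoc, y2, one_mul, mul_inv_rev, inv_eq_of_sq (p'.fr.e8.sq y' hy')])
  refine ⟨x, hx, ?_⟩
  have : x * y * x⁻¹ = y * (y * x * y⁻¹) * x⁻¹ := by
    rw [← mul_assoc, ← mul_assoc, y2, one_mul, inv_eq_of_sq y2]
  rwa [this, e', p.fr.comm x hx _ e, ← mul_assoc, mul_inv_cancel_right, ← mul_assoc, y2, one_mul]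

end

theorem inf_le {g g' : G} (h1 : u ∈ cj g U₀) (h2 : cj g V₀ ≤ A) (h1' : u ∈ cj g' U₀)
    (h2' : cj g' V₀ ≤ A) (hn : cj g' V₀ ≠ cj g V₀) : cj g U₀ ⊓ cj g' U₀ ≤ zpowers u := by
  have p := s.pt h1 h2
  have p' := s.pt h1' h2'
  obtain ⟨y, hy, ny⟩ := SetLike.not_le_iff_exists.1 fun c =>
    hn (eq_of_le_of_card_ge c (by rw [card_cj, card_cj]))
  exact (eq_of_le_of_card_ge (zpowers_le.2 (mem_inf.2 ⟨h1, h1'⟩)) ((s.max g g' ⟨y, hy,
    s.nU' p (h2' hy), fun c => ny ((p.fr.mem y).2 ⟨c, p'.fr.e8.sq y hy⟩)⟩).trans s.card_u.ge)).ge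

theorem conj_pt {g x : G} (h1 : u ∈ cj g U₀) (h2 : cj g V₀ ≤ A) (hx : x ∈ Ns A)
    (hu : x * u * x⁻¹ = u) : u ∈ cj (x * g) U₀ ∧ cj (x * g) V₀ ≤ A := by
  rw [cj_mul, cj_mul]
  exact ⟨hu ▸ conj_mem_cj.2 h1, (cj_mono x h2).trans (mem_Ns_iff.1 hx).le⟩

/-- `U` is transitive on the points other than `V`. -/
theorem trans {g g' g'' : G} (h1 : u ∈ cj g U₀) (h2 : cj g V₀ ≤ A) (h1' : u ∈ cj g' U₀)
    (h2' : cj g' V₀ ≤ A) (h1'' : u ∈ cj g'' U₀) (h2'' : cj g'' V₀ ≤ A) (n' : cj g' V₀ ≠ cj g V₀)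
    (n'' : cj g'' V₀ ≠ cj g V₀) : ∃ x ∈ cj g U₀, cj x (cj g' V₀) = cj g'' V₀ := by
  have p := s.pt h1 h2
  have p' := s.pt h1' h2'
  have p'' := s.pt h1'' h2''
  have i' := s.inf_le h1 h2 h1' h2' n'
  obtain ⟨y, hy, n1⟩ := p'.fr.e8.exists_not (u * u) 1
  simp only [In4, not_or] at n1
  have yU : y ∉ cj g U₀ := fun c => (s.cases p p' i' hy c).elim n1.1 n1.2.1
  obtain ⟨x, hx, e⟩ := s.move p p'' (s.inf_le h1 h2 h1'' h2'' n'') (h2' hy) (p'.fr.e8.sq y hy)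
    (s.tv p p' i' hy yU)
  refine ⟨x, hx, by_contra fun c => yU ?_⟩
  obtain ⟨k1, k2⟩ := s.conj_pt h1' h2' (s.U_le p hx) (Comp.conj_eq_of_comm (p.fr.comm x hx u h1))
  rw [← cj_mul] at c
  have : x * y * x⁻¹ ∈ cj g U₀ := zpowers_le.2 h1 (s.inf_le h1'' h2'' k1 k2 c
    ⟨p''.fr.VU e, by rw [cj_mul]; exact conj_mem_cj.2 (p'.fr.VU hy)⟩)
  simpa [mul_assoc] using mul_mem (mul_mem (inv_mem hx) this) hx

end Sys

end Cfsg.Lib.SJ1.XC
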