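import Cfsg.Agent.SJ1.ExDa
import Cfsg.Agent.SJ1.ExA
import Cfsg.Agent.SJ1.ExC

/-! Two conjugates of `U` meeting in a cyclic group of order four: the group `A`. -/

set_option autoImplicit false
set_option linter.unusedSectionVars false

namespace Cfsg.Lib.SJ1

open Subgroup Cfsg.Lib.Gold Cfsg.Lib.Trans XC

variable {G : Type*} [Group G] [Finite G] {F : Type*} [Field F] [Finite F]

theorem mem_of_sq {H : Subgroup G} {x : G} (ho : Odd (orderOf x)) (h : x * x ∈ H) : x ∈ H := by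
  obtain ⟨k, hk⟩ := ho
  have := pow_mem h (k + 1)
  rwa [← pow_two, ← pow_mul, show 2 * (k + 1) = orderOf x + 1 by omega, pow_succ,
    pow_orderOf_eq_one, one_mul] at this

namespace XC.Sys

variable {X A U V U' V' U₀ V₀ R : Subgroup G} {u y r r' : G} (s : Sys X A U₀ V₀ u)
  (p : Pt X A U V u) (p' : Pt X A U' V' u) (h : U ⊓ U' ≤ zpowers u)
include s p p' h

theorem sq_fix (hy : y ∈ V') (r2 : r * r = 1) (e : y * r ∈ U) : y * r * (y * r) ∈ C1 y := by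
  have y2 := p'.fr.e8.sq y hy
  have h1 : y * (y * r) * y⁻¹ = (y * r)⁻¹ := by
    rw [← mul_assoc, y2, one_mul, mul_inv_rev, inv_eq_of_sq r2]
  exact fx.1 (by rw [← conj_mul, h1, ← mul_inv_rev, inv_eq_of_sq (p.four _ e)])

theorem prop (hR : ∀ r ∈ R, r * r = 1) (hc : ∀ r ∈ R, ∃ y ∈ V', y * r ∈ U) (hy : y ∈ V')
    (yU : y ∉ U) (hr : r ∈ R) (e : y * r ∈ U) (e2 : y * r * (y * r) = 1 ∨ y * r * (y * r) = u * u) :
    R ≤ A := fun r' hr' => by
  have rA : r ∈ A := (mul_mem_cancel_left (p'.le hy)).1 (s.memA p e e2)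
  have cU : ∀ y ∈ V', ∀ x ∈ U, y * x * y⁻¹ ∈ U := fun y hy x =>
    mem_normalizer_conj (s.nU' p (p'.le hy))
  obtain ⟨y', hy', e'⟩ := hc r' hr'
  by_cases c1 : y' ∈ U
  · exact p.le ((p.fr.mem _).2 ⟨(mul_mem_cancel_left c1).1 e', hR _ hr'⟩)
  have e3 : y * y' * (r' * r) = y * (y' * r') * y⁻¹ * (y * r) := by group
  have e4 : y * y' * (r' * r) ∈ U := e3 ▸ mul_mem (cU y hy _ e') e
  by_cases c2 : y * y' ∈ U
  · exact (mul_mem_cancel_right rA).1 (p.le ((p.fr.mem _).2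
      ⟨(mul_mem_cancel_left c2).1 e4, hR _ (mul_mem hr' hr)⟩))
  refine (mul_mem_cancel_left (p'.le hy')).1 (s.memA p e' ?_)
  have k1 := s.sq_fix p p' h (mul_mem hy hy') (hR _ (mul_mem hr' hr)) e4
  have k2 := s.sq_fix p p' h hy' (hR _ hr') e'
  have hz : u * u ∈ C1 (y * y') := mem_C1.2 (p'.fr.e8.comm (s.z_mem p') (mul_mem hy hy'))
  rw [e3, Commute.mul_mul_mul_comm (p.fr.comm _ e _ (cU y hy _ e')), conj_mul,
    mul_mem_cancel_right (by rcases e2 with d | d <;> rw [d]; exacts [one_mem _, hz])] at k1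
  have k3 : y' * r' * (y' * r') ∈ C1 (y * y') := by
    rcases s.act (p'.le hy) (p.le (s.sq_mem p e')) with d | d <;> rw [d] at k1
    exacts [k1, (mul_mem_cancel_right hz).1 k1]
  have k4 : y' * r' * (y' * r') ∈ C1 y := mem_C1.2 (by
    have := Commute.mul_right (mem_C1.1 k3) (Commute.inv_right (mem_C1.1 k2))
    rwa [mul_inv_cancel_right] at this)
  by_contra! c
  exact c2 (s.cases' p p' h (p'.le (mul_mem hy hy')) ((s.tv p p' h hy yU).same p.fr.e8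
    (s.tv p p' h hy' c1) (s.sq_mem p e') c.1 c.2 k4 k2))

theorem tri (hy : y ∈ V') (yU : y ∉ U) (r2 : r * r = 1) (r2' : r' * r' = 1) (e : y * r ∈ U)
    (e' : y * r' ∈ U) : (y * r * (y * r) = 1 ∨ y * r * (y * r) = u * u) ∨
      (y * r' * (y * r') = 1 ∨ y * r' * (y * r') = u * u) ∨
      (r * r' ∈ U ∧ (r * r' * (r * r') = 1 ∨ r * r' * (r * r') = u * u)) := by
  refine or_iff_not_imp_left.2 fun c => ?_
  rw [not_or] at c
  have e1 : r * r' = (y * r)⁻¹ * (y * r') := by rw [mul_inv_rev, inv_eq_of_sq r2]; group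
  have e2 : r * r' * (r * r') = y * r * (y * r) * (y * r' * (y * r')) := by
    rw [e1, Commute.mul_mul_mul_comm (p.fr.comm _ e' _ (inv_mem e)), ← mul_inv_rev,
      inv_eq_of_sq (p.four _ e)]
  have e3 : r * r' ∈ U := e1 ▸ mul_mem (inv_mem e) e'
  rcases (s.tv p p' h hy yU).in4 p.fr.e8 (s.sq_mem p e) c.1 c.2 (s.sq_fix p p' h hy r2 e)
    (s.sq_mem p e') (s.sq_fix p p' h hy r2' e') with d | d | d | d
  · exact .inl (.inl d)
  · exact .inl (.inr d)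
  · exact .inr ⟨e3, .inl (by rw [e2, d, p.four _ e])⟩
  · exact .inr ⟨e3, .inr (by rw [e2, d, ← mul_assoc, p.four _ e, one_mul])⟩

end XC.Sys

theorem Mod.mem_CsV (M : Mod G F) {g : G} : g ∈ Cs M.V ↔ ∀ b, Commute g (M.v b) := by
  rw [StdSz.mem_Cs]
  exact ⟨fun h b => h _ (M.v_mem b), by rintro h _ ⟨b, rfl⟩; exact h b⟩

theorem Exc.B_le {D : Dat G F} {U : Subgroup G} (h : Exc D U) : D.B ≤ D.NU U := fun g hg => by
  rw [mem_Ns_iff, cj_sup, cj_zpowers, mem_Ns_iff.1 (h.inv.B_le hg),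
    StdSz.conj_eq_of_commute (D.mem_B.1 hg).1]

namespace Ex2

variable {D : Dat G F} {U X A : Subgroup G} (E : Ex2 D X U)

theorem u2 : E.u * E.u ≠ 1 := fun h => E.c_ne (D.v_eq_one.1 (E.u_sq.symm.trans h))

theorem u4 : E.u * E.u * (E.u * E.u) = 1 := by rw [E.u_sq, D.v_sq]

include E in
theorem hU : U ≠ D.V := fun h => E.u2 (D.V_sq (h ▸ E.u_mem))

theorem u_mem' : E.u ∈ cj E.g U := (E.inf.ge (mem_zpowers _)).2

include E in
theorem four' {x : G} (hx : x ∈ U) : x * x * (x * x) = 1 := by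
  rw [← E.four x hx, ← pow_two, ← pow_two, ← pow_mul]

/-- The elements of `U` with square in `⟨z⟩`. -/
def A0 : Subgroup G where
  carrier := {w | w ∈ U ∧ (w * w = 1 ∨ w * w = E.u * E.u)}
  one_mem' := ⟨one_mem _, .inl (mul_one 1)⟩
  mul_mem' := by
    rintro x y ⟨hx, h1⟩ ⟨hy, h2⟩
    refine ⟨mul_mem hx hy, ?_⟩
    rw [(E.exc.comm hy hx).mul_mul_mul_comm]
    rcases h1 with e | e <;> rcases h2 with e' | e' <;> simp [e, e', E.u4]
  inv_mem' := by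
    rintro x ⟨hx, h1⟩
    exact ⟨inv_mem hx, by rwa [← mul_inv_rev, inv_eq_of_sq (E.four' hx)]⟩

/-- The group `V V₂ ⟨u⟩`. -/
def AA : Subgroup G := E.A0 ⊔ cj E.g D.V

theorem comm_u {y : G} (hy : y ∈ cj E.g D.V) : Commute y E.u := by
  obtain ⟨y, hy, rfl⟩ := hy
  obtain ⟨w, hw, e⟩ := E.u_mem'
  rw [← e]
  exact (E.exc.comm (E.exc.inv.V_le hy) hw).map _

theorem act_V {y w : G} (hy : y ∈ cj E.g D.V) (hw : w ∈ D.V) :
    y * w * y⁻¹ = w ∨ y * w * y⁻¹ = w * (E.u * E.u) := by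
  obtain ⟨b, rfl⟩ := hw
  rw [E.u_sq, ← D.v_add]
  exact E.cen y hy b

theorem act_A0 {y w : G} (hy : y ∈ cj E.g D.V) (hw : w ∈ E.A0) :
    y * w * y⁻¹ = w ∨ y * w * y⁻¹ = w * (E.u * E.u) := by
  rcases hw.2 with e | e
  · exact E.act_V hy (E.exc.omega hw.1 e)
  have := E.act_V hy (E.exc.omega (mul_mem hw.1 E.u_mem)
    (by rw [(E.exc.comm E.u_mem hw.1).mul_mul_mul_comm, e, E.u4]))
  rw [← conj_mul, StdSz.conj_eq_of_commute (E.comm_u hy), mul_left_inj, mul_assoc w,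
    ← mul_assoc E.u, ← mul_assoc w, mul_left_inj] at this
  exact this

theorem u_A0 : E.u ∈ E.A0 := ⟨E.u_mem, .inr rfl⟩

theorem V2_N : cj E.g D.V ≤ Ns E.A0 := fun y hy => Comp.mem_Ns_of fun w hw => by
  rcases E.act_A0 hy hw with e | e <;> rw [e]
  exacts [hw, mul_mem hw (mul_mem E.u_A0 E.u_A0)]

theorem AA_le : E.AA ≤ E.S := sup_le (fun _ h => E.le_S (mem_sup_left h.1)) E.V_le

variable (a : Amb D.toMod X A)
include a

theorem sys : Sys X E.AA U D.V E.u where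
  normal := a.normal
  fr := E.fr a E.hU
  four _ := E.four'
  nU g hg := by
    obtain ⟨O₁, -, h2, -, -, h3⟩ := E.cV a E.hU
    obtain ⟨n, hn, o, ho, rfl⟩ := h3 g hg
    exact mul_mem (E.exc.N_U hn.1) (Cs_le_Ns (h2 ho))
  le := sup_le (fun _ h => E.U_X h.1)
    (cj_le_iff.2 fun v hv => a.normal.conj_mem v (a.V_le hv) _)
  two := E.S.2.to_le E.AA_le
  sq x hx := by
    have : x ∈ ((E.A0 ⊔ cj E.g D.V : Subgroup G) : Set G) := hx
    rw [coe_mul_of_right_le_normalizer_left _ _ E.V2_N, Set.mem_mul] at this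
    obtain ⟨w, hw, y, hy, rfl⟩ := this
    have y2 := ((E.fr a E.hU).cj a.normal E.g).e8.sq y hy
    rw [show w * y * (w * y) = w * (y * w * y⁻¹) * (y * y) by group, y2, mul_one]
    rcases E.act_A0 hy hw with e | e <;> rw [e]
    · exact hw.2
    · rw [← mul_assoc]
      rcases hw.2 with d | d <;> simp [d, E.u4]
  u_mem := mem_sup_left E.u_A0
  u4 := E.u4
  u2 := E.u2
  max := E.max

theorem V_AA : cj 1 D.V ≤ E.AA := by
  rw [cj_one]
  exact fun v hv => mem_sup_left ⟨E.exc.inv.V_le hv, .inl (D.V_sq hv)⟩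

omit a in
theorem u_one : E.u ∈ cj 1 U := by rw [cj_one]; exact E.u_mem

theorem p0 : Pt X E.AA U D.V E.u := by
  have := (E.sys a).pt E.u_one (E.V_AA a)
  rwa [cj_one, cj_one] at this

theorem p2 : Pt X E.AA (cj E.g U) (cj E.g D.V) E.u := (E.sys a).pt E.u_mem' le_sup_right

theorem ne : cj E.g D.V ≠ cj 1 D.V := fun h => by
  rw [cj_one] at h
  have := Trans.card_le_of_le ((le_inf (E.p0 a).fr.VU (h.ge.trans (E.p2 a).fr.VU)).trans E.inf.le)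
  rw [(E.sys a).card_u, (E.p0 a).fr.card] at this
  omega

theorem memP {g : G} (h1 : g ∈ D.NU U ⊓ Cs D.O) (hX : g ∈ X) (h2 : Comp.Tw g)
    (h3 : ∀ v ∈ D.V, g * v * g⁻¹ = v ∨ g * v * g⁻¹ = v * (E.u * E.u)) :
    ∃ y ∈ cj E.g D.V, g * y ∈ U := by
  obtain ⟨y, hy, e⟩ := (E.sys a).cover (E.p0 a) (E.p2 a) E.inf.le h3
  have yS := E.S_le (E.V_le hy)
  refine ⟨y, hy, ?_⟩
  obtain ⟨x, hx, o, ho, d | d⟩ := E.exc.cV _ (mul_mem h1.1 yS.1) (D.mem_CsV.1 e)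
  · have xS : x * y⁻¹ ∈ (E.S : Subgroup G) :=
      mul_mem (E.le_S (mem_sup_left hx)) (inv_mem (E.V_le hy))
    have c1 : Commute (x * y⁻¹) o := StdSz.mem_Cs.1 (E.S_le xS).2 o ho
    have c2 : g = x * y⁻¹ * o := by
      rw [mul_assoc, (StdSz.mem_Cs.1 (inv_mem yS.2) o ho).eq, ← mul_assoc, ← d, mul_inv_cancel_right]
    obtain ⟨k, hk⟩ := h2
    obtain ⟨j, hj⟩ := Comp.Tw.of_mem E.S.2 xS
    rw [d, StdU3.eq_one_of_odd_pow (odd_orderOf_of_mem ho D.O_odd) (k := k + j) (by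
      have := congrArg (· ^ 2 ^ j) hk
      simp only [← pow_mul, one_pow] at this
      rwa [c2, c1.mul_pow, mul_comm (2 ^ k), pow_mul (x * y⁻¹), hj, one_pow,
        one_mul, mul_comm, ← pow_add] at this), mul_one]
    exact hx
  · refine (E.t_X ((mul_mem_cancel_right (mul_mem (E.U_X hx)
      (a.odd_mem (odd_orderOf_of_mem ho D.O_odd)))).1 (d ▸ mul_mem hX ?_))).elim
    exact (E.sys a).le (mem_sup_right hy)

omit a in
/-- The stabiliser of `z` in `B ∩ C(O)`. -/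
def H0 : Subgroup G := D.B ⊓ Cs D.O ⊓ C1 (E.u * E.u)

theorem conjP {h y : G} (hh : h ∈ E.H0) (hy : y ∈ cj E.g D.V) :
    ∃ y' ∈ cj E.g D.V, h * y * h⁻¹ * y' ∈ U := by
  have h1 : h ∈ D.NU U ⊓ Cs D.O := ⟨E.exc.B_le hh.1.1, hh.1.2⟩
  refine E.memP a (mul_mem (mul_mem h1 (E.S_le (E.V_le hy))) (inv_mem h1))
    (a.normal.conj_mem _ ((E.sys a).le (mem_sup_right hy)) _)
    ((Comp.Tw.of_sq ((E.p2 a).fr.e8.sq y hy)).conj h) fun v hv => ?_
  obtain ⟨v, rfl⟩ := conj_surj h v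
  have hv' : v ∈ D.V := by simpa [mul_assoc] using mem_normalizer_conj' hh.1.1.2 hv
  rw [show h * y * h⁻¹ * (h * v * h⁻¹) * (h * y * h⁻¹)⁻¹ = h * (y * v * y⁻¹) * h⁻¹ by group]
  refine (E.act_V hy hv').imp (fun e => by rw [e]) fun e => ?_
  rw [e, ← conj_mul, Comp.conj_eq_of_comm (mem_C1.1 hh.2)]

theorem conjP' {h r : G} (hh : h ∈ E.H0) (hr : r ∈ cj h (cj E.g D.V)) :
    ∃ y ∈ cj E.g D.V, y * r ∈ U := by
  obtain ⟨y, hy, e⟩ := E.conjP a hh (mem_cj.1 hr)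
  refine ⟨y, hy, ?_⟩
  simpa [mul_assoc] using mem_normalizer_conj (E.exc.N_U (E.S_le (E.V_le hy)).1) e

theorem conjP'' {h y : G} (hh : h ∈ E.H0) (hy : y ∈ cj E.g D.V) :
    ∃ r ∈ cj h (cj E.g D.V), y * r ∈ U := by
  obtain ⟨y', hy', e⟩ := E.conjP a (inv_mem hh) hy
  refine ⟨_, conj_mem_cj.2 hy', ?_⟩
  simpa [mul_assoc] using mem_normalizer_conj (E.exc.inv.B_le hh.1.1) e

theorem fix_u {h : G} (hh : h ∈ E.H0) (ho : Odd (orderOf h)) : h * E.u * h⁻¹ = E.u := by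
  have hz := Comp.conj_eq_of_comm (mem_C1.1 hh.2)
  have h1 : h * E.u * h⁻¹ ∈ zpowers E.u := (E.sys a).cent (E.p0 a) (E.p2 a) E.inf.le
    (mem_normalizer_conj (E.exc.inv.B_le hh.1.1) E.u_mem) (StdSz.mem_Cs.2 fun y hy => by
      obtain ⟨y', hy', e⟩ := E.conjP a (inv_mem hh) hy
      have := StdSz.commute_conj ((E.exc.comm E.u_mem e).mul_right (E.comm_u hy').symm.inv_right) h
      simpa [mul_assoc] using this)
  have h2 := zu E.u4 E.u2 (mul_mem (inv_mem (mem_zpowers E.u)) h1) (by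
    rw [Commute.mul_mul_mul_comm (E.exc.comm (zpowers_le.2 E.u_mem h1) (inv_mem E.u_mem)),
      conj_mul, hz, ← mul_inv_rev, inv_mul_cancel])
  rw [inv_mul_eq_one, inv_mul_eq_iff_eq_mul] at h2
  refine Comp.conj_eq_of_comm (mem_C1.1 (mem_of_sq ho (mem_C1.2 (Comp.comm_of_conj_eq ?_))))
  rw [show h * h * E.u * (h * h)⁻¹ = h * (h * E.u * h⁻¹) * h⁻¹ by group]
  rcases h2 with e | e
  · rw [← e, ← e]
  · rw [e, ← conj_mul, e, hz, mul_assoc, E.u4, mul_one]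

omit a in
theorem Ns_of_le {h : G} (hh : h ∈ E.H0) (e : cj h (cj E.g D.V) ≤ E.AA) : h ∈ Ns E.AA := by
  refine mem_normalizer_of_cj_le ?_
  rw [AA, cj_sup]
  refine sup_le (cj_le_iff.2 fun w hw => mem_sup_left
    ⟨mem_normalizer_conj (E.exc.inv.B_le hh.1.1) hw.1, ?_⟩) e
  rw [conj_mul]
  refine hw.2.imp (fun d => by simp [d]) fun d => ?_
  rw [d, Comp.conj_eq_of_comm (mem_C1.1 hh.2)]

theorem Ns_AA {h : G} (hh : h ∈ E.H0) (ho : Odd (orderOf h)) : h ∈ Ns E.AA := by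
  have s := E.sys a
  have sq : ∀ k : G, ∀ r ∈ cj k (cj E.g D.V), r * r = 1 := fun k =>
    ((E.p2 a).fr.cj a.normal k).e8.sq
  have k : ∀ k ∈ E.H0, ∀ y ∈ cj E.g D.V, y ∉ U → ∀ r ∈ cj k (cj E.g D.V), y * r ∈ U →
      (y * r * (y * r) = 1 ∨ y * r * (y * r) = E.u * E.u) → k ∈ Ns E.AA :=
    fun k hk y hy yU r hr e e2 => E.Ns_of_le hk (s.prop (E.p0 a) (E.p2 a) E.inf.le (sq k)
      (fun r => E.conjP' a hk) hy yU hr e e2)
  obtain ⟨y, hy, n1⟩ := (E.p2 a).fr.e8.exists_not (E.u * E.u) 1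
  simp only [In4, not_or] at n1
  have yU : y ∉ U := fun c => (s.cases (E.p0 a) (E.p2 a) E.inf.le hy c).elim n1.1 n1.2.1
  obtain ⟨r, hr, e⟩ := E.conjP'' a hh hy
  obtain ⟨r', hr', e'⟩ := E.conjP'' a (mul_mem hh hh) hy
  rcases s.tri (E.p0 a) (E.p2 a) E.inf.le hy yU (sq _ r hr) (sq _ r' hr') e e' with c | c | ⟨c, d⟩
  · exact k h hh y hy yU r hr e c
  · exact mem_of_sq ho (k _ (mul_mem hh hh) y hy yU r' hr' e' c)
  have hN := E.exc.inv.B_le hh.1.1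
  rw [cj_mul] at hr'
  have e1 : h⁻¹ * r * h * (h⁻¹ * r' * h) = h⁻¹ * (r * r') * h := by group
  refine k h hh _ (mem_cj.1 hr) (fun c => yU ((mul_mem_cancel_right ?_).1 e)) _ (mem_cj.1 hr')
    (e1 ▸ mem_normalizer_conj' hN c) ?_
  · simpa [mul_assoc] using mem_normalizer_conj hN c
  · rw [e1, show h⁻¹ * (r * r') * h * (h⁻¹ * (r * r') * h) = h⁻¹ * (r * r' * (r * r')) * h by group]
    refine d.imp (fun d => by simp [d]) fun d => ?_
    rw [d, mul_assoc, ← mem_C1.1 hh.2, inv_mul_cancel_left]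

end Ex2

end Cfsg.Lib.SJ1
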