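import Cfsg.Agent.SJ1.Base
import Cfsg.Agent.SJ1.Aff
import Cfsg.Agent.StdU3.InvA

/-!
# Standard subgroups of type `L₂(2ᵃ)`: the tower above `⟨t⟩ V`, first step
-/

set_option autoImplicit false
set_option linter.unusedSectionVars false

namespace Cfsg.Lib.SJ1.Tow

open Subgroup Cfsg.Lib.Gold Cfsg.Lib.Trans Cfsg.Lib.StdSz
open scoped commutatorElement

variable {G : Type*} [Group G] [Finite G] {F : Type*} [Field F] [Finite F]

section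
variable (M : Mod G F)

theorem cjV {x v : G} (hc : ∀ b, Commute x (M.v b)) (hv : v ∈ M.V) : x * v * x⁻¹ = v := by
  obtain ⟨b, rfl⟩ := hv; exact conj_eq_of_commute (hc b)

theorem γ0 {v : G} (hv : v ∈ M.V) (h : M.γ v = 0) : v = 1 := by rw [← M.v_γ hv, h, M.v_zero]

theorem γcl {x x' y : G} (hc : ∀ b, Commute x (M.v b)) (h : ⁅x, y⁆ ∈ M.V)
    (h' : ⁅x', y⁆ ∈ M.V) : M.γ ⁅x * x', y⁆ = M.γ ⁅x, y⁆ + M.γ ⁅x', y⁆ := by
  rw [comm_mul_left, cjV M hc h', M.γ_add _ h' _ h, add_comm]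

theorem γcr {x y y' : G} (hc : ∀ b, Commute y (M.v b)) (h : ⁅x, y⁆ ∈ M.V)
    (h' : ⁅x, y'⁆ ∈ M.V) : M.γ ⁅x, y * y'⁆ = M.γ ⁅x, y⁆ + M.γ ⁅x, y'⁆ := by
  rw [comm_mul_right, cjV M hc h', M.γ_add _ h _ h']

theorem γcc {x y : G} (h : Commute x y) : M.γ ⁅x, y⁆ = 0 := by
  rw [commutatorElement_eq_one_iff_commute.2 h, M.γ_one]

theorem γH (k : Fˣ) {v : G} (hv : v ∈ M.V) : M.γ (M.h k * v * (M.h k)⁻¹) = k * M.γ v := by
  obtain ⟨b, rfl⟩ := hv; rw [M.h_v, M.γ_v, M.γ_v]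

theorem H_t (k : Fˣ) : M.h k * M.t * (M.h k)⁻¹ = M.t := conj_eq_of_commute (M.t_h k).symm

theorem mem_CV {g : G} : g ∈ Cs M.V ↔ ∀ b, Commute g (M.v b) :=
  StdSz.mem_Cs.trans ⟨fun h b => h _ (M.v_mem b), by rintro h _ ⟨b, rfl⟩; exact h b⟩

include M in
theorem exists_k : ∃ k : Fˣ, (k : F) + 1 ≠ 0 := by
  obtain ⟨l, h0, h1⟩ := StdU3.exists_ne_01 M.big
  exact ⟨Units.mk0 l h0, fun h => h1 (M.add_eq_zeroF.1 h)⟩

/-- The action on `V`. -/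
noncomputable def lam (g : G) (c : F) : F := M.γ (g * M.v c * g⁻¹)

variable {M} {g g' : G}

theorem v_lam (hg : g ∈ Ns M.V) (c : F) : g * M.v c * g⁻¹ = M.v (lam M g c) :=
  (M.v_γ (mem_normalizer_conj hg (M.v_mem c))).symm

theorem lam_add (hg : g ∈ Ns M.V) (c d : F) : lam M g (c + d) = lam M g c + lam M g d :=
  M.v_inj (by rw [M.v_add, ← v_lam hg, ← v_lam hg, ← v_lam hg, M.v_add, conj_mul])

theorem lam_zero : lam M g 0 = 0 := by simp [lam, M.γ_one]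

theorem lam_mul (hg' : g' ∈ Ns M.V) (c : F) : lam M (g * g') c = lam M g (lam M g' c) := by
  rw [lam, lam, ← v_lam hg']; congr 1; group

theorem lam_of_cent (h : ∀ b, Commute g (M.v b)) (c : F) : lam M g c = c := by
  rw [lam, conj_eq_of_commute (h c), M.γ_v]

theorem lam_h (k : Fˣ) (c : F) : lam M (M.h k) c = k * c := by rw [lam, M.h_v, M.γ_v]

theorem lam_eq_zero (hg : g ∈ Ns M.V) {c : F} (h : lam M g c = 0) : c = 0 := by
  have := v_lam hg c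
  rwa [h, M.v_zero, conj_eq_one_iff, M.v_eq_one] at this

end

/-- A copy of `Inv` carrying the lemmas of this file. -/
def IV (D : Dat G F) (U : Subgroup G) : Prop := Inv D U

namespace IV

variable {D : Dat G F} {W : Subgroup G} (h : IV D W)
include h

theorem mul_t {w : G} (hw : w ∈ W) : w * D.t = D.t * w⁻¹ := by
  rw [← h.inv w hw, mul_assoc D.t w, D.tt_mul]

theorem comm {w w' : G} (hw : w ∈ W) (hw' : w' ∈ W) : Commute w w' := by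
  have h1 := h.inv _ (W.mul_mem hw hw')
  rw [show D.t * (w * w') * D.t = D.t * w * (w' * D.t) by group, ← D.tt_mul (w' * D.t),
    ← mul_assoc, ← mul_assoc D.t w', h.inv w hw, h.inv w' hw', ← mul_inv_rev, inv_inj] at h1
  exact h1.symm

theorem v_mem (b : F) : D.v b ∈ W := h.V_le (D.v_mem b)

theorem cW {w : G} (hw : w ∈ W) (b : F) : Commute w (D.v b) := h.comm hw (h.v_mem b)

theorem omega {w : G} (hw : w ∈ W) (h2 : w * w = 1) : w ∈ D.V := by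
  have hc : Commute w D.t := by
    rw [Commute, SemiconjBy, h.mul_t hw, inv_eq_of_mul_eq_one_right h2]
  obtain ⟨b, e | e⟩ := D.mem_W.1 (D.mem_W_of_pow hc (h.cW hw) (k := 1) (by rw [pow_one, sq, h2]))
  · exact ⟨b, e⟩
  · exact absurd ((W.mul_mem_cancel_right (h.v_mem b)).1 (e ▸ hw)) h.t_not

theorem tN : D.t ∈ Ns W := mem_Ns fun w hw => by rw [D.t_inv, h.inv w hw]; exact W.inv_mem hw

theorem nf {x : G} (hx : x ∈ W ⊔ zpowers D.t) : ∃ w ∈ W, x = w ∨ x = D.t * w :=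
  ((StdU3.mem_sup_invol D.t_sq h.tN).1 hx).elim (fun hx => ⟨x, hx, Or.inl rfl⟩)
    fun hx => ⟨_, hx, Or.inr (D.tt_mul x).symm⟩

theorem tw_mem {w : G} (hw : w ∈ W) : D.t * w ∈ W ⊔ zpowers D.t :=
  mul_mem (mem_sup_right (mem_zpowers _)) (mem_sup_left hw)

theorem two_sup : IsPGroup 2 (W ⊔ zpowers D.t : Subgroup G) := by
  rw [sup_comm]
  exact (two_zpowers (k := 1) (by rw [pow_one, sq, D.t_sq])).to_sup_of_normal_right' h.two
    (zpowers_le.2 h.tN)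

theorem tw_sq {w : G} (hw : w ∈ W) : D.t * w * (D.t * w) = 1 := by
  rw [← mul_assoc, h.inv w hw, inv_mul_cancel]

theorem cV {x : G} (hx : x ∈ W ⊔ zpowers D.t) (b : F) : Commute x (D.v b) := by
  obtain ⟨w, hw, rfl | rfl⟩ := h.nf hx
  · exact h.cW hw b
  · exact (D.t_v b).mul_left (h.cW hw b)

theorem cO {o x : G} (ho : o ∈ D.O) (hx : x ∈ W ⊔ zpowers D.t) : Commute o x := by
  obtain ⟨w, hw, rfl | rfl⟩ := h.nf hx
  · exact h.O_c o ho _ hw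
  · exact (D.K_t o (D.O_le ho)).mul_right (h.O_c o ho w hw)

theorem exists_exp : ∃ n, (∀ w ∈ W, w ^ 2 ^ (n + 1) = 1) ∧
    ∀ b, ∃ w ∈ W, w ^ 2 ^ n = D.v b := by
  classical
  have : Fact (Nat.Prime 2) := ⟨Nat.prime_two⟩
  have hex : ∃ n, ∀ w ∈ W, w ^ 2 ^ n = 1 := by
    obtain ⟨n, hn⟩ := IsPGroup.iff_card.1 h.two
    exact ⟨n, fun w hw => by
      rw [← hn]; exact congrArg Subtype.val (pow_card_eq_one' (x := (⟨w, hw⟩ : W)))⟩
  have h2 : 1 ≤ Nat.find hex := by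
    by_contra hlt
    have h1 := Nat.find_spec hex _ (h.v_mem 1)
    rw [show Nat.find hex = 0 by omega, pow_zero, pow_one] at h1
    exact D.v1_ne h1
  obtain ⟨j, hj⟩ := Nat.exists_eq_add_of_le' h2
  have h1 := Nat.find_spec hex
  have h3 := Nat.find_min hex (show j < Nat.find hex by omega)
  rw [hj] at h1
  push Not at h3
  obtain ⟨w, hw, hne⟩ := h3
  obtain ⟨b0, hb0⟩ := h.omega (W.pow_mem hw (2 ^ j))
    (by rw [← pow_add, ← two_mul, ← pow_succ', h1 w hw])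
  have hb : b0 ≠ 0 := by rintro rfl; exact hne (hb0.trans D.v_zero)
  refine ⟨j, h1, fun b => ?_⟩
  by_cases h0 : b = 0
  · exact ⟨1, one_mem _, by rw [h0, D.v_zero, one_pow]⟩
  obtain ⟨k, e⟩ := D.exists_h hb h0
  exact ⟨_, mem_normalizer_conj (h.B_le (D.h_mem_B k)) hw, by rw [conj_pow, hb0, e]⟩

theorem pow_root {j : ℕ} (hη : ∀ b, ∃ w ∈ W, w ^ 2 ^ j = D.v b) (i : ℕ) :
    ∀ r, i + r = j + 1 → ∀ w ∈ W, w ^ 2 ^ i = 1 → ∃ w' ∈ W, w = w' ^ 2 ^ r := by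
  induction i with
  | zero => exact fun r _ w _ e => ⟨1, one_mem _, by simpa using e⟩
  | succ i ih =>
    intro r hr w hw e
    obtain ⟨b, hb⟩ := h.omega (W.pow_mem hw (2 ^ i)) (by rw [← pow_add, ← two_mul, ← pow_succ', e])
    obtain ⟨u, hu, hu'⟩ := hη b
    have hu2 := W.pow_mem hu (2 ^ r)
    obtain ⟨w', hw', e'⟩ := ih (r + 1) (by omega) _ (W.mul_mem hw (W.inv_mem hu2)) (by
      rw [(h.comm hw (W.inv_mem hu2)).mul_pow, inv_pow, ← pow_mul, ← pow_add,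
        show r + i = j by omega, hu', hb, mul_inv_cancel])
    refine ⟨w' ^ 2 * u, W.mul_mem (W.pow_mem hw' _) hu, ?_⟩
    rw [(h.comm (W.pow_mem hw' _) hu).mul_pow, ← pow_mul, ← pow_succ', ← e', inv_mul_cancel_right]

theorem root {j : ℕ} (hη : ∀ b, ∃ w ∈ W, w ^ 2 ^ (j + 1) = D.v b) (b : F) :
    ∃ w ∈ W, w * w = D.v b := by
  obtain ⟨w, hw, e⟩ := hη b
  exact ⟨_, W.pow_mem hw (2 ^ j), by rw [← pow_add, ← two_mul, ← pow_succ', e]⟩

theorem conj_t_sq {x : G} (hx : x ∈ W ⊔ zpowers D.t) :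
    ∃ w ∈ W, x * D.t * x⁻¹ = D.t * (w * w) := by
  obtain ⟨w, hw, rfl | rfl⟩ := h.nf hx
  · exact ⟨_, W.inv_mem hw, by rw [h.mul_t hw, mul_assoc]⟩
  · refine ⟨w, hw, ?_⟩
    rw [mul_assoc D.t w, h.mul_t hw, D.tt_mul, mul_inv_rev, D.t_inv, h.mul_t (W.inv_mem hw),
      ← mul_assoc, h.mul_t (W.inv_mem hw), inv_inv, mul_assoc]

theorem B_le_N : D.B ≤ D.NU W :=
  Solv.PG.le_normalizer_sup h.B_le fun _ hg => mem_Ns (by
    rintro _ ⟨n, rfl⟩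
    rw [conj_eq_of_commute ((D.mem_B.1 hg).1.zpow_right n)]
    exact zpow_mem_zpowers _ n)

variable (hW : Ns D.W ≤ Ns D.V)
include hW

theorem N_U : D.NU W ≤ Ns W := by
  by_cases h2 : ∀ w ∈ W, w * w = 1
  · obtain rfl : W = D.V := le_antisymm (fun w hw => h.omega hw (h2 w hw)) h.V_le
    exact hW
  push Not at h2
  obtain ⟨w0, hw0, n0⟩ := h2
  intro g hg
  have k : ∀ w ∈ W, w * w ≠ 1 → g * w * g⁻¹ ∈ W := fun w hw n => by
    obtain ⟨u, hu, e | e⟩ := h.nf (mem_normalizer_conj hg (mem_sup_left hw))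
    · exact e ▸ hu
    · have := h.tw_sq hu
      rw [← e, conj_sq, conj_eq_one_iff] at this
      exact absurd this n
  refine mem_Ns fun w hw => ?_
  by_cases n : w * w = 1
  swap
  · exact k w hw n
  have := k _ (W.mul_mem hw hw0) (by
    rwa [(h.comm hw hw0).symm.mul_mul_mul_comm, n, one_mul])
  rwa [← conj_mul, W.mul_mem_cancel_right (k w0 hw0 n0)] at this

theorem N_V : D.NU W ≤ Ns D.V := fun g hg => mem_Ns fun v hv =>
  h.omega (mem_normalizer_conj (h.N_U hW hg) (h.V_le hv)) (by rw [conj_sq, D.V_sq hv]; group)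

omit hW in
theorem N_O : D.NU W ≤ Ns D.O := fun g hg => mem_Ns fun o ho => by
  have k : ∀ x ∈ W ⊔ zpowers D.t, Commute (g * o * g⁻¹) x := fun x hx => by
    have := commute_conj (h.cO ho (mem_normalizer_conj' hg hx)) g
    rwa [show g * (g⁻¹ * x * g) * g⁻¹ = x by group] at this
  refine D.mem_O_iff.2 ⟨k _ (mem_sup_right (mem_zpowers _)), fun b => k _ (mem_sup_left (h.v_mem b)),
    ?_⟩
  exact (MulEquiv.orderOf_eq (MulAut.conj g) o).symm ▸ odd_orderOf D.O_odd ho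

theorem conj_t {g : G} (hg : g ∈ D.NU W) : ∃ w ∈ W, g * D.t * g⁻¹ = D.t * w := by
  obtain ⟨w, hw, e | e⟩ := h.nf (mem_normalizer_conj hg (mem_sup_right (mem_zpowers D.t)))
  · refine absurd ?_ h.t_not
    have := mem_normalizer_conj' (h.N_U hW hg) hw
    rwa [← e, show g⁻¹ * (g * D.t * g⁻¹) * g = D.t by group] at this
  · exact ⟨w, hw, e⟩

end IV

/-- An inverted subgroup of exponent `2 ^ (n + 1)`. -/
structure Fr (D : Dat G F) (W : Subgroup G) (n : ℕ) : Prop where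
  iv : IV D W
  hW : Ns D.W ≤ Ns D.V
  exp : ∀ w ∈ W, w ^ 2 ^ (n + 1) = 1
  surj : ∀ b, ∃ w ∈ W, w ^ 2 ^ n = D.v b

/-- The top coordinate on `W`. -/
noncomputable def η (D : Dat G F) (n : ℕ) (w : G) : F := D.γ (w ^ 2 ^ n)

/-- The image of the base point. -/
noncomputable def pp (D : Dat G F) (n : ℕ) (g : G) : F := η D n (D.t * (g * D.t * g⁻¹))

/-- The level above `⟨t⟩ W`; `W` has exponent `2 ^ (n + 1)`. -/
structure IL (D : Dat G F) (n : ℕ) where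
  /-- the homocyclic subgroup -/
  W : Subgroup G
  /-- the new subgroup of `C(V)` -/
  Z : Subgroup G
  /-- the new coordinate -/
  p : G → F
  fr : Fr D W n
  two : IsPGroup 2 Z
  W_le : W ≤ Z
  t_not : D.t ∉ Z
  cV : ∀ {z}, z ∈ Z → ∀ b, Commute z (D.v b)
  NW : Z ≤ Ns W
  p_add : AddOn Z p
  p_surj : ∀ b, ∃ z ∈ Z, p z = b
  ker : ∀ z ∈ Z, p z = 0 → z ∈ W
  p_W : ∀ w ∈ W, p w = 0
  B_le : D.B ≤ Ns Z
  p_H : ∀ k : Fˣ, ∀ z ∈ Z, p (D.h k * z * (D.h k)⁻¹) = k * p z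
  O_c : ∀ o ∈ D.O, ∀ z ∈ Z, Commute o z
  pt : ∀ z ∈ Z, ∃ w ∈ W, z * D.t * z⁻¹ = D.t * w ∧ η D n w = p z

namespace Fr

variable {D : Dat G F} {W : Subgroup G} {n : ℕ} (h : Fr D W n) {g g' w x : G}
include h

theorem pow_memV {i : ℕ} (hw : w ∈ W) (e : w ^ 2 ^ (i + 1) = 1) : w ^ 2 ^ i ∈ D.V :=
  h.iv.omega (W.pow_mem hw _) (by rw [← pow_two, ← pow_mul, ← pow_succ, e])

theorem v_η (hw : w ∈ W) : D.v (η D n w) = w ^ 2 ^ n := D.v_γ (h.pow_memV hw (h.exp w hw))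

theorem η_add : AddOn W (η D n) := fun w hw w' hw' => by
  rw [η, (h.iv.comm hw hw').mul_pow,
    D.γ_add _ (h.pow_memV hw (h.exp w hw)) _ (h.pow_memV hw' (h.exp w' hw'))]
  rfl

theorem η_onto (b : F) : ∃ w ∈ W, η D n w = b := by
  obtain ⟨w, hw, e⟩ := h.surj b
  exact ⟨w, hw, by rw [η, e, D.γ_v]⟩

theorem η_c (g : G) (hw : w ∈ W) : η D n (g * w * g⁻¹) = lam D.toMod g (η D n w) := by
  rw [lam, h.v_η hw, η, conj_pow]

theorem η_root (hw : w ∈ W) (e : η D n w = 0) : ∃ w' ∈ W, w = w' ^ 2 := by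
  simpa using h.iv.pow_root h.surj n 1 rfl w hw (by rw [← h.v_η hw, e, D.v_zero])

omit h in
theorem ep (e : g * D.t * g⁻¹ = D.t * w) : pp D n g = η D n w := by rw [pp, e, D.tt_mul]

theorem N_U : D.NU W ≤ Ns W := h.iv.N_U h.hW

theorem N_V : D.NU W ≤ Ns D.V := h.iv.N_V h.hW

theorem cocy (hg : g ∈ D.NU W) (hg' : g' ∈ D.NU W) :
    pp D n (g * g') = lam D.toMod g (pp D n g') + pp D n g := by
  obtain ⟨w, hw, e⟩ := h.iv.conj_t h.hW hg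
  obtain ⟨w', hw', e'⟩ := h.iv.conj_t h.hW hg'
  rw [ep e, ep e', ← h.η_c g hw', add_comm, ← h.η_add _ hw _ (mem_normalizer_conj (h.N_U hg) hw')]
  refine ep ?_
  rw [← mul_assoc, ← e, conj_mul, ← e']; group

theorem pC (hc : Commute g D.t) : pp D n g = 0 := by
  rw [ep (w := 1) (by rw [conj_eq_of_commute hc, mul_one]), h.η_add.one]

theorem pA (hx : x ∈ W ⊔ zpowers D.t) : pp D n x = 0 := by
  obtain ⟨u, hu, e⟩ := h.iv.conj_t_sq hx
  rw [ep e, h.η_add u hu u hu, D.addF]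

theorem conj_of (hg : g ∈ D.NU W) (hw : w ∈ W) (e : pp D n g = η D n w) :
    ∃ u ∈ W, u * g * D.t * (u * g)⁻¹ = D.t * w := by
  obtain ⟨a, ha, e1⟩ := h.iv.conj_t h.hW hg
  obtain ⟨u, hu, h3⟩ := h.η_root (W.mul_mem (W.inv_mem ha) hw) (by
    rw [h.η_add _ (W.inv_mem ha) _ hw, h.η_add.inv ha, ← ep e1, e, neg_add_cancel])
  refine ⟨u⁻¹, W.inv_mem hu, ?_⟩
  rw [show u⁻¹ * g * D.t * (u⁻¹ * g)⁻¹ = u⁻¹ * (g * D.t * g⁻¹) * u by group, e1, ← mul_assoc,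
    h.iv.mul_t (W.inv_mem hu), inv_inv, mul_assoc D.t, (h.iv.comm hu ha).eq, mul_assoc,
    mul_assoc, ← pow_two, ← h3, mul_inv_cancel_left]

theorem p0 (hg : g ∈ D.NU W) (e : pp D n g = 0) : ∃ u ∈ W, Commute (u * g) D.t := by
  obtain ⟨u, hu, e1⟩ := h.conj_of hg W.one_mem (e.trans h.η_add.one.symm)
  exact ⟨u, hu, commute_of_conj_eq (e1.trans (mul_one _))⟩

theorem cent0 (hg : g ∈ D.NU W) (hc : ∀ b, Commute g (D.v b)) (e : pp D n g = 0) :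
    ∃ a ∈ W ⊔ zpowers D.t, ∃ o ∈ D.O, g = a * o := by
  obtain ⟨u, hu, e1⟩ := h.p0 hg e
  obtain ⟨a, ha, o, ho, e2⟩ := D.cent' e1 fun b => (h.iv.cW hu b).mul_left (hc b)
  exact ⟨u⁻¹ * a, mul_mem (mem_sup_left (W.inv_mem hu)) (sup_le_sup_right h.iv.V_le _ ha), o, ho,
    by rw [mul_assoc, ← e2, inv_mul_cancel_left]⟩

theorem h_N (k : Fˣ) : D.h k ∈ D.NU W := h.iv.B_le_N (D.h_mem_B k)

theorem pH (k : Fˣ) (hg : g ∈ D.NU W) : pp D n (D.h k * g * (D.h k)⁻¹) = k * pp D n g := by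
  rw [h.cocy (mul_mem (h.h_N k) hg) (inv_mem (h.h_N k)), h.pC (D.t_h k).symm.inv_left, lam_zero,
    h.cocy (h.h_N k) hg, h.pC (D.t_h k).symm, lam_h, zero_add, add_zero]

theorem pY : AddOn (D.NU W ⊓ Cs D.V) (pp D n) := fun y hy y' hy' => by
  rw [h.cocy hy.1 hy'.1, lam_of_cent ((mem_CV _).1 hy.2), add_comm]

omit h in
theorem h_O (k : Fˣ) : D.h k ∈ Cs D.O := StdSz.mem_Cs.2 fun o ho => (D.K_h o (D.O_le ho) k).symm

theorem N_N1 : D.NU W ≤ Ns (D.NU W ⊓ Cs D.O) :=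
  Solv.PG.le_normalizer_inf le_normalizer (Solv.PG.le_normalizer_centralizer h.iv.N_O)

theorem A_le : W ⊔ zpowers D.t ≤ D.NU W ⊓ Cs D.O :=
  le_inf le_normalizer fun _ hx => StdSz.mem_Cs.2 fun _ ho => (h.iv.cO ho hx).symm

/-- The affine action on the points `t u U²`. -/
theorem aff (hg : g ∈ D.NU W) (hp : pp D n g ≠ 0) :
    (∀ c, ∃ y ∈ D.NU W ⊓ Cs D.O ⊓ Cs D.V, pp D n y = c) ∨ Exc D W := by
  let φ : D.NU W →* Equiv.Perm F := MonoidHom.toHomPerm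
    { toFun := fun g x => lam D.toMod g x + pp D n g
      map_one' := funext fun x => by
        rw [coe_one, lam_of_cent fun _ => Commute.one_left _, h.pC (Commute.one_left _), add_zero]
        rfl
      map_mul' := fun g g' => funext fun x => by
        change _ = lam D.toMod g (lam D.toMod g' x + pp D n g') + pp D n g
        rw [coe_mul, lam_mul (h.N_V g'.2), h.cocy g.2 g'.2, lam_add (h.N_V g.2), add_assoc] }
  have hφ : ∀ g x, φ g x = lam D.toMod g x + pp D n g := fun _ _ => rfl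
  obtain ⟨Γ, m1, m2⟩ : ∃ Γ : Subgroup (Equiv.Perm F),
      (∀ σ ∈ Γ, ∃ g ∈ D.NU W ⊓ Cs D.O, ∀ x, σ x = lam D.toMod g x + pp D n g) ∧
      ∀ g ∈ D.NU W ⊓ Cs D.O, ∃ σ ∈ Γ, ∀ x, σ x = lam D.toMod g x + pp D n g :=
    ⟨((Cs D.O).subgroupOf _).map φ, by
      rintro _ ⟨g, hg, rfl⟩; exact ⟨g, ⟨g.2, hg⟩, hφ g⟩,
      fun g hg => ⟨φ ⟨g, hg.1⟩, ⟨_, hg.2, rfl⟩, hφ _⟩⟩
  obtain ⟨k, hk⟩ := exists_k D.toMod
  have hk1 : ∀ k, D.h k ∈ D.NU W ⊓ Cs D.O := fun k => ⟨h.h_N k, h_O k⟩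
  rcases affine D.two D.big Γ (fun σ hσ x y => by
      obtain ⟨g, hg, e⟩ := m1 σ hσ
      simp only [e, lam_add (h.N_V hg.1), lam_zero]
      linear_combination -D.addF (pp D n g))
    (fun k => by
      obtain ⟨σ, hσ, e⟩ := m2 _ (hk1 k)
      exact ⟨σ, hσ, fun x => by rw [e, lam_h, h.pC (D.t_h k).symm, add_zero]⟩)
    (fun σ hσ h0 => by
      obtain ⟨g, hg, e⟩ := m1 σ hσ
      rw [e, lam_zero, zero_add] at h0
      obtain ⟨u, hu, e1⟩ := h.p0 hg.1 h0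
      obtain ⟨k, τ, e2⟩ := D.semi _ e1 (mul_mem (D.mem_Ns_V (h.iv.cW hu)) (h.N_V hg.1))
      refine ⟨k, τ, fun x => ?_⟩
      rw [e, h0, add_zero, ← lam_of_cent (h.iv.cW hu) (lam _ g x), ← lam_mul (h.N_V hg.1), lam, e2,
        D.γ_v])
    (by
      obtain ⟨σ, hσ, e⟩ := m2 _ (mem_normalizer_conj (h.N_N1 hg) (hk1 k))
      refine ⟨σ, hσ, fun h0 => hp ?_⟩
      have h1 := h.cocy hg (inv_mem hg)
      rw [e, lam_zero, zero_add, mul_assoc, h.cocy hg (mul_mem (h.h_N k) (inv_mem hg)),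
        h.cocy (h.h_N k) (inv_mem hg), h.pC (D.t_h k).symm, lam_h, add_zero] at h0
      rw [mul_inv_cancel, h.pC (Commute.one_left _)] at h1
      have h2 : lam D.toMod g ((k + 1) * pp D n g⁻¹) = 0 := by
        rw [add_mul, one_mul, lam_add (h.N_V hg)]
        linear_combination h0 - h1 - D.addF (pp D n g)
      rw [(mul_eq_zero.1 (lam_eq_zero (h.N_V hg) h2)).resolve_left hk, lam_zero, zero_add] at h1
      exact h1.symm) with h1 | ⟨h8, h1, h2, h3⟩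
  · refine Or.inl fun c => ?_
    obtain ⟨σ, hσ, e⟩ := h1 c
    obtain ⟨y, hy, e'⟩ := m1 σ hσ
    have e0 : pp D n y = c := by simpa [e, lam_zero] using (e' 0).symm
    refine ⟨y, ⟨hy, (mem_CV _).2 fun b => commute_of_conj_eq ?_⟩, e0⟩
    have := e' b
    rw [e, e0, add_left_inj] at this
    rw [v_lam (h.N_V hy.1), ← this]
  refine Or.inr ⟨h.iv, h8, h.N_V, h.N_U, fun y hy hc => ?_, fun L => ?_, fun u hu => ?_⟩
  · have c1 : D.h k * y * (D.h k)⁻¹ ∈ D.NU W ⊓ Cs D.V :=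
      ⟨Subgroup.mul_mem _ (mul_mem (h.h_N k) hy) (inv_mem (h.h_N k)), mem_normalizer_conj
        (normalizer_le_normalizer_centralizer _ (D.h_mem_B k).2) ((mem_CV _).2 hc)⟩
    have c2 : y⁻¹ ∈ D.NU W ⊓ Cs D.V := Subgroup.inv_mem _ ⟨hy, (mem_CV _).2 hc⟩
    obtain ⟨σ, hσ, e⟩ := m2 (D.h k * y * (D.h k)⁻¹ * y⁻¹) (by
      rw [mul_assoc, mul_assoc, ← mul_assoc y]
      exact mul_mem (hk1 k) (mem_normalizer_conj (h.N_N1 hy) (inv_mem (hk1 k))))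
    simp only [lam_of_cent ((mem_CV _).1 (mul_mem c1 c2).2)] at e
    have e0 := e 0
    rw [h1 σ hσ fun x => by rw [e, e, zero_add], zero_add, h.pY _ c1 _ c2, h.pH k hy,
      h.pY.inv ⟨hy, (mem_CV _).2 hc⟩, D.negF] at e0
    obtain ⟨a, ha, o, ho, rfl⟩ := h.cent0 hy hc ((mul_eq_zero.1
      (show (k + 1) * pp D n y = 0 by rw [add_mul, one_mul, ← e0]; rfl)).resolve_left hk)
    obtain ⟨u, hu, rfl | rfl⟩ := h.iv.nf ha
    · exact ⟨_, hu, o, ho, Or.inl rfl⟩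
    · exact ⟨u, hu, o, ho, Or.inr (mul_assoc _ _ _)⟩
  · obtain ⟨σ, hσ, e⟩ := h3 L
    obtain ⟨y, hy, e'⟩ := m1 σ hσ
    refine ⟨y, hy, fun b => ?_⟩
    have := e b
    rw [e', e', lam_zero, zero_add, add_left_inj] at this
    rw [v_lam (h.N_V hy.1), this]
  · obtain ⟨σ, hσ, e⟩ := h2 (η D n u)
    obtain ⟨y, hy, e'⟩ := m1 σ hσ
    rw [e', lam_zero, zero_add] at e
    obtain ⟨a, ha, e1⟩ := h.conj_of hy.1 hu e
    exact ⟨a * y, mul_mem (h.A_le (mem_sup_left ha)) hy, e1⟩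

/-- The next level. -/
theorem level (hs : ∀ c, ∃ y ∈ D.NU W ⊓ Cs D.O ⊓ Cs D.V, pp D n y = c) :
    ∃ L : IL D n, L.W = W := by
  set Y := D.NU W ⊓ Cs D.O ⊓ Cs D.V with hY
  have hYN : Y ≤ D.NU W ⊓ Cs D.V := inf_le_inf_right _ inf_le_left
  have hp := h.pY.mono hYN
  have hk : ∀ y ∈ Y, pp D n y = 0 → ∃ a ∈ W ⊔ zpowers D.t, ∃ o ∈ D.O, y = a * o :=
    fun y hy => h.cent0 hy.1.1 ((mem_CV _).1 hy.2)
  obtain ⟨P, hP, hm, hd⟩ := exists_two_part (Y := Y) D.O_odd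
    (fun y hy => StdSz.mem_Cs.1 hy.1.2) fun y hy => by
      obtain ⟨a, ha, o, ho, e⟩ := hk _ (Y.mul_mem hy hy) (by rw [hp y hy y hy, D.addF])
      obtain ⟨k, hk⟩ := pow_of_two h.iv.two_sup ha
      refine ⟨k + 1, ?_⟩
      rw [pow_succ', pow_mul, sq, e, (h.iv.cO ho ha).symm.mul_pow, hk, one_mul]
      exact D.O.pow_mem ho _
  have hAP : W ⊔ zpowers D.t ≤ P := fun a ha =>
    (hm a).2 ⟨⟨h.A_le ha, (mem_CV _).2 (h.iv.cV ha)⟩, pow_of_two h.iv.two_sup ha⟩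
  have hPY : P ≤ Y := fun y hy => ((hm y).1 hy).1
  have hNY : D.NU W ≤ Ns Y :=
    Solv.PG.le_normalizer_inf h.N_N1 (Solv.PG.le_normalizer_centralizer h.N_V)
  have hNP : D.NU W ≤ Ns P := fun g hg => mem_Ns fun y hy => by
    obtain ⟨h1, k, hk⟩ := (hm y).1 hy
    exact (hm _).2 ⟨mem_normalizer_conj (hNY hg) h1, k, by rw [conj_pow, hk]; group⟩
  have pk : ∀ y ∈ P, pp D n y = 0 → y ∈ W ⊔ zpowers D.t := fun y hy h0 => by
    obtain ⟨a, ha, o, ho, rfl⟩ := hk y (hPY hy) h0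
    obtain ⟨k, hk⟩ := pow_of_two hP ((P.mul_mem_cancel_left (hAP ha)).1 hy)
    rw [StdU3.eq_one_of_odd_pow (odd_orderOf D.O_odd ho) hk, mul_one]
    exact ha
  have ps : ∀ c, ∃ y ∈ P, pp D n y = c := fun c => by
    obtain ⟨y, hy, rfl⟩ := hs c
    obtain ⟨x, hx, o, ho, rfl⟩ := hd y hy
    exact ⟨x, hx, by rw [pp, pp, show x * o * D.t * (x * o)⁻¹ = x * (o * D.t * o⁻¹) * x⁻¹ by group,
      conj_eq_of_commute (D.K_t o (D.O_le ho))]⟩
  have hp2 : AddOn P (pp D n) := hp.mono hPY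
  have htP : D.t ∈ P := hAP (mem_sup_right (mem_zpowers _))
  have cV : ∀ {x}, x ∈ P → ∀ b, Commute x (D.v b) := fun hx => (mem_CV _).1 (hPY hx).2
  obtain ⟨Z, z1, z2, z3, z4, z5⟩ := StdU3.exists_compl_invol (W := W) (B := P) (H := D.h.range)
    (le_sup_left.trans hAP) htP h.iv.t_not D.t_sq
    (fun x hx => by
      obtain ⟨w, hw, e | e⟩ := h.iv.nf (pk _ (P.mul_mem hx hx) (by rw [hp2 x hx x hx, D.addF]))
      · exact e ▸ hw
      obtain ⟨y, hy, e1⟩ := ps (η D n w)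
      obtain ⟨u, hu, e2⟩ := h.conj_of (hPY hy).1.1 hw e1
      have m := P.mul_mem (hAP (mem_sup_left hu)) hy
      have m' := P.mul_mem (P.mul_mem (P.inv_mem m) hx) m
      have e3 : (u * y)⁻¹ * x * (u * y) * ((u * y)⁻¹ * x * (u * y)) = D.t := by
        rw [show (u * y)⁻¹ * x * (u * y) * ((u * y)⁻¹ * x * (u * y)) =
          (u * y)⁻¹ * (x * x) * (u * y) by group, e, ← e2]; group
      obtain ⟨k, hk⟩ := pow_of_two hP m'
      exact absurd (e3.symm.trans (D.W_sq (D.mem_W_of_pow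
        (e3 ▸ (Commute.refl _).mul_right (.refl _)) (cV m') hk))) D.t_ne)
    D.odd_h (by rintro _ ⟨k, rfl⟩; exact h.iv.B_le (D.h_mem_B k))
    (by rintro _ ⟨k, rfl⟩; exact hNP (h.h_N k)) (by rintro _ ⟨k, rfl⟩; exact (D.t_h k).symm)
  have hZ : ∀ k, ∀ z ∈ Z, D.h k * z * (D.h k)⁻¹ ∈ Z := fun k z hz =>
    mem_normalizer_conj (z5 ⟨k, rfl⟩) hz
  have psZ : ∀ b, ∃ z ∈ Z, pp D n z = b := fun b => by
    obtain ⟨y, hy, rfl⟩ := ps b
    rcases z4 _ hy with h1 | h1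
    · exact ⟨_, h1, rfl⟩
    · exact ⟨_, h1, by rw [hp2 _ htP _ hy, h.pC (.refl _), zero_add]⟩
  have kZ : ∀ z ∈ Z, pp D n z = 0 → z ∈ W := fun z hz h0 => by
    obtain ⟨w, hw, e | e⟩ := h.iv.nf (pk z (z2 hz) h0)
    · exact e ▸ hw
    · exact absurd ((Z.mul_mem_cancel_right (z1 hw)).1 (e ▸ hz)) z3
  have tZ : ∀ z ∈ Z, D.t * z * D.t ∈ Z := fun z hz => by
    obtain ⟨w, hw, e⟩ := h.iv.conj_t h.hW (hPY (z2 hz)).1.1
    rw [show D.t * z * D.t = D.t * (z * D.t * z⁻¹) * z by group, e, D.tt_mul]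
    exact Z.mul_mem (z1 hw) hz
  have hc : ∀ k, ∀ x ∈ P, D.h k * x * (D.h k)⁻¹ * x⁻¹ ∈ Z := fun k x hx => by
    rcases z4 x hx with h1 | h1
    · exact Z.mul_mem (hZ k x h1) (Z.inv_mem h1)
    · have := tZ _ (Z.mul_mem (hZ k _ h1) (Z.inv_mem h1))
      rw [← conj_mul, H_t, mul_inv_rev, D.t_inv] at this
      simpa only [mul_assoc, D.tt_mul, D.t_sq, mul_one] using this
  refine ⟨⟨W, Z, pp D n, h, hP.to_le z2, z1, z3, fun hz => cV (z2 hz),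
    fun z hz => h.N_U (hPY (z2 hz)).1.1, hp2.mono z2, psZ, kZ,
    fun w hw => h.pA (mem_sup_left hw), fun g hg => mem_Ns fun z hz => ?_,
    fun k z hz => h.pH k (hPY (z2 hz)).1.1,
    fun o ho z hz => (StdSz.mem_Cs.1 (hPY (z2 hz)).1.2 o ho).symm, fun z hz => ?_⟩, rfl⟩
  · obtain ⟨k, hk⟩ := exists_k D.toMod
    obtain ⟨y, hy, e⟩ := psZ (pp D n z / (k + 1))
    have m := hc k y (z2 hy)
    have hu := kZ _ (Z.mul_mem (Z.inv_mem m) hz) (by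
      rw [hp2 _ (z2 (Z.inv_mem m)) _ (z2 hz), hp2.inv (z2 m), hp2 _ (z2 (hZ k y hy)) _
        (z2 (Z.inv_mem hy)), hp2.inv (z2 hy), h.pH k (hPY (z2 hy)).1.1, e, D.negF, D.negF,
        D.add_eq_zeroF]
      field_simp)
    obtain ⟨b, k', e1⟩ := D.nh g (D.mem_B.1 hg).1 hg.2 k
    have m1 := mem_normalizer_conj (hNP (h.iv.B_le_N hg)) (z2 hy)
    have m2 := hc k' _ m1
    rw [← conj_eq_of_commute (cV (mem_normalizer_conj (hNP (h.h_N k')) m1) b).symm] at m2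
    have := Z.mul_mem m2 (z1 (mem_normalizer_conj (h.iv.B_le hg) hu))
    rwa [show D.v b * (D.h k' * (g * y * g⁻¹) * (D.h k')⁻¹) * (D.v b)⁻¹ =
      D.v b * D.h k' * (g * y * g⁻¹) * (D.v b * D.h k')⁻¹ by group, ← e1,
      show g * D.h k * g⁻¹ * (g * y * g⁻¹) * (g * D.h k * g⁻¹)⁻¹ * (g * y * g⁻¹)⁻¹ *
        (g * ((D.h k * y * (D.h k)⁻¹ * y⁻¹)⁻¹ * z) * g⁻¹) = g * z * g⁻¹ by group] at this
  · obtain ⟨w, hw, e⟩ := h.iv.conj_t h.hW (hPY (z2 hz)).1.1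
    exact ⟨w, hw, e, (ep e).symm⟩

theorem step : Ns D.W ≤ C1 D.t ∨ Top D W ∨ Exc D W ∨ ∃ L : IL D n, L.W = W := by
  by_cases hall : ∀ g ∈ D.NU W, pp D n g = 0
  swap
  · push Not at hall
    obtain ⟨g, hg, hp⟩ := hall
    exact Or.inr (Or.inr ((h.aff hg hp).symm.imp id h.level))
  cases n with
  | zero =>
    obtain rfl : W = D.V :=
      le_antisymm (fun w hw => h.iv.omega hw (by simpa [sq] using h.exp w hw)) h.iv.V_le
    refine Or.inl fun g hg => ?_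
    obtain ⟨_, ⟨b, rfl⟩, e⟩ := h.p0 hg (hall g hg)
    simpa using StdSz.mem_C1.2 ((D.t_v b).symm.inv_left.mul_left e)
  | succ j =>
    refine Or.inr (Or.inl ⟨h.iv.two, fun _ hw _ hw' => h.iv.comm hw hw', h.iv.root h.surj,
      fun _ => h.iv.omega, h.iv.t_not, h.iv.B_le, fun g hg => ?_⟩)
    obtain ⟨u, hu, e⟩ := h.p0 hg (hall g hg)
    exact ⟨u⁻¹, W.inv_mem hu, by nth_rw 2 [← conj_eq_of_commute e]; group⟩

end Fr

theorem lam_eq_1' : type_of% @lam.eq_1 := @lam.eq_1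
theorem IV_eq_1' : type_of% @IV.eq_1 := @IV.eq_1
theorem η_eq_1' : type_of% @η.eq_1 := @η.eq_1
theorem pp_eq_1' : type_of% @pp.eq_1 := @pp.eq_1

end Cfsg.Lib.SJ1.Tow
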